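import Cfsg.Agent.S3183
import Cfsg.Agent.Coprime.Basic
import Cfsg.Agent.Coprime.Sylow
import Cfsg.Agent.Solvable.FpfComplement
import Cfsg.Agent.Kinf.SylowExercises
import Cfsg.Agent.S0215
import Cfsg.Agent.Solvable.Fitting
import Cfsg.Agent.DGroup.Fusion

/-!
# Groups with central Sylow 2-intersections

`Meet G`: an element common to two Sylow 2-subgroups is central in both. Odd subgroups normalised by
a Sylow 2-subgroup are centralised by it, or the Sylow 2-subgroup has a cyclic derived group.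
-/

set_option autoImplicit false
set_option linter.unusedSectionVars false
set_option linter.style.haveILetI false

namespace CfsgLib.CentralMeet

open Subgroup
open scoped commutatorElement

universe u

/-- An element common to two Sylow 2-subgroups centralises both. -/
def Meet (G : Type*) [Group G] : Prop :=
  ∀ S T : Sylow 2 G, S ≠ T → ∀ x ∈ (S : Subgroup G), x ∈ (T : Subgroup G) →
    x ∈ centralizer ((S : Subgroup G) : Set G)

variable {G : Type u} [Group G] [Finite G]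

theorem meet_of_hyp
    (hCI : ∀ S T : Sylow 2 G, S ≠ T → ∃ U : Sylow 2 G,
      (S : Subgroup G) ⊓ (T : Subgroup G) ≤
        (Subgroup.center ↥(U : Subgroup G)).map (U : Subgroup G).subtype) : Meet G := by
  intro S T hST x hxS hxT
  obtain ⟨⟨w, hw, hwx⟩, -⟩ := (Cfsg.Agent.S3183.result hCI S).2 T hST.symm ⟨hxS, hxT⟩
  refine mem_centralizer_iff.2 fun s hs => ?_
  rw [← hwx]
  exact congrArg Subtype.val (mem_center_iff.1 hw ⟨s, hs⟩)

/-- The centre of a Sylow 2-subgroup, inside the group. -/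
def zs (S : Sylow 2 G) : Subgroup G :=
  (S : Subgroup G) ⊓ centralizer ((S : Subgroup G) : Set G)

theorem mem_zs {S : Sylow 2 G} {x : G} :
    x ∈ zs S ↔ x ∈ (S : Subgroup G) ∧ ∀ s ∈ (S : Subgroup G), s * x = x * s := by
  rw [zs, mem_inf, mem_centralizer_iff]
  rfl

theorem Meet.mem_zs_of_mem (h : Meet G) {S T : Sylow 2 G} (hST : S ≠ T) {x : G}
    (hS : x ∈ (S : Subgroup G)) (hT : x ∈ (T : Subgroup G)) : x ∈ zs S :=
  ⟨hS, h S T hST x hS hT⟩

/-- A non-central element of a Sylow 2-subgroup lies in no other one. -/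
theorem Meet.unique (h : Meet G) {S T : Sylow 2 G} {x : G} (hS : x ∈ (S : Subgroup G))
    (hx : x ∉ zs S) (hT : x ∈ (T : Subgroup G)) : T = S := by
  by_contra hne
  exact hx (h.mem_zs_of_mem (Ne.symm hne) hS hT)

theorem conj_mem_smul {S : Sylow 2 G} {x : G} (hx : x ∈ (S : Subgroup G)) (g : G) :
    g * x * g⁻¹ ∈ ((g • S : Sylow 2 G) : Subgroup G) := ⟨x, hx, rfl⟩

theorem mem_smul_iff {S : Sylow 2 G} {x g : G} :
    x ∈ ((g • S : Sylow 2 G) : Subgroup G) ↔ g⁻¹ * x * g ∈ (S : Subgroup G) := by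
  constructor
  · rintro ⟨y, hy, rfl⟩
    show g⁻¹ * (g * y * g⁻¹) * g ∈ (S : Subgroup G)
    rw [show g⁻¹ * (g * y * g⁻¹) * g = y by group]
    exact hy
  · exact fun h => ⟨_, h, show g * (g⁻¹ * x * g) * g⁻¹ = x by group⟩

theorem mem_normalizer_of_smul {S : Sylow 2 G} {g : G} (h : g • S = S) :
    g ∈ normalizer ((S : Subgroup G) : Set G) :=
  Sylow.smul_eq_iff_mem_normalizer.1 h

/-- Elements of a Sylow 2-subgroup are fused as in its normaliser. -/
theorem Meet.fusion (h : Meet G) {S : Sylow 2 G} {x g : G} (hx : x ∈ zs S)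
    (hg : g * x * g⁻¹ ∈ (S : Subgroup G)) :
    ∃ n ∈ normalizer ((S : Subgroup G) : Set G), n * x * n⁻¹ = g * x * g⁻¹ := by
  by_cases he : g • S = S
  · exact ⟨g, mem_normalizer_of_smul he, rfl⟩
  · have hz := h.mem_zs_of_mem (Ne.symm he) hg (conj_mem_smul hx.1 g)
    haveI : Fact (Nat.Prime 2) := ⟨Nat.prime_two⟩
    obtain ⟨n, hn, c, hc, rfl⟩ := Kinf.burnside_central S (a := x) (g := g)
      (fun y hy => ((mem_zs.1 hx).2 y hy).symm) (fun y hy => ((mem_zs.1 hz).2 y hy).symm)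
    refine ⟨n, hn, ?_⟩
    calc n * x * n⁻¹ = n * (x * c * c⁻¹) * n⁻¹ := by rw [mul_inv_cancel_right]
      _ = n * (c * x * c⁻¹) * n⁻¹ := by rw [hc]
      _ = n * c * x * (n * c)⁻¹ := by group

/-- In a group without odd core and normal 2-subgroup, no involution of a Sylow 2-subgroup is fixed
by the normalizer of that subgroup. -/
theorem Meet.not_fixed (h : Meet G) (hO : Cfsg.oddCore G = ⊥) (hO2 : Cfsg.pCore 2 G = ⊥)
    {S : Sylow 2 G} {c : G} (hc : orderOf c = 2) (hcS : c ∈ (S : Subgroup G))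
    (hfix : ∀ n ∈ normalizer ((S : Subgroup G) : Set G), n * c * n⁻¹ = c) : False := by
  have hcz : c ∈ zs S := mem_zs.2 ⟨hcS, fun s hs =>
    mul_inv_eq_iff_eq_mul.1 (hfix s (Subgroup.le_normalizer hs))⟩
  have hiso : ∀ g : G, g * c * g⁻¹ ∈ (S : Subgroup G) → g * c * g⁻¹ = c := fun g hg => by
    obtain ⟨n, hn, he⟩ := h.fusion hcz hg
    rw [← he, hfix n hn]
  obtain ⟨N, hN, hodd, hcomm⟩ := Cfsg.Agent.S0215.result S c hc hcS hiso
  have hcen : c ∈ center G := by
    refine mem_center_iff.2 fun g => ?_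
    have h1 := DGroup.le_oddCore hN hodd (hcomm g)
    rw [hO, mem_bot, mul_inv_eq_one, mul_inv_eq_iff_eq_mul] at h1
    exact h1.symm
  have hn : (zpowers c).Normal := ⟨fun x hx g => by
    rw [mem_center_iff.1 (zpowers_le.2 hcen hx) g, mul_inv_cancel_right]
    exact hx⟩
  have hp : IsPGroup 2 (zpowers c) := IsPGroup.of_card (n := 1) (by
    rw [Nat.card_zpowers, hc, pow_one])
  have hle : zpowers c ≤ Cfsg.pCore 2 G := le_sSup ⟨hn, hp⟩
  have h1 : c ∈ Cfsg.pCore 2 G := hle (mem_zpowers c)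
  rw [hO2, mem_bot] at h1
  rw [h1, orderOf_one] at hc
  omega

/-- An abelian-by-inversion presentation of a 2-group makes its derived subgroup cyclic. -/
theorem commutator_le_zpowers {S Z : Subgroup G} {x y : G} (hx : x ∈ S) (hy : y ∈ S) (hZS : Z ≤ S)
    (hZ : ∀ z ∈ Z, ∀ s ∈ S, s * z = z * s)
    (hC : ∀ s ∈ S, s ∈ zpowers x ⊔ Z ∨ y⁻¹ * s ∈ zpowers x ⊔ Z)
    (hn : y * x * y⁻¹ ∈ zpowers x ⊔ Z) (hy2 : y * y ∈ zpowers x ⊔ Z) :
    ⁅S, S⁆ ≤ zpowers ⁅y, x⁆ := by
  set C := zpowers x ⊔ Z with hCdef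
  have hxC : x ∈ C := mem_sup_left (mem_zpowers x)
  have hcomm : IsMulCommutative C := by
    rw [hCdef, ← closure_eq Z, zpowers_eq_closure, ← Subgroup.closure_union]
    refine isMulCommutative_closure ?_
    rintro a (rfl | ha) b (rfl | hb)
    · rfl
    · exact hZ b hb a hx
    · exact (hZ a ha b hx).symm
    · exact hZ b hb a (hZS ha)
  have hab : ∀ a ∈ C, ∀ b ∈ C, a * b = b * a := fun a ha b hb =>
    congrArg Subtype.val (hcomm.is_comm.comm ⟨a, ha⟩ ⟨b, hb⟩)
  have hσ : ∀ a ∈ C, y * a * y⁻¹ ∈ C := by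
    intro a ha
    have : C ≤ C.comap (MulAut.conj y).toMonoidHom := sup_le (zpowers_le.2 hn) fun z hz => by
      show y * z * y⁻¹ ∈ C
      rw [hZ z hz y hy, mul_inv_cancel_right]
      exact mem_sup_right hz
    exact this ha
  -- commutation with `y` is a homomorphism on `C`
  let φ : C →* G := MonoidHom.mk' (fun a => ⁅y, (a : G)⁆) fun a b => by
    simp only [commutatorElement_def, coe_mul, mul_inv_rev]
    have h1 := hab _ (inv_mem a.2) _ (mul_mem (hσ b b.2) (inv_mem b.2))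
    calc y * (a * b) * y⁻¹ * ((b : G)⁻¹ * (a : G)⁻¹)
        = y * a * y⁻¹ * ((y * b * y⁻¹ * (b : G)⁻¹) * (a : G)⁻¹) := by group
      _ = y * a * y⁻¹ * ((a : G)⁻¹ * (y * b * y⁻¹ * (b : G)⁻¹)) := by rw [h1]
      _ = _ := by group
  set D := zpowers ⁅y, x⁆
  have hφD : ∀ a ∈ C, ⁅y, a⁆ ∈ D := by
    have : C ≤ (D.comap φ).map C.subtype := by
      refine sup_le (zpowers_le.2 ⟨⟨x, hxC⟩, mem_zpowers _, rfl⟩) fun z hz => ?_
      refine ⟨⟨z, mem_sup_right hz⟩, ?_, rfl⟩
      show ⁅y, z⁆ ∈ D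
      rw [commutatorElement_eq_one_iff_mul_comm.2 (hZ z hz y hy)]
      exact one_mem _
    intro a ha
    obtain ⟨a', ha', rfl⟩ := this ha
    exact ha'
  have hDC : D ≤ C := zpowers_le.2 (mul_mem hn (inv_mem hxC))
  have hxD : ∀ a ∈ C, ∀ d ∈ D, a * d * a⁻¹ = d := fun a ha d hd => by
    rw [hab a ha d (hDC hd), mul_inv_cancel_right]
  have hyD : ∀ d ∈ D, y * d * y⁻¹ ∈ D := by
    intro d hd
    have h := hφD d (hDC hd)
    rw [commutatorElement_def] at h
    simpa using mul_mem h hd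
  have hcs : ∀ s ∈ S, ∃ e : Bool, ∃ a ∈ C, s = (if e then y else 1) * a := fun s hs => by
    rcases hC s hs with h | h
    · exact ⟨false, s, h, (one_mul s).symm⟩
    · exact ⟨true, _, h, (mul_inv_cancel_left y s).symm⟩
  rw [commutator_le]
  intro g hg k hk
  obtain ⟨e, a, ha, rfl⟩ := hcs g hg
  obtain ⟨f, b, hb, rfl⟩ := hcs k hk
  have h0 : ⁅a, b⁆ = 1 := commutatorElement_eq_one_iff_mul_comm.2 (hab a ha b hb)
  cases e <;> cases f <;>
    simp only [Bool.false_eq_true, if_false, if_true, one_mul]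
  · rw [h0]; exact one_mem _
  · have h1 : ⁅a, y * b⁆ = (⁅y, a⁆)⁻¹ := by
      rw [commutatorElement_def, commutatorElement_def, mul_inv_rev, mul_inv_rev, inv_inv,
        mul_inv_rev, mul_inv_rev, inv_inv]
      calc a * (y * b) * a⁻¹ * (b⁻¹ * y⁻¹) = a * y * (b * a⁻¹ * b⁻¹) * y⁻¹ := by group
        _ = a * y * a⁻¹ * y⁻¹ := by rw [hab b hb a⁻¹ (inv_mem ha), mul_inv_cancel_right]
        _ = a * (y * (a⁻¹ * y⁻¹)) := by group
    rw [h1]
    exact inv_mem (hφD a ha)
  · have h1 : ⁅y * a, b⁆ = ⁅y, b⁆ := by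
      rw [commutatorElement_def, commutatorElement_def, mul_inv_rev]
      calc y * a * b * (a⁻¹ * y⁻¹) * b⁻¹ = y * (a * b) * a⁻¹ * y⁻¹ * b⁻¹ := by group
        _ = y * (b * a) * a⁻¹ * y⁻¹ * b⁻¹ := by rw [hab a ha b hb]
        _ = _ := by group
    rw [h1]
    exact hφD b hb
  · have h1 : ⁅y * a, y * b⁆ = y * ((⁅y, a⁆)⁻¹ * ⁅y, b⁆) * y⁻¹ := by
      simp only [commutatorElement_def, mul_inv_rev, inv_inv]
      calc y * a * (y * b) * (a⁻¹ * y⁻¹) * (b⁻¹ * y⁻¹)
          = y * ((a * y * a⁻¹ * y⁻¹) * (y * ((a * b) * a⁻¹) * y⁻¹ * b⁻¹)) * y⁻¹ := by group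
        _ = y * ((a * y * a⁻¹ * y⁻¹) * (y * b * y⁻¹ * b⁻¹)) * y⁻¹ := by
            rw [hab a ha b hb, mul_inv_cancel_right]
        _ = _ := by group
    rw [h1]
    exact hyD _ (mul_mem (inv_mem (hφD a ha)) (hφD b hb))

variable {S : Sylow 2 G} {Z : Subgroup G}

/-- The shape forced on `S` by an odd group it normalises but does not centralise. -/
def DihedralOver (S : Sylow 2 G) (Z : Subgroup G) : Prop :=
  ∃ x ∈ (S : Subgroup G), ∃ y ∈ (S : Subgroup G),
    (∀ s ∈ (S : Subgroup G), s ∈ zpowers x ⊔ Z ∨ y⁻¹ * s ∈ zpowers x ⊔ Z) ∧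
    y * x * y⁻¹ ∈ zpowers x ⊔ Z ∧ y * y ∈ zpowers x ⊔ Z ∧ ⁅y, x⁆ ≠ 1

theorem mem_sup_of_map_eq {H : Type*} [Group H] {S : Subgroup G} (ψ : S →* H) {Z : Subgroup G}
    (hker : ∀ s : S, ψ s = 1 → (s : G) ∈ Z) {w : S} (s : S) (h : ψ s ∈ zpowers (ψ w)) :
    (s : G) ∈ zpowers (w : G) ⊔ Z := by
  obtain ⟨k, hk⟩ := mem_zpowers_iff.1 h
  have h1 : ((w ^ (-k) * s : S) : G) ∈ Z := hker _ (by rw [map_mul, map_zpow, ← hk, zpow_neg, inv_mul_cancel])
  have h2 : (s : G) = (w : G) ^ k * ((w ^ (-k) * s : S) : G) := by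
    rw [coe_mul, coe_zpow, zpow_neg, mul_inv_cancel_left]
  rw [h2]
  exact mul_mem (mem_sup_left (zpow_mem (mem_zpowers _) k)) (mem_sup_right h1)

/-- An odd subgroup normalised by `S` is centralised by `S`, unless `S` is dihedral over `Z`. -/
theorem centralizes_or_dihedralOver (hZS : Z ≤ S) (hZ : ∀ z ∈ Z, ∀ s ∈ (S : Subgroup G), s * z = z * s)
    (hu : ∀ x ∈ (S : Subgroup G), x ∉ Z → ∀ T : Sylow 2 G, x ∈ (T : Subgroup G) → T = S)
    (hcyc : ∀ x ∈ (S : Subgroup G), ¬ (S : Subgroup G) ≤ zpowers x ⊔ Z)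
    {W : Subgroup G} (hW : Odd (Nat.card W)) (hSW : (S : Subgroup G) ≤ normalizer (W : Set G)) :
    W ≤ centralizer ((S : Subgroup G) : Set G) ∨ DihedralOver S Z := by
  classical
  haveI : Fact (Nat.Prime 2) := ⟨Nat.prime_two⟩
  induction hn : Nat.card W using Nat.strong_induction_on generalizing W with
  | _ n ih =>
  subst hn
  refine or_iff_not_imp_right.2 fun hD => ?_
  -- proper invariant subgroups are centralised
  have hprop : ∀ U : Subgroup G, U < W → (S : Subgroup G) ≤ normalizer (U : Set G) →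
      U ≤ centralizer ((S : Subgroup G) : Set G) := fun U hU hSU =>
    (ih _ (Set.ncard_lt_ncard (SetLike.coe_ssubset_coe.2 hU) (Set.toFinite _) |> fun h => by
      simpa [← Nat.card_coe_set_eq] using h) (hW.of_dvd_nat (card_dvd_of_le hU.le)) hSU rfl
      ).resolve_right hD
  by_contra hnc
  let φ : (S : Subgroup G) →* MulAut W :=
    (normalizerMonoidHom W).comp (inclusion hSW)
  letI : MulDistribMulAction ↥(S : Subgroup G) ↥W := MulDistribMulAction.compHom W φ
  have hsmul : ∀ (s : (S : Subgroup G)) (w : W), ((s • w : W) : G) = s * w * (s : G)⁻¹ :=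
    fun s w => rfl
  have hcop : (Nat.card (S : Subgroup G)).Coprime (Nat.card W) := by
    obtain ⟨k, hk⟩ := IsPGroup.iff_card.1 S.isPGroup'
    rw [hk]
    exact (Nat.coprime_two_left.2 hW).pow_left _
  haveI := S.isPGroup'.isNilpotent
  -- the fixed points
  set C := W ⊓ centralizer ((S : Subgroup G) : Set G) with hCdef
  have hCW : C < W := lt_of_le_not_ge inf_le_left fun h => hnc (h.trans inf_le_right)
  -- a non-central element fixes only `C`
  have hout : ∀ s ∈ (S : Subgroup G), s ∉ Z → ∀ w ∈ W, s * w = w * s → w ∈ C := by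
    intro s hs hsZ w hw hc
    have hwS : w • S = S := hu s hs hsZ _ (mem_smul_iff.2 (by
      rw [mul_assoc, hc, inv_mul_cancel_left]; exact hs))
    have hwN := mem_normalizer_of_smul hwS
    refine ⟨hw, mem_centralizer_iff.2 fun t ht => ?_⟩
    have h1 : w * t * w⁻¹ * t⁻¹ ∈ (S : Subgroup G) :=
      mul_mem ((mem_normalizer_iff.1 hwN t).1 ht) (inv_mem ht)
    have h2 : w * t * w⁻¹ * t⁻¹ ∈ W := by
      rw [show w * t * w⁻¹ * t⁻¹ = w * (t * w⁻¹ * t⁻¹) by group]
      exact mul_mem hw ((mem_normalizer_iff.1 (hSW ht) _).1 (inv_mem hw))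
    have h3 : w * t * w⁻¹ * t⁻¹ = 1 :=
      orderOf_eq_one_iff.1 (Nat.eq_one_of_dvd_coprimes hcop
        (orderOf_dvd_natCard _ h1) (orderOf_dvd_natCard _ h2))
    rw [mul_inv_eq_one, mul_inv_eq_iff_eq_mul] at h3
    exact h3.symm
  -- `W` is a group of prime power order
  obtain ⟨p, hp, hWp⟩ : ∃ p, p.Prime ∧ IsPGroup p W := by
    by_contra hno
    apply hnc
    have hall : ∀ p : ℕ, p.Prime → ∀ k, p ^ k ∣ Nat.card W → p ^ k ∣ Nat.card C := by
      intro p hp k hk
      haveI : Fact p.Prime := ⟨hp⟩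
      obtain ⟨P, hP⟩ := Coprime.exists_invariant_sylow (A := ↥(S : Subgroup G)) (G := ↥W) hcop p
      set U := (P : Subgroup W).map W.subtype
      have hUW : U ≤ W := map_subtype_le _
      have hne : U ≠ W := fun he => hno ⟨p, hp, by
        have := P.isPGroup'.map W.subtype
        rwa [show (P : Subgroup W).map W.subtype = U from rfl, he] at this⟩
      have hSU : (S : Subgroup G) ≤ normalizer (U : Set G) := by
        have key : ∀ s ∈ (S : Subgroup G), ∀ v ∈ U, s * v * s⁻¹ ∈ U := by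
          rintro s hs _ ⟨v, hv, rfl⟩
          exact ⟨_, hP ⟨s, hs⟩ v hv, rfl⟩
        refine fun s hs => mem_normalizer_iff.2 fun v => ⟨key s hs v, fun hv => ?_⟩
        simpa [mul_assoc] using key _ (inv_mem hs) _ hv
      have hUC : U ≤ C := le_inf hUW (hprop U (lt_of_le_of_ne hUW hne) hSU)
      refine dvd_trans ?_ (card_dvd_of_le hUC)
      rw [card_subtype]
      exact P.pow_dvd_card_of_pow_dvd_card hk
    have hdvd : Nat.card W ∣ Nat.card C :=
      (Nat.dvd_iff_prime_pow_dvd_dvd _ _).2 fun p k hp hk => hall p hp k hk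
    have he : C = W := eq_of_le_of_card_ge inf_le_left (Nat.le_of_dvd Nat.card_pos hdvd)
    exact he ▸ inf_le_right
  haveI : Fact p.Prime := ⟨hp⟩
  haveI := hWp.isNilpotent
  -- `C` is normal in `W`
  have hCS : (S : Subgroup G) ≤ normalizer (C : Set G) := by
    intro s hs
    refine mem_normalizer_iff.2 fun v => ⟨fun hv => ?_, fun hv => ?_⟩
    · rw [(mem_centralizer_iff.1 hv.2 s hs), mul_inv_cancel_right]
      exact hv
    · have h1 := mem_centralizer_iff.1 hv.2 s⁻¹ (inv_mem hs)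
      have h2 : v = s * v * s⁻¹ := by
        calc v = s⁻¹ * (s * v * s⁻¹) * s := by group
          _ = s * v * s⁻¹ * s⁻¹ * s := by rw [h1]
          _ = _ := by group
      rw [h2]
      exact hv
  have hnorm : W ≤ normalizer (C : Set G) := by
    by_contra hle
    have hlt : W ⊓ normalizer (C : Set G) < W := lt_of_le_not_ge inf_le_left fun h =>
      hle (h.trans inf_le_right)
    have hinv : (S : Subgroup G) ≤ normalizer ((W ⊓ normalizer (C : Set G) : Subgroup G) : Set G) := by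
      intro s hs
      refine mem_normalizer_iff.2 fun v => ?_
      simp only [mem_inf]
      rw [← (mem_normalizer_iff.1 (hSW hs) v)]
      refine and_congr_right fun _ => ⟨fun hv => ?_, fun hv => ?_⟩
      · exact mul_mem (mul_mem (hCS hs) hv) (inv_mem (hCS hs))
      · simpa [mul_assoc] using mul_mem (mul_mem (inv_mem (hCS hs)) hv) (hCS hs)
    have h1 : W ⊓ normalizer (C : Set G) ≤ C := le_inf inf_le_left (hprop _ hlt hinv)
    obtain ⟨v, hv, hvn⟩ := SetLike.exists_of_lt (Group.normalizerCondition_of_isNilpotent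
      (C.subgroupOf W) (lt_top_iff_ne_top.2 fun h =>
        hCW.not_ge (subgroupOf_eq_top.1 h)))
    apply hvn
    refine h1 ⟨v.2, mem_normalizer_iff.2 fun a => ?_⟩
    have hv' := mem_normalizer_iff.1 hv
    constructor
    · intro ha
      exact (hv' ⟨a, ha.1⟩).1 ha
    · intro ha
      have haW : a ∈ W := by
        simpa [mul_assoc] using mul_mem (mul_mem (inv_mem v.2) ha.1) v.2
      exact (hv' ⟨a, haW⟩).2 ha
  haveI hCn : (C.subgroupOf W).Normal := (normal_subgroupOf_iff_le_normalizer inf_le_left).2 hnorm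
  set CW := C.subgroupOf W
  haveI : Nontrivial (W ⧸ CW) := by
    obtain ⟨w, hw, hwC⟩ := SetLike.exists_of_lt hCW
    exact ⟨⟨QuotientGroup.mk ⟨w, hw⟩, 1, fun h => hwC
      (mem_subgroupOf.1 ((QuotientGroup.eq_one_iff (N := CW) ⟨w, hw⟩).1 h))⟩⟩
  have hfixC : ∀ (s : (S : Subgroup G)) (w : W), w ∈ CW → s • w = w := fun s w hw =>
    Subtype.ext (by
      rw [hsmul, mem_centralizer_iff.1 (show (w : G) ∈ C from hw).2 s s.2, mul_inv_cancel_right])
  have hmap : ∀ s : (S : Subgroup G), CW.map (φ s).toMonoidHom = CW := fun s => by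
    ext w
    constructor
    · rintro ⟨v, hv, rfl⟩
      show s • v ∈ CW
      rw [hfixC s v hv]; exact hv
    · exact fun hw => ⟨w, hw, hfixC s w hw⟩
  let ψ : (S : Subgroup G) →* MulAut (W ⧸ CW) :=
    { toFun := fun s => QuotientGroup.congr CW CW (φ s) (hmap s)
      map_one' := MulEquiv.ext fun x => by
        refine QuotientGroup.induction_on x fun w => ?_
        show (QuotientGroup.mk ((φ 1) w) : W ⧸ CW) = _
        rw [map_one]; rfl
      map_mul' := fun s t => MulEquiv.ext fun x => by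
        refine QuotientGroup.induction_on x fun w => ?_
        show (QuotientGroup.mk ((φ (s * t)) w) : W ⧸ CW) = _
        rw [map_mul]; rfl }
  have hψ : ∀ (s : (S : Subgroup G)) (w : W), ψ s (w : W ⧸ CW) = ((s • w : W) : W ⧸ CW) :=
    fun s w => rfl
  -- fixed points of elements on the quotient
  have hkey : ∀ (s : (S : Subgroup G)) (w : W), ψ s (w : W ⧸ CW) = (w : W ⧸ CW) →
      ∃ c : W, w⁻¹ * c ∈ CW ∧ (s : G) * c = c * s := by
    intro s w h
    rw [hψ] at h
    set A := zpowers s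
    have hA : ∀ a : A, w⁻¹ * a • w ∈ CW := fun a => by
      have h1 : ψ (a : (S : Subgroup G)) (w : W ⧸ CW) = (w : W ⧸ CW) := by
        obtain ⟨k, hk⟩ := mem_zpowers_iff.1 a.2
        rw [← hk, map_zpow]
        exact zpow_mem (K := MulAction.stabilizer (MulAut (W ⧸ CW)) (w : W ⧸ CW))
          (show ψ s ∈ _ from (by rw [MulAction.mem_stabilizer_iff]; exact h)) k
      exact QuotientGroup.eq.1 ((hψ _ w).symm.trans h1).symm
    obtain ⟨c, hc, hcC⟩ := Coprime.exists_fixed_mem_coset_of_isSolvable (A := A) CW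
      (fun a n hn => by
        show (a : (S : Subgroup G)) • n ∈ CW
        rw [hfixC _ n hn]; exact hn)
      ((hcop.coprime_dvd_left (card_subgroup_dvd_card A)).coprime_dvd_right
        (card_subgroup_dvd_card CW)) w hA
    refine ⟨c, hcC, ?_⟩
    have h2 := congrArg Subtype.val (hc ⟨s, mem_zpowers s⟩)
    exact mul_inv_eq_iff_eq_mul.1 h2
  have hker : ∀ s : (S : Subgroup G), ψ s = 1 → (s : G) ∈ Z := by
    intro s hs
    by_contra hsZ
    apply hCW.not_ge
    intro w hw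
    obtain ⟨c, hc, hcs⟩ := hkey s ⟨w, hw⟩ (by rw [hs]; rfl)
    have h1 : (c : G) ∈ C := hout s s.2 hsZ c c.2 hcs
    have h2 : (w⁻¹ * (c : G)) ∈ C := hc
    simpa using mul_mem h1 (inv_mem h2)
  have hfix : ∀ (s : (S : Subgroup G)), ψ s ≠ 1 → ∀ k : W ⧸ CW, ψ s k = k → k = 1 := by
    intro s hs k
    refine QuotientGroup.induction_on k fun w => ?_
    intro h
    obtain ⟨c, hc, hcs⟩ := hkey s w h
    have hcC : (c : G) ∈ C := by
      by_cases hsZ : (s : G) ∈ Z
      · -- the fixed points of a central element form a proper invariant subgroup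
        set U := W ⊓ centralizer ({(s : G)} : Set G)
        have hUW : U < W := lt_of_le_not_ge inf_le_left fun hle => hs (MulEquiv.ext fun x => by
          refine QuotientGroup.induction_on x fun v => ?_
          rw [hψ]
          refine congrArg _ (Subtype.ext ?_)
          rw [hsmul, ← mem_centralizer_singleton_iff.1 (hle v.2).2, mul_inv_cancel_right])
        refine le_inf inf_le_left (hprop U hUW fun t ht => mem_normalizer_iff.2 fun v => ?_)
          ⟨c.2, mem_centralizer_singleton_iff.2 hcs.symm⟩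
        rw [mem_inf, mem_inf, ← mem_normalizer_iff.1 (hSW ht) v]
        refine and_congr_right fun _ => ?_
        have hts : t * (s : G) = s * t := hZ _ hsZ t ht
        have htc : (t : G) ∈ centralizer ({(s : G)} : Set G) := mem_centralizer_singleton_iff.2 hts
        exact ⟨fun hv => mul_mem (mul_mem htc hv) (inv_mem htc), fun hv => by
          simpa [mul_assoc] using mul_mem (mul_mem (inv_mem htc) hv) htc⟩
      · exact hout s s.2 hsZ c c.2 hcs
    refine (QuotientGroup.eq_one_iff w).2 ?_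
    have h2 : ((w : G)⁻¹ * (c : G)) ∈ C := hc
    show (w : G) ∈ C
    simpa using mul_mem hcC (inv_mem h2)
  -- so the image is cyclic or quaternion
  have hE : IsPGroup 2 ψ.range := S.isPGroup'.of_surjective _ ψ.rangeRestrict_surjective
  have hfpf : Frobenius.IsFpf (ψ.range.subtype) := by
    rintro ⟨_, s, rfl⟩ he k hk
    exact hfix s (fun h => he (Subtype.ext h)) k hk
  rcases UniqueInvol.cyclic_or_quaternion hE (FpfComplement.unique_prime_order hfpf hE) with
    hcy | ⟨-, m, hm, ⟨e⟩⟩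
  · obtain ⟨⟨_, w, rfl⟩, hg⟩ := hcy.exists_zpow_surjective
    refine hcyc w w.2 fun s hs => mem_sup_of_map_eq ψ hker ⟨s, hs⟩ ?_
    obtain ⟨k, hk⟩ := hg ⟨_, ⟨s, hs⟩, rfl⟩
    exact mem_zpowers_iff.2 ⟨k, congrArg Subtype.val hk⟩
  · haveI : NeZero (2 ^ m) := ⟨by positivity⟩
    obtain ⟨x, hx⟩ := ψ.rangeRestrict_surjective (e.symm (QuaternionGroup.a 1))
    obtain ⟨y, hy⟩ := ψ.rangeRestrict_surjective (e.symm (QuaternionGroup.xa 0))
    have hA : ∀ (s : (S : Subgroup G)) (i : ZMod (2 * 2 ^ m)),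
        e (ψ.rangeRestrict s) = QuaternionGroup.a i → (s : G) ∈ zpowers (x : G) ⊔ Z := by
      intro s i hi
      refine mem_sup_of_map_eq ψ hker s (mem_zpowers_iff.2 ⟨(i.val : ℤ), ?_⟩)
      have h1 : (ψ.rangeRestrict x) ^ i.val = ψ.rangeRestrict s := e.injective (by
        rw [map_pow, hx, e.apply_symm_apply, QuaternionGroup.a_one_pow, hi, ZMod.natCast_zmod_val])
      rw [zpow_natCast]
      exact congrArg Subtype.val h1
    refine hD ⟨x, x.2, y, y.2, fun s hs => ?_, ?_, ?_, fun hc => ?_⟩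
    · rcases hq : e (ψ.rangeRestrict ⟨s, hs⟩) with i | i
      · exact Or.inl (hA ⟨s, hs⟩ i hq)
      · refine Or.inr (hA (y⁻¹ * ⟨s, hs⟩) i ?_)
        simp only [map_mul, map_inv, hy, MulEquiv.apply_symm_apply]
        rw [hq, inv_mul_eq_iff_eq_mul, QuaternionGroup.xa_mul_a, zero_add]
    · have h1 : e (ψ.rangeRestrict (y * x * y⁻¹)) = QuaternionGroup.a (-1) := by
        simp only [map_mul, map_inv, hx, hy, MulEquiv.apply_symm_apply]
        rw [mul_inv_eq_iff_eq_mul, QuaternionGroup.xa_mul_a, QuaternionGroup.a_mul_xa]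
        simp
      exact hA _ _ h1
    · have h1 : e (ψ.rangeRestrict (y * y)) = QuaternionGroup.a (2 ^ m : ℕ) := by
        rw [map_mul, hy, map_mul, e.apply_symm_apply, QuaternionGroup.xa_mul_xa]
        simp
      exact hA _ _ h1
    · have h1 : e (ψ.rangeRestrict ⁅y, x⁆) = 1 := by
        rw [show ⁅y, x⁆ = 1 from Subtype.ext hc, map_one, map_one]
      rw [map_commutatorElement, map_commutatorElement, hx, hy, e.apply_symm_apply,
        e.apply_symm_apply, commutatorElement_eq_one_iff_mul_comm, QuaternionGroup.xa_mul_a,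
        QuaternionGroup.a_mul_xa] at h1
      have h2 : (0 : ZMod (2 * 2 ^ m)) + 1 = 0 - 1 := QuaternionGroup.xa.inj h1
      rw [zero_add, zero_sub] at h2
      have h3 : ((2 : ℕ) : ZMod (2 * 2 ^ m)) = 0 := by
        rw [Nat.cast_two]
        linear_combination h2
      have h4 := Nat.le_of_dvd two_pos ((ZMod.natCast_eq_zero_iff 2 _).1 h3)
      have h5 : 2 ^ 1 ≤ 2 ^ m := Nat.pow_le_pow_right two_pos hm
      omega

/-- Without odd core and normal 2-subgroup, odd subgroups normalised by `S` are centralised by it. -/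
theorem Meet.centralizes (h : Meet G) (hO : Cfsg.oddCore G = ⊥) (hO2 : Cfsg.pCore 2 G = ⊥)
    (hZS : Z ≤ S) (hZ : ∀ z ∈ Z, ∀ s ∈ (S : Subgroup G), s * z = z * s)
    (hu : ∀ x ∈ (S : Subgroup G), x ∉ Z → ∀ T : Sylow 2 G, x ∈ (T : Subgroup G) → T = S)
    (hcyc : ∀ x ∈ (S : Subgroup G), ¬ (S : Subgroup G) ≤ zpowers x ⊔ Z)
    {W : Subgroup G} (hW : Odd (Nat.card W)) (hSW : (S : Subgroup G) ≤ normalizer (W : Set G)) :
    W ≤ centralizer ((S : Subgroup G) : Set G) := by
  haveI : Fact (Nat.Prime 2) := ⟨Nat.prime_two⟩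
  refine (centralizes_or_dihedralOver hZS hZ hu hcyc hW hSW).resolve_right ?_
  rintro ⟨x, hx, y, hy, hC, hn, hy2, hne⟩
  set r := ⁅y, x⁆ with hr
  have hle := commutator_le_zpowers hx hy hZS hZ hC hn hy2
  have hrD : r ∈ ⁅(S : Subgroup G), (S : Subgroup G)⁆ := commutator_mem_commutator hy hx
  have hDeq : ⁅(S : Subgroup G), (S : Subgroup G)⁆ = zpowers r := le_antisymm hle (zpowers_le.2 hrD)
  have hrS : r ∈ (S : Subgroup G) := mul_mem (mul_mem (mul_mem hy hx) (inv_mem hy)) (inv_mem hx)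
  obtain ⟨k, hk⟩ : ∃ k, orderOf r = 2 ^ k := by
    obtain ⟨k, hk⟩ := IsPGroup.iff_orderOf.1 S.isPGroup' ⟨r, hrS⟩
    exact ⟨k, by rwa [Subgroup.orderOf_mk] at hk⟩
  obtain ⟨j, rfl⟩ : ∃ j, k = j + 1 := Nat.exists_eq_succ_of_ne_zero fun e =>
    hne (orderOf_eq_one_iff.1 (by rw [hk, e, pow_zero]))
  set c := r ^ 2 ^ j
  have hc : orderOf c = 2 := by
    rw [orderOf_pow' r (pow_ne_zero _ two_ne_zero), hk, Nat.gcd_eq_right (pow_dvd_pow _ j.le_succ),
      pow_succ, Nat.mul_div_cancel_left _ (by positivity)]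
  refine h.not_fixed hO hO2 hc (pow_mem hrS _) fun n hn => ?_
  have h1 : n * r * n⁻¹ ∈ zpowers r := by
    rw [← hDeq]
    have h2 : ⁅(S : Subgroup G), (S : Subgroup G)⁆.map (MulAut.conj n).toMonoidHom ≤
        ⁅(S : Subgroup G), (S : Subgroup G)⁆ := by
      rw [map_commutator]
      have h3 : (S : Subgroup G).map (MulAut.conj n).toMonoidHom ≤ (S : Subgroup G) := by
        rintro _ ⟨s, hs, rfl⟩
        exact (mem_normalizer_iff.1 hn s).1 hs
      exact commutator_mono h3 h3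
    exact h2 ⟨r, hrD, rfl⟩
  obtain ⟨i, hi⟩ := mem_zpowers_iff.1 h1
  have hc1 : n * c * n⁻¹ = c ^ i := by
    rw [← conj_pow, ← hi, ← zpow_natCast, ← zpow_mul, mul_comm, zpow_mul, zpow_natCast]
  rcases Int.even_or_odd i with ⟨l, rfl⟩ | ⟨l, rfl⟩
  · rw [← two_mul, zpow_mul, zpow_two, Invol.mul_self_eq_one hc, one_zpow, conj_eq_one_iff] at hc1
    rw [hc1, orderOf_one] at hc
    omega
  · rwa [zpow_add, zpow_mul, zpow_two, Invol.mul_self_eq_one hc, one_zpow, one_mul, zpow_one] at hc1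

end CfsgLib.CentralMeet
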