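import Cfsg.Agent.CentralMeet.Dichotomy

/-!
# Non-abelian Sylow 2-subgroups in the simple quotient

The odd core is central in the subgroup `M` generated by the 2-elements, and `M` is the product of an
abelian 2-group and its derived group.
-/

set_option autoImplicit false
set_option linter.unusedSectionVars false
set_option linter.style.haveILetI false

namespace CfsgLib.CentralMeet

open Subgroup
open CfsgLib.Bender
open scoped commutatorElement

universe u

variable {G : Type u} [Group G] [Finite G]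

/-- A kernel which is a central odd group extended by a central 2-group is central. -/
theorem central_of_quot {M O : Subgroup G} (hO : Odd (Nat.card O))
    (hMO : M ≤ centralizer (O : Set G)) {x : G} (hx : x ∈ M)
    (h1 : ∀ g ∈ M, g * x * g⁻¹ * x⁻¹ ∈ O) {k : ℕ} (h2 : x ^ 2 ^ k ∈ O) :
    ∀ g ∈ M, g * x = x * g := by
  intro g hg
  have hcen : ∀ w ∈ O, ∀ h ∈ M, h * w = w * h := fun w hw h hh =>
    (mem_centralizer_iff.1 (hMO hh) w hw).symm
  set z := g * x * g⁻¹ * x⁻¹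
  have hzO : z ∈ O := h1 g hg
  have hzx : Commute z x := (hcen z hzO x hx).symm
  have he : g * x * g⁻¹ = z * x := by simp [z]
  have hz : z ^ 2 ^ k = 1 := by
    have h3 : (g * x * g⁻¹) ^ 2 ^ k = x ^ 2 ^ k := by
      rw [conj_pow, hcen _ h2 g hg, mul_inv_cancel_right]
    rw [he, hzx.mul_pow] at h3
    exact mul_eq_right.1 h3
  have hz1 : z = 1 :=
    Consumers.eq_one_of_two_of_odd (hO.of_dvd_nat (orderOf_dvd_natCard O hzO)) hz
  rw [hz1, one_mul, mul_inv_eq_iff_eq_mul] at he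
  exact he

/-- The elements of 2-power order of a central subgroup. -/
def twoPart {M : Type*} [Group M] (N : Subgroup M) (hN : N ≤ center M) : Subgroup M where
  carrier := {x | x ∈ N ∧ ∃ k : ℕ, x ^ 2 ^ k = 1}
  one_mem' := ⟨one_mem N, 0, one_pow _⟩
  mul_mem' := fun {a b} ha hb => by
    obtain ⟨i, hi⟩ := ha.2
    obtain ⟨j, hj⟩ := hb.2
    refine ⟨mul_mem ha.1 hb.1, i + j, ?_⟩
    have hab : Commute a b := mem_center_iff.1 (hN hb.1) a
    rw [hab.mul_pow]
    have h1 : a ^ 2 ^ (i + j) = 1 := by rw [pow_add, pow_mul, hi, one_pow]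
    have h2 : b ^ 2 ^ (i + j) = 1 := by rw [pow_add, mul_comm, pow_mul, hj, one_pow]
    rw [h1, h2, one_mul]
  inv_mem' := fun {a} ha => ⟨inv_mem ha.1, ha.2.choose, by
    rw [inv_pow, ha.2.choose_spec, inv_one]⟩

theorem twoPart_sup {M : Type u} [Group M] [Finite M] {N L : Subgroup M} (hN : N ≤ center M)
    (hL : commutator M ≤ L) (hsup : N ⊔ L = ⊤)
    (hgen : Cfsg.pElementClosure 2 (⊤ : Subgroup M) = ⊤) : twoPart N hN ⊔ L = ⊤ := by
  set J := twoPart N hN ⊔ L
  haveI hJ : J.Normal := ⟨fun x hx g => by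
    have h1 : g * x * g⁻¹ * x⁻¹ ∈ L := hL (by
      rw [commutator_def]
      exact commutator_mem_commutator (mem_top g) (mem_top x))
    simpa using mul_mem (mem_sup_right (S := twoPart N hN) h1) hx⟩
  haveI hLn : L.Normal := ⟨fun x hx g => by
    have h1 : g * x * g⁻¹ * x⁻¹ ∈ L := hL (by
      rw [commutator_def]
      exact commutator_mem_commutator (mem_top g) (mem_top x))
    simpa using mul_mem h1 hx⟩
  refine top_le_iff.1 (hgen ▸ (closure_le _).2 ?_)
  rintro x ⟨-, a, ha⟩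
  obtain ⟨k, hk, l, hl, rfl⟩ := mem_sup_of_normal_right.1 (hsup ▸ mem_top x)
  have hkl : Commute k l := (mem_center_iff.1 (hN hk) l).symm
  obtain ⟨b, r, hr, he⟩ := Nat.exists_eq_pow_mul_and_not_dvd (orderOf_pos k).ne' 2 (by norm_num)
  have h1 : k ^ 2 ^ a ∈ J := by
    have h2 : k ^ 2 ^ a * l ^ 2 ^ a = 1 := by
      rw [← hkl.mul_pow, ← ha, pow_orderOf_eq_one]
    rw [eq_inv_of_mul_eq_one_left h2]
    exact inv_mem (mem_sup_right (pow_mem hl _))
  have h3 : k ^ r ∈ J := mem_sup_left ⟨pow_mem hk _, b, by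
    rw [← pow_mul, mul_comm, ← he, pow_orderOf_eq_one]⟩
  have hmk : ((k : M) : M ⧸ J) = 1 := by
    refine orderOf_eq_one_iff.1 (Nat.eq_one_of_dvd_coprimes (a := 2 ^ a) (b := r)
      ((Nat.prime_two.coprime_iff_not_dvd.2 hr).pow_left a) ?_ ?_) <;>
    · refine orderOf_dvd_of_pow_eq_one ?_
      rw [← QuotientGroup.mk_pow]
      exact (QuotientGroup.eq_one_iff _).2 (by assumption)
  exact mul_mem ((QuotientGroup.eq_one_iff k).1 hmk) (mem_sup_right hl)

theorem map_center_equiv {A B : Type*} [Group A] [Group B] (e : A ≃* B) :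
    (center A).map e.toMonoidHom = center B := by
  ext x
  constructor
  · rintro ⟨a, ha, rfl⟩
    refine mem_center_iff.2 fun y => ?_
    obtain ⟨b, rfl⟩ := e.surjective y
    show e b * e a = e a * e b
    rw [← map_mul, ← map_mul, mem_center_iff.1 ha b]
  · intro hx
    refine ⟨e.symm x, mem_center_iff.2 fun y => e.injective ?_, e.apply_symm_apply x⟩
    rw [map_mul, map_mul, e.apply_symm_apply]
    exact mem_center_iff.1 hx (e y)

/-- The subgroup generated by the 2-elements, when the simple quotient has non-abelian Sylow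
2-subgroups. -/
theorem big_case (hm : Meet G) {S : Sylow 2 G} (hS : ¬ IsMulCommutative (S : Subgroup G))
    {Γ : Subgroup (G ⧸ Cfsg.oddCore G)}
    (hΓ : Γ = Cfsg.pElementClosure 2 (⊤ : Subgroup (G ⧸ Cfsg.oddCore G)))
    (hR : RankOne (↥Γ ⧸ Cfsg.pCore 2 ↥Γ)) (hX : Consumers.Three (↥Γ ⧸ Cfsg.pCore 2 ↥Γ))
    (hc : Cfsg.pCore 2 ↥Γ ≤ center ↥Γ)
    (hna : ∀ Q : Sylow 2 (↥Γ ⧸ Cfsg.pCore 2 ↥Γ), ¬ IsMulCommutative (Q : Subgroup (↥Γ ⧸ Cfsg.pCore 2 ↥Γ))) :
    ∃ (M : Subgroup G), M.Normal ∧ Odd M.index ∧ ∃ A L : Subgroup G, IsMulCommutative ↥A ∧ IsPGroup 2 ↥A ∧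
      ((Cfsg.IsInternalDirectProduct A L M ∧
          ((∃ (m : ℕ) (F : Type) (_ : Field F) (_ : Fintype F), 1 ≤ m ∧ Fintype.card F = 2 ^ (2 * m + 1) ∧
              Nonempty (↥L ≃* ↥(Cfsg.Lie.Sz F (2 ^ (m + 1))))) ∨
            (∃ (n : ℕ) (F : Type) (_ : Field F) (_ : Fintype F), 2 ≤ n ∧ Fintype.card F = 4 ^ n ∧
              (Nonempty (↥L ≃* Cfsg.PSU 3 F (2 ^ n)) ∨ Nonempty (↥L ≃* ↥(Cfsg.SU 3 F (2 ^ n))))))) ∨
        (A ≤ M ∧ L ≤ M ∧ (∀ a ∈ A, ∀ l ∈ L, a * l = l * a) ∧ A ⊔ L = M ∧ Group.IsPerfect ↥L ∧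
          Subgroup.center ↥L ≠ ⊥ ∧
          ∃ (F : Type) (_ : Field F) (_ : Fintype F), Fintype.card F = 8 ∧
            Nonempty (↥L ⧸ Subgroup.center ↥L ≃* ↥(Cfsg.Lie.Sz F 4)))) := by
  haveI : Fact (Nat.Prime 2) := ⟨Nat.prime_two⟩
  haveI := DGroup.normal_oddCore G
  set O := Cfsg.oddCore G
  set π := QuotientGroup.mk' O
  set M := Cfsg.pElementClosure 2 (⊤ : Subgroup G) with hM
  haveI hMn : M.Normal := normalizer_eq_top_iff.1 (top_le_iff.1 (le_normalizer_twoClosure ⊤))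
  have hmemM : ∀ {x : G} {k : ℕ}, x ^ 2 ^ k = 1 → x ∈ M := fun h => mem_twoClosure (mem_top _) h
  have hTM : ∀ T : Sylow 2 G, (T : Subgroup G) ≤ M := fun T => sylow_le_twoClosure le_top
  -- the projection onto the simple quotient
  have hπM : ∀ m : M, π m ∈ Γ := fun m => by
    have h : M ≤ Γ.comap π := (closure_le _).2 fun x ⟨_, k, hk⟩ => by
      rw [hΓ]
      exact mem_twoClosure (mem_top _) (k := k) (by
        rw [← map_pow, ← hk, pow_orderOf_eq_one, map_one])
    exact h m.2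
  let ψ : M →* Γ := (π.comp M.subtype).codRestrict Γ hπM
  have hψ : Function.Surjective ψ := by
    intro y
    have h : Γ ≤ M.map π := by
      rw [hΓ]
      refine (closure_le _).2 fun x ⟨_, k, hk⟩ => ?_
      obtain ⟨T', hT'⟩ := exists_sylow_mem (x := x) (k := k) (by rw [← hk, pow_orderOf_eq_one])
      obtain ⟨T, rfl⟩ := Sylow.mapSurjective_surjective (QuotientGroup.mk'_surjective O) 2 T'
      obtain ⟨t, ht, rfl⟩ := hT'
      exact ⟨t, hTM T ht, rfl⟩
    obtain ⟨m, hm', he⟩ := h y.2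
    exact ⟨⟨m, hm'⟩, Subtype.ext he⟩
  set f : M →* ↥Γ ⧸ Cfsg.pCore 2 ↥Γ := (QuotientGroup.mk' _).comp ψ
  have hf : Function.Surjective f := (QuotientGroup.mk'_surjective _).comp hψ
  -- every Sylow 2-subgroup centralizes the odd core
  have hcent : M ≤ centralizer (O : Set G) := by
    refine (closure_le _).2 fun x ⟨_, k, hk⟩ => ?_
    obtain ⟨T, hT⟩ := exists_sylow_mem (x := x) (k := k) (by rw [← hk, pow_orderOf_eq_one])
    have hTc : ¬ IsMulCommutative (T : Subgroup G) := fun h => hS (sylow_comm_iff h)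
    let Q : Sylow 2 (↥Γ ⧸ Cfsg.pCore 2 ↥Γ) := (T.subtype (hTM T)).mapSurjective hf
    have hno := not_dihedralOver (hTM T) f Q rfl hR (hna Q)
    have hu : ∀ s ∈ (T : Subgroup G), s ∉ zs T → ∀ T' : Sylow 2 G, s ∈ (T' : Subgroup G) → T' = T :=
      fun s hs hsz T' hs' => hm.unique hs hsz hs'
    have hcyc : ∀ w ∈ (T : Subgroup G), ¬ (T : Subgroup G) ≤ zpowers w ⊔ zs T := by
      intro w hw hle
      have hcomm : IsMulCommutative ↥(zpowers w ⊔ zs T) := by
        rw [← closure_eq (zs T), zpowers_eq_closure, ← Subgroup.closure_union]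
        refine isMulCommutative_closure ?_
        rintro a (rfl | ha) b (rfl | hb)
        · rfl
        · exact (mem_zs.1 hb).2 a hw
        · exact ((mem_zs.1 ha).2 b hw).symm
        · exact (mem_zs.1 hb).2 a ha.1
      exact hTc ⟨⟨fun a b => Subtype.ext (congrArg Subtype.val
        (hcomm.is_comm.comm ⟨(a : G), hle a.2⟩ ⟨(b : G), hle b.2⟩) :)⟩⟩
    have h := (centralizes_or_dihedralOver (Z := zs T) inf_le_left (fun z hz => (mem_zs.1 hz).2)
      hu hcyc (DGroup.odd_oddCore G)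
      (by rw [Subgroup.normalizer_eq_top]; exact le_top)).resolve_right hno
    exact mem_centralizer_iff.2 fun w hw => (mem_centralizer_iff.1 (h hw) x hT).symm
  -- the kernel is central
  set N := f.ker
  have hNmem : ∀ x : M, x ∈ N ↔ ψ x ∈ Cfsg.pCore 2 ↥Γ := fun x => QuotientGroup.eq_one_iff (ψ x)
  have hN : N ≤ center ↥M := by
    intro x hx
    obtain ⟨k, hk⟩ := isPGroup_pCore ⟨ψ x, (hNmem x).1 hx⟩
    refine mem_center_iff.2 fun g => Subtype.ext (central_of_quot (DGroup.odd_oddCore G) hcent x.2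
      (fun g hg => ?_) (k := k) ?_ g g.2)
    · have h := mem_center_iff.1 (hc ((hNmem x).1 hx)) (ψ ⟨g, hg⟩)
      refine (QuotientGroup.eq_one_iff _).1 ?_
      show π (g * x * g⁻¹ * (x : G)⁻¹) = 1
      rw [map_mul, map_mul, map_mul, map_inv, map_inv, show π g * π x = π x * π g from
        congrArg Subtype.val h, mul_inv_cancel_right, mul_inv_cancel]
    · refine (QuotientGroup.eq_one_iff _).1 ?_
      show π ((x : G) ^ 2 ^ k) = 1
      rw [map_pow]
      exact congrArg (fun w : Cfsg.pCore 2 ↥Γ => ((w : ↥Γ) : G ⧸ O)) hk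
  let ι : ↥M ⧸ N ≃* ↥Γ ⧸ Cfsg.pCore 2 ↥Γ := QuotientGroup.quotientKerEquivOfSurjective f hf
  have hXM : Consumers.Three (↥M ⧸ N) := hX.congr ι
  have hnc : ¬ ∀ a b : ↥M ⧸ N, a * b = b * a := fun h => three_not_comm hR fun a b =>
    ι.symm.injective (by rw [map_mul, map_mul]; exact h _ _)
  obtain ⟨hsup, hperf, hsur, hker⟩ := sup_commutator hXM hN hnc
  set L₀ := commutator ↥M
  set A₀ := twoPart N hN
  have hAL : A₀ ⊔ L₀ = ⊤ := twoPart_sup hN le_rfl hsup (gen2_twoClosure ⊤)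
  set L := L₀.map M.subtype
  set A := A₀.map M.subtype
  let eL : ↥L₀ ≃* ↥L := L₀.equivMapOfInjective M.subtype M.subtype_injective
  have hsupG : A ⊔ L = M := by
    rw [← Subgroup.map_sup, hAL, ← MonoidHom.range_eq_map, Subgroup.range_subtype]
  have hcommAL : ∀ a ∈ A, ∀ l ∈ L, a * l = l * a := by
    rintro _ ⟨a, ha, rfl⟩ _ ⟨l, -, rfl⟩
    exact congrArg Subtype.val (mem_center_iff.1 (hN ha.1) l).symm
  have hAc : IsMulCommutative ↥A := ⟨⟨fun a b => Subtype.ext (by
    obtain ⟨_, a', ha, rfl⟩ := a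
    obtain ⟨_, b', hb, rfl⟩ := b
    exact (congrArg Subtype.val (mem_center_iff.1 (hN hb.1) a') :))⟩⟩
  have hA2 : IsPGroup 2 ↥A := by
    rintro ⟨_, a, ⟨-, k, hk⟩, rfl⟩
    exact ⟨k, Subtype.ext (congrArg Subtype.val hk :)⟩
  have hidx : Odd M.index := by
    rw [← Nat.not_even_iff_odd, even_iff_two_dvd]
    exact fun h => S.not_dvd_index (h.trans (index_dvd_of_le (hTM S)))
  -- the intersection, when the kernel of the covering is small
  have hdir : (∀ x : ↥L₀, x ∈ (cov N).ker → ∀ k : ℕ, x ^ 2 ^ k = 1 → x = 1) →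
      Cfsg.IsInternalDirectProduct A L M := fun h => by
    refine ⟨map_subtype_le _, map_subtype_le _, hcommAL, ?_, hsupG⟩
    rw [← Subgroup.map_inf _ _ _ M.subtype_injective]
    refine (Subgroup.map_eq_bot_iff_of_injective _ M.subtype_injective).2 (le_bot_iff.1 fun x hx => ?_)
    obtain ⟨⟨hxN, k, hk⟩, hxL⟩ := hx
    exact congrArg Subtype.val (h ⟨x, hxL⟩ ((QuotientGroup.eq_one_iff _).2 hxN) k (Subtype.ext hk))
  have hbij : Nat.card (cov N).ker = 1 → Nonempty (↥L ≃* ↥M ⧸ N) := fun h =>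
    ⟨eL.symm.trans (MulEquiv.ofBijective (cov N)
      ⟨(MonoidHom.ker_eq_bot_iff _).1 (Subgroup.card_eq_one.1 h), hsur⟩)⟩
  refine ⟨M, hMn, hidx, A, L, hAc, hA2, ?_⟩
  rcases cover_cases hXM hperf (cov N) hsur hker with
    ⟨F, _, _, n, hn, hF, ⟨e⟩, -⟩ | ⟨F, i1, i2, m, hm', hF, ⟨e⟩, h2, h4⟩ |
    ⟨F, i1, i2, n, hn, hF, ⟨e⟩, h3, hSU⟩
  · exfalso
    obtain ⟨Q⟩ : Nonempty (Sylow 2 (↥Γ ⧸ Cfsg.pCore 2 ↥Γ)) := inferInstance
    refine hna Q ⟨⟨fun a b => Subtype.ext ?_⟩⟩
    exact psl_sylow_commute (by omega) hF (ι.symm.trans e) Q a a.2 b b.2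
  · by_cases h1 : Nat.card (cov N).ker = 1
    · refine Or.inl ⟨hdir fun x hx k _ => ?_, Or.inl ⟨m, F, i1, i2, hm', hF, ?_⟩⟩
      · rwa [Subgroup.card_eq_one.1 h1, mem_bot] at hx
      · obtain ⟨g⟩ := hbij h1
        exact ⟨g.trans e⟩
    · obtain rfl : m = 1 := by
        by_contra hne
        exact h1 (h2 (by omega))
      haveI := hXM.isSimpleGroup
      have hcen : center ↥L₀ = (cov N).ker := by
        refine le_antisymm (fun z hz => ?_) hker
        have hz1 : cov N z ∈ center (↥M ⧸ N) := mem_center_iff.2 fun y => by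
          obtain ⟨w, rfl⟩ := hsur y
          rw [← map_mul, ← map_mul, mem_center_iff.1 hz w]
        rcases (inferInstance : (center (↥M ⧸ N)).Normal).eq_bot_or_eq_top with h | h
        · rwa [h, Subgroup.mem_bot] at hz1
        · exact absurd (fun a b => mem_center_iff.1 (h ▸ mem_top b) a) hnc
      refine Or.inr ⟨map_subtype_le _, map_subtype_le _, hcommAL, hsupG, ⟨?_⟩, fun hb => h1 ?_,
        F, i1, i2, by rw [hF]; norm_num, ?_⟩
      · rw [commutator_def, ← map_top_of_surjective eL.toMonoidHom eL.surjective, ← map_commutator,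
          ← commutator_def, hperf]
      · rw [← map_center_equiv eL, Subgroup.map_eq_bot_iff_of_injective _ eL.injective, hcen] at hb
        rw [hb, Subgroup.card_bot]
      · exact ⟨(QuotientGroup.congr (center ↥L) (center ↥L₀) eL.symm (map_center_equiv eL.symm)).trans
          (((QuotientGroup.quotientMulEquivOfEq hcen).trans
            (QuotientGroup.quotientKerEquivOfSurjective (cov N) hsur)).trans
            (e.trans (MulEquiv.subgroupCongr (by norm_num))))⟩
  · have hF4 : Fintype.card F = 4 ^ n := by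
      rw [hF, ← pow_mul, mul_comm, pow_mul]
      norm_num
    refine Or.inl ⟨hdir fun x hx k hk => ?_, Or.inr ⟨n, F, i1, i2, hn, hF4, ?_⟩⟩
    · refine Consumers.eq_one_of_two_of_odd ((show Odd 3 by decide).of_dvd_nat ?_) hk
      exact (orderOf_dvd_natCard _ hx).trans h3
    · rcases (Nat.dvd_prime Nat.prime_three).1 h3 with h | h
      · obtain ⟨g⟩ := hbij h
        exact Or.inl ⟨g.trans e⟩
      · obtain ⟨g⟩ := hSU h
        exact Or.inr ⟨eL.symm.trans g⟩

end CfsgLib.CentralMeet
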