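import Cfsg.Agent.CentralMeet.Ext

/-!
# The derived subgroup of a Sylow 2-subgroup in a central extension
-/

set_option autoImplicit false
set_option linter.unusedSectionVars false
set_option linter.style.haveILetI false

namespace CfsgLib.CentralMeet

open Subgroup
open CfsgLib.Bender
open scoped commutatorElement

universe u

theorem closure_three_card {G : Type*} [Group G] {u v w : G} (huv : Commute u v) (huw : Commute u w)
    (hvw : Commute v w) (hu : u * u = 1) (hv : v * v = 1) (hw : w * w = 1) :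
    Finite (closure ({u, v, w} : Set G)) → Nat.card (closure ({u, v, w} : Set G)) ≤ 8 := by
  intro _
  have hred : ∀ (a : G), a * a = 1 → ∀ i : ℕ, a ^ i = a ^ (i % 2) := fun a ha i => by
    conv_lhs => rw [← Nat.div_add_mod i 2, pow_add, pow_mul, sq, ha, one_pow, one_mul]
  let P : G → Prop := fun x => ∃ i j k : ℕ, x = u ^ i * (v ^ j * w ^ k)
  have hP : ∀ x ∈ closure ({u, v, w} : Set G), P x := by
    intro x hx
    induction hx using closure_induction with
    | mem x hx =>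
      rcases hx with rfl | rfl | rfl
      · exact ⟨1, 0, 0, by simp⟩
      · exact ⟨0, 1, 0, by simp⟩
      · exact ⟨0, 0, 1, by simp⟩
    | one => exact ⟨0, 0, 0, by simp⟩
    | mul x y _ _ hx hy =>
      obtain ⟨i, j, k, rfl⟩ := hx
      obtain ⟨i', j', k', rfl⟩ := hy
      refine ⟨i + i', j + j', k + k', ?_⟩
      rw [((huv.pow_pow i' j).symm.mul_left (huw.pow_pow i' k).symm).mul_mul_mul_comm,
        (hvw.pow_pow j' k).symm.mul_mul_mul_comm, ← pow_add, ← pow_add, ← pow_add]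
    | inv x _ hx =>
      obtain ⟨i, j, k, rfl⟩ := hx
      refine ⟨i, j, k, ?_⟩
      have h2 : ∀ a : G, a * a = 1 → ∀ n : ℕ, (a ^ n)⁻¹ = a ^ n := fun a ha n => by
        rw [← inv_pow, inv_eq_of_mul_eq_one_right ha]
      rw [mul_inv_rev, mul_inv_rev, h2 u hu, h2 v hv, h2 w hw, (hvw.pow_pow j k).symm.eq,
        ((huv.pow_pow i j).mul_right (huw.pow_pow i k)).symm.eq]
  let f : Fin 2 × Fin 2 × Fin 2 → G := fun p => u ^ (p.1 : ℕ) * (v ^ (p.2.1 : ℕ) * w ^ (p.2.2 : ℕ))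
  have h8 : Nat.card (closure ({u, v, w} : Set G)) ≤ (Set.range f).ncard := by
    rw [← SetLike.coe_sort_coe, Nat.card_coe_set_eq]
    refine Set.ncard_le_ncard (fun x hx => ?_) (Set.finite_range f)
    obtain ⟨i, j, k, rfl⟩ := hP x hx
    refine ⟨(⟨i % 2, Nat.mod_lt _ two_pos⟩, ⟨j % 2, Nat.mod_lt _ two_pos⟩,
      ⟨k % 2, Nat.mod_lt _ two_pos⟩), ?_⟩
    show u ^ (i % 2) * (v ^ (j % 2) * w ^ (k % 2)) = _
    rw [← hred u hu, ← hred v hv, ← hred w hw]
  refine h8.trans ?_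
  rw [← Nat.card_coe_set_eq]
  exact (Finite.card_range_le f).trans (by simp)

/-- The derived group is generated by three commutators when the group is generated by three
elements and central ones. -/
theorem commutator_le_three {G : Type*} [Group G] (S Z : Subgroup G) {x y w : G}
    (hS : S ≤ closure ({x, y, w} : Set G) ⊔ Z) (hx : x ∈ S) (hy : y ∈ S) (hw : w ∈ S)
    (hZ : ∀ z ∈ Z, ∀ s ∈ S, s * z = z * s) (hZS : Z ≤ S)
    (hc : ∀ a ∈ S, ∀ b ∈ S, ⁅a, b⁆ ∈ Z) :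
    ⁅S, S⁆ ≤ closure ({⁅x, y⁆, ⁅x, w⁆, ⁅y, w⁆} : Set G) := by
  set D := closure ({⁅x, y⁆, ⁅x, w⁆, ⁅y, w⁆} : Set G)
  set gens : Set G := {x, y, w} ∪ (Z : Set G)
  have hgS : gens ⊆ S := by
    rintro a ((rfl | rfl | rfl) | ha) <;> first | assumption | exact hZS ha
  have hS' : S ≤ closure gens := by
    rw [Subgroup.closure_union, closure_eq]
    exact hS
  have hD : ∀ d ∈ D, ∀ s ∈ S, s * d = d * s := by
    intro d hd s hs
    have : D ≤ Z := (closure_le _).2 (by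
      rintro _ (rfl | rfl | rfl) <;> exact hc _ (by assumption) _ (by assumption))
    exact hZ d (this hd) s hs
  -- commutators are bilinear
  have hbil : ∀ a ∈ S, ∀ b ∈ S, ∀ c ∈ S, ⁅a * b, c⁆ = ⁅a, c⁆ * ⁅b, c⁆ := fun a ha b hb c hc' => by
    have h1 := hZ _ (hc b hb c hc') a ha
    simp only [commutatorElement_def] at h1 ⊢
    calc a * b * c * (a * b)⁻¹ * c⁻¹ = (a * (b * c * b⁻¹ * c⁻¹)) * (c * a⁻¹ * c⁻¹) := by group
      _ = (b * c * b⁻¹ * c⁻¹) * a * (c * a⁻¹ * c⁻¹) := by rw [h1]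
      _ = (b * c * b⁻¹ * c⁻¹) * (a * c * a⁻¹ * c⁻¹) := by group
      _ = _ := by
        have h2 := hZ _ (hc a ha c hc') (b * c * b⁻¹ * c⁻¹)
          (mul_mem (mul_mem (mul_mem hb hc') (inv_mem hb)) (inv_mem hc'))
        simp only [commutatorElement_def] at h2
        exact h2
  have hbase : ∀ a ∈ gens, ∀ b ∈ gens, ⁅a, b⁆ ∈ D := by
    have h1 : ∀ p ∈ ({⁅x, y⁆, ⁅x, w⁆, ⁅y, w⁆} : Set G), p ∈ D := fun p hp => subset_closure hp
    rintro a (ha | ha) b (hb | hb)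
    · rcases ha with rfl | rfl | rfl <;> rcases hb with rfl | rfl | rfl <;>
        first
          | (rw [commutatorElement_self]; exact one_mem _)
          | exact h1 _ (Or.inl rfl)
          | exact h1 _ (Or.inr (Or.inl rfl))
          | exact h1 _ (Or.inr (Or.inr rfl))
          | (rw [← commutatorElement_inv]; exact inv_mem (h1 _ (Or.inl rfl)))
          | (rw [← commutatorElement_inv]; exact inv_mem (h1 _ (Or.inr (Or.inl rfl))))
          | (rw [← commutatorElement_inv]; exact inv_mem (h1 _ (Or.inr (Or.inr rfl))))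
    · rw [commutatorElement_eq_one_iff_mul_comm.2 (hZ b hb a (hgS (Or.inl ha)))]; exact one_mem _
    · rw [commutatorElement_eq_one_iff_mul_comm.2 (hZ a ha b (hgS (Or.inl hb))).symm]; exact one_mem _
    · rw [commutatorElement_eq_one_iff_mul_comm.2 (hZ b hb a (hZS ha))]; exact one_mem _
  have hcl : closure gens ≤ S := (closure_le _).2 hgS
  have hinv : ∀ a ∈ S, ∀ c ∈ S, ⁅a⁻¹, c⁆ = ⁅a, c⁆⁻¹ := fun a ha c hc' => by
    refine eq_inv_of_mul_eq_one_left ?_
    rw [← hbil _ (inv_mem ha) a ha c hc', inv_mul_cancel, commutatorElement_one_left]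
  have hleft : ∀ b ∈ gens, ∀ a ∈ closure gens, ⁅a, b⁆ ∈ D := by
    intro b hb a ha
    induction ha using closure_induction with
    | mem a ha => exact hbase a ha b hb
    | one => rw [commutatorElement_one_left]; exact one_mem _
    | mul p q hp hq h1 h2 => rw [hbil p (hcl hp) q (hcl hq) b (hgS hb)]; exact mul_mem h1 h2
    | inv p hp h1 => rw [hinv p (hcl hp) b (hgS hb)]; exact inv_mem h1
  rw [commutator_le]
  intro a ha b hb
  have : ⁅b, a⁆ ∈ D := by
    have ha' := hS' ha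
    have hb' := hS' hb
    clear hb
    induction hb' using closure_induction with
    | mem b hb => rw [← commutatorElement_inv]; exact inv_mem (hleft b hb a ha')
    | one => rw [commutatorElement_one_left]; exact one_mem _
    | mul p q hp hq h1 h2 => rw [hbil p (hcl hp) q (hcl hq) a ha]; exact mul_mem h1 h2
    | inv p hp h1 => rw [hinv p (hcl hp) a ha]; exact inv_mem h1
  rw [← commutatorElement_inv]
  exact inv_mem this

section SL25

theorem sl_central_sq {A : Matrix.SpecialLinearGroup (Fin 2) (ZMod 5)}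
    (hA : A ∈ center (Matrix.SpecialLinearGroup (Fin 2) (ZMod 5))) : A * A = 1 := by
  obtain ⟨r, hr, hrA⟩ := Matrix.SpecialLinearGroup.mem_center_iff.1 hA
  refine Subtype.ext ?_
  rw [Fintype.card_fin] at hr
  rw [Matrix.SpecialLinearGroup.coe_mul, ← hrA, ← map_mul, ← sq, hr, map_one]
  rfl

theorem sl_neg_one_central :
    (-1 : Matrix.SpecialLinearGroup (Fin 2) (ZMod 5)) ∈ center (Matrix.SpecialLinearGroup (Fin 2) (ZMod 5)) :=
  mem_center_iff.2 fun B => Subtype.ext (by simp)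

/-- Commuting elements of order four of `SL₂(5)` agree modulo the centre. -/
theorem sl_four_pair {A B : Matrix.SpecialLinearGroup (Fin 2) (ZMod 5)} (hAB : A * B = B * A)
    (hA : A * A ∈ center _) (hB : B * B ∈ center _)
    (hA' : A ∉ center (Matrix.SpecialLinearGroup (Fin 2) (ZMod 5)))
    (hB' : B ∉ center (Matrix.SpecialLinearGroup (Fin 2) (ZMod 5))) :
    A * B⁻¹ ∈ center (Matrix.SpecialLinearGroup (Fin 2) (ZMod 5)) := by
  have key : ∀ C : Matrix.SpecialLinearGroup (Fin 2) (ZMod 5),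
      C * C = 1 → C ∈ center (Matrix.SpecialLinearGroup (Fin 2) (ZMod 5)) := fun C hC => by
    by_cases h1 : C = 1
    · exact h1 ▸ one_mem _
    · exact sl_two_five_invol C hC h1 ▸ sl_neg_one_central
  have hm : ∀ C : Matrix.SpecialLinearGroup (Fin 2) (ZMod 5), C * C ∈ center _ →
      C ∉ center (Matrix.SpecialLinearGroup (Fin 2) (ZMod 5)) → C * C = -1 := fun C hC hC' =>
    sl_two_five_invol _ (sl_central_sq hC) fun h => hC' (key C h)
  refine key _ ?_
  have h1 : B⁻¹ * A = A * B⁻¹ := by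
    rw [inv_mul_eq_iff_eq_mul, ← mul_assoc, ← hAB, mul_inv_cancel_right]
  calc A * B⁻¹ * (A * B⁻¹) = A * (B⁻¹ * A) * B⁻¹ := by group
    _ = A * (A * B⁻¹) * B⁻¹ := by rw [h1]
    _ = (A * A) * (B * B)⁻¹ := by group
    _ = 1 := by rw [hm A hA hA', hm B hB hB', mul_inv_cancel]

end SL25

section Image

variable {Γ : Type u} [Group Γ] [Finite Γ] {N : Subgroup Γ} [N.Normal] {S : Sylow 2 Γ}

theorem cov_ker_eq_center (hX : Consumers.Three (Γ ⧸ N)) (hc : N ≤ center Γ)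
    (hna : ¬ ∀ a b : Γ ⧸ N, a * b = b * a) : (cov N).ker = center ↥(commutator Γ) := by
  obtain ⟨-, -, hsur, hker⟩ := sup_commutator hX hc hna
  haveI := hX.isSimpleGroup
  refine le_antisymm hker fun z hz => ?_
  have h1 : cov N z ∈ center (Γ ⧸ N) := mem_center_iff.2 fun y => by
    obtain ⟨w, rfl⟩ := hsur y
    rw [← map_mul, ← map_mul, mem_center_iff.1 hz w]
  rcases (inferInstance : (center (Γ ⧸ N)).Normal).eq_bot_or_eq_top with h | h
  · rwa [h, Subgroup.mem_bot] at h1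
  · exact absurd (fun a b => mem_center_iff.1 (h ▸ mem_top b) a) hna

theorem le_sylow_of_central (hc : N ≤ center Γ) (hN : IsPGroup 2 N) : N ≤ (S : Subgroup Γ) :=
  le_sylow_of_normalizes hN fun n hn => mem_normalizer_iff.2 fun x => by
    rw [show n * x * n⁻¹ = x by rw [← mem_center_iff.1 (hc hn) x, mul_inv_cancel_right]]

theorem kernel_le_zs (hc : N ≤ center Γ) (hN : IsPGroup 2 N) : N ≤ zs S := fun _ hn =>
  mem_zs.2 ⟨le_sylow_of_central hc hN hn, fun s _ => mem_center_iff.1 (hc hn) s⟩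

theorem mem_of_image_mem (hc : N ≤ center Γ) (hN : IsPGroup 2 N) {x : Γ}
    (hx : QuotientGroup.mk' N x ∈ (S : Subgroup Γ).map (QuotientGroup.mk' N)) :
    x ∈ (S : Subgroup Γ) := by
  obtain ⟨s, hs, he⟩ := hx
  simpa using mul_mem hs (le_sylow_of_central (S := S) hc hN (QuotientGroup.eq.1 he))

/-- Over the smallest group the centre of a non-abelian Sylow 2-subgroup lies in the kernel. -/
theorem zs_le_of_small (hX : Consumers.Three (Γ ⧸ N)) (hR : RankOne (Γ ⧸ N)) (hc : N ≤ center Γ)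
    (hN : IsPGroup 2 N) (hS : ¬ IsMulCommutative (S : Subgroup Γ))
    {F : Type} [Field F] [Fintype F] (hF : Fintype.card F = 4)
    (e : Γ ⧸ N ≃* Matrix.ProjectiveSpecialLinearGroup (Fin 2) F)
    (hsq : ∀ a ∈ (S : Subgroup Γ).map (QuotientGroup.mk' N), a * a = 1)
    (hab : ∀ a ∈ (S : Subgroup Γ).map (QuotientGroup.mk' N),
      ∀ b ∈ (S : Subgroup Γ).map (QuotientGroup.mk' N), a * b = b * a) : zs S ≤ N := by
  set π := QuotientGroup.mk' N
  have hna := three_not_comm hR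
  obtain ⟨hsup, -, -, -⟩ := sup_commutator hX hc hna
  obtain ⟨f⟩ := sl_two_five hX hc hN hna hS hF e hab
  set L := commutator Γ
  have hNS := le_sylow_of_central (S := S) hc hN
  intro z hz
  by_contra hzN
  -- lifts into the derived group
  have hlift : ∀ x ∈ (S : Subgroup Γ), ∃ l ∈ (S : Subgroup Γ), l ∈ L ∧ π l = π x := fun x hx => by
    obtain ⟨k, hk, l, hl, rfl⟩ := mem_sup_of_normal_right.1 (hsup ▸ mem_top x)
    refine ⟨l, by simpa using mul_mem (inv_mem (hNS hk)) hx, hl, ?_⟩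
    rw [map_mul, show π k = 1 from (QuotientGroup.eq_one_iff k).2 hk, one_mul]
  have hfc : ∀ w : ↥L, π (w : Γ) = 1 ↔ f w ∈ center (Matrix.SpecialLinearGroup (Fin 2) (ZMod 5)) := by
    intro w
    have h : π (w : Γ) = 1 ↔ w ∈ center ↥L := by rw [← cov_ker_eq_center hX hc hna]; rfl
    rw [h]
    constructor
    · exact fun hw => mem_center_iff.2 fun B => by
        obtain ⟨r, rfl⟩ := f.surjective B
        rw [← map_mul, ← map_mul, mem_center_iff.1 hw r]
    · exact fun hw => mem_center_iff.2 fun r => f.injective (by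
        rw [map_mul, map_mul, mem_center_iff.1 hw (f r)])
  obtain ⟨l, hlS, hlL, hlz⟩ := hlift z hz.1
  have hl1 : π l ≠ 1 := fun h => hzN ((QuotientGroup.eq_one_iff z).1 (hlz.symm.trans h))
  have hlc : ∀ s ∈ (S : Subgroup Γ), s * l = l * s := fun s hs => by
    have hd : z⁻¹ * l ∈ N := QuotientGroup.eq.1 hlz.symm
    rw [show l = z * (z⁻¹ * l) by group, ← mul_assoc, (mem_zs.1 hz).2 s hs, mul_assoc,
      mem_center_iff.1 (hc hd) s, ← mul_assoc]
  obtain ⟨a, b, ha, hb, haQ, hbQ, hne⟩ :=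
    hR.two_invols (S.mapSurjective (QuotientGroup.mk'_surjective N))
  obtain ⟨p, hp, hp1, hpl⟩ : ∃ p ∈ (S : Subgroup Γ), π p ≠ 1 ∧ π p ≠ π l := by
    obtain ⟨x, hxS, hxa⟩ := haQ
    obtain ⟨y, hyS, hyb⟩ := hbQ
    have h1 : ∀ (w : Γ ⧸ N), orderOf w = 2 → w ≠ 1 := fun w hw h => by
      rw [h, orderOf_one] at hw; omega
    by_cases hxl : π x = π l
    · exact ⟨y, hyS, fun h => h1 b hb (hyb ▸ h), fun h => hne (hxa ▸ hyb ▸ hxl.trans h.symm)⟩
    · exact ⟨x, hxS, fun h => h1 a ha (hxa ▸ h), hxl⟩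
  obtain ⟨q, hqS, hqL, hqp⟩ := hlift p hp
  have hsq' : ∀ w (hw : w ∈ L), w ∈ (S : Subgroup Γ) →
      f ⟨w, hw⟩ * f ⟨w, hw⟩ ∈ center (Matrix.SpecialLinearGroup (Fin 2) (ZMod 5)) := fun w hw hwS => by
    rw [← map_mul, ← hfc]
    show π (w * w) = 1
    rw [map_mul]; exact hsq _ ⟨w, hwS, rfl⟩
  have h := sl_four_pair (A := f ⟨q, hqL⟩) (B := f ⟨l, hlL⟩)
    (by rw [← map_mul, ← map_mul]; exact congrArg f (Subtype.ext (hlc q hqS))) (hsq' q hqL hqS)
    (hsq' l hlL hlS) (fun hh => hp1 (hqp ▸ (hfc _).2 hh)) (fun hh => hl1 ((hfc _).2 hh))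
  rw [← map_inv, ← map_mul, ← hfc] at h
  refine hpl ?_
  have h' : π (q * l⁻¹) = 1 := h
  rw [map_mul, map_inv, mul_inv_eq_one] at h'
  rw [← hqp, h']

/-- In the quotient a central element of the quotient comes from a central element of `S`. -/
theorem zs_of_image (hR : RankOne (Γ ⧸ N)) (hc : N ≤ center Γ) (hN : IsPGroup 2 N)
    {Q : Sylow 2 (Γ ⧸ N)} (hQ : (Q : Subgroup (Γ ⧸ N)) = (S : Subgroup Γ).map (QuotientGroup.mk' N))
    {z : Γ} (hz : z ∈ zs S) (hzo : orderOf (QuotientGroup.mk' N z) = 2) {w : Γ}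
    (hw : w ∈ (S : Subgroup Γ)) (hwo : orderOf (QuotientGroup.mk' N w) = 2) : w ∈ zs S := by
  set π := QuotientGroup.mk' N
  obtain ⟨k, hk, hkz⟩ := hR.transitive Q hzo hwo (hQ ▸ ⟨z, hz.1, rfl⟩) (hQ ▸ ⟨w, hw, rfl⟩)
  obtain ⟨g, rfl⟩ := QuotientGroup.mk'_surjective N k
  rw [hQ] at hk
  have hg : ∀ y, y ∈ (S : Subgroup Γ) ↔ g * y * g⁻¹ ∈ (S : Subgroup Γ) := fun y => by
    constructor
    · exact fun hy => mem_of_image_mem hc hN (by
        rw [map_mul, map_mul, map_inv]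
        exact (mem_normalizer_iff.1 hk _).1 ⟨y, hy, rfl⟩)
    · exact fun hy => mem_of_image_mem hc hN ((mem_normalizer_iff.1 hk _).2 (by
        rw [← map_inv, ← map_mul, ← map_mul]; exact ⟨_, hy, rfl⟩))
  have hgz : g * z * g⁻¹ ∈ zs S := mem_zs.2 ⟨(hg z).1 hz.1, fun s hs => by
    have h := (mem_zs.1 hz).2 (g⁻¹ * s * g) ((hg _).2 (by
      rwa [show g * (g⁻¹ * s * g) * g⁻¹ = s by group]))
    calc s * (g * z * g⁻¹) = g * (g⁻¹ * s * g * z) * g⁻¹ := by group
      _ = g * (z * (g⁻¹ * s * g)) * g⁻¹ := by rw [h]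
      _ = _ := by group⟩
  have hd : (g * z * g⁻¹)⁻¹ * w ∈ N := QuotientGroup.eq.1 (by
    show π (g * z * g⁻¹) = π w
    rw [map_mul, map_mul, map_inv]; exact hkz)
  have := mul_mem hgz (kernel_le_zs (S := S) hc hN hd)
  rwa [mul_inv_cancel_left] at this

theorem double_card {H : Type*} [Group H] [Finite H] {A B : Subgroup H} (h : A < B) :
    2 * Nat.card A ≤ Nat.card B := by
  obtain ⟨k, hk⟩ := card_dvd_of_le h.le
  rcases Nat.lt_or_ge k 2 with hk2 | hk2
  · exfalso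
    refine h.ne (eq_of_le_of_card_ge h.le ?_)
    rw [hk]
    exact (Nat.mul_le_mul_left _ (Nat.le_of_lt_succ hk2)).trans_eq (mul_one _)
  · rw [hk, mul_comm 2]; exact Nat.mul_le_mul_left _ hk2

/-- The exceptional covering case: the derived group of `S` has order at most eight. -/
theorem derived_inf_eq_bot_eight (hR : RankOne (Γ ⧸ N)) (hc : N ≤ center Γ) (hN : IsPGroup 2 N)
    (Q : Sylow 2 (Γ ⧸ N)) (hQ : (Q : Subgroup (Γ ⧸ N)) = (S : Subgroup Γ).map (QuotientGroup.mk' N))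
    (hcQ : Nat.card (Q : Subgroup (Γ ⧸ N)) = 64)
    (hzQ : Nat.card (center (Q : Subgroup (Γ ⧸ N))) = 8)
    (h4 : ∀ x : (Q : Subgroup (Γ ⧸ N)), x ^ 4 = 1)
    (hna : ¬ IsMulCommutative (Q : Subgroup (Γ ⧸ N))) {z : Γ} (hz : z ∈ zs S) (hzN : z ∉ N) :
    ⁅(S : Subgroup Γ), (S : Subgroup Γ)⁆ ⊓ N = ⊥ := by
  set π := QuotientGroup.mk' N
  obtain ⟨hcom, -, hinv⟩ := hR.special Q hna
  set Zq := center (Q : Subgroup (Γ ⧸ N))
  have hmemQ : ∀ w ∈ (S : Subgroup Γ), π w ∈ (Q : Subgroup (Γ ⧸ N)) := fun w hw => hQ ▸ ⟨w, hw, rfl⟩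
  have hpre : ∀ q : (Q : Subgroup (Γ ⧸ N)), ∃ w ∈ (S : Subgroup Γ), π w = q := fun q => by
    have h : (q : Γ ⧸ N) ∈ (S : Subgroup Γ).map π := hQ ▸ q.2
    exact h
  have hzc : (⟨π z, hmemQ z hz.1⟩ : (Q : Subgroup (Γ ⧸ N))) ∈ Zq := mem_center_iff.2 fun q => by
    obtain ⟨w, hw, he⟩ := hpre q
    refine Subtype.ext ?_
    show (q : Γ ⧸ N) * π z = π z * q
    rw [← he, ← map_mul, ← map_mul, (mem_zs.1 hz).2 w hw]
  have hzo : orderOf (π z) = 2 := orderOf_eq_prime (congrArg Subtype.val ((hinv _).1 hzc))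
    fun h => hzN ((QuotientGroup.eq_one_iff z).1 h)
  -- central elements of the quotient lift to central elements
  have hlift : ∀ (w : Γ) (hw : w ∈ (S : Subgroup Γ)),
      (⟨π w, hmemQ w hw⟩ : (Q : Subgroup (Γ ⧸ N))) ∈ Zq → w ∈ zs S := by
    intro w hw hwz
    by_cases h1 : π w = 1
    · exact kernel_le_zs hc hN ((QuotientGroup.eq_one_iff w).1 h1)
    · exact zs_of_image hR hc hN hQ hz hzo hw
        (orderOf_eq_prime (congrArg Subtype.val ((hinv _).1 hwz)) h1)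
  -- three generators modulo the centre
  have htwo : ∀ x y : (Q : Subgroup (Γ ⧸ N)), closure ({x, y} : Set _) ⊔ Zq ≠ ⊤ := by
    intro x y htop
    refine hR.two_gen Q hna x y x.2 y.2 ?_
    have h := congrArg (Subgroup.map (Q : Subgroup (Γ ⧸ N)).subtype) htop
    rw [Subgroup.map_sup, MonoidHom.map_closure, Set.image_pair, ← MonoidHom.range_eq_map,
      range_subtype] at h
    refine h.symm.le.trans (sup_le_sup le_rfl ?_)
    rintro _ ⟨q, hq, rfl⟩
    exact mem_zs.2 ⟨q.2, fun s hs => congrArg Subtype.val (mem_center_iff.1 hq ⟨s, hs⟩)⟩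
  obtain ⟨x, -, hx⟩ := SetLike.exists_of_lt (lt_top_iff_ne_top.2 fun h : Zq = ⊤ =>
    hna ⟨⟨fun a b => (mem_center_iff.1 (h ▸ mem_top b : b ∈ Zq) a)⟩⟩)
  obtain ⟨y, -, hy⟩ := SetLike.exists_of_lt (lt_top_iff_ne_top.2 (htwo x x))
  obtain ⟨v, -, hv⟩ := SetLike.exists_of_lt (lt_top_iff_ne_top.2 (htwo x y))
  have htop : closure ({x, y, v} : Set (Q : Subgroup (Γ ⧸ N))) ⊔ Zq = ⊤ := by
    have c1 := double_card (A := Zq) (B := closure ({x, x} : Set _) ⊔ Zq)
      (lt_of_le_of_ne le_sup_right fun h =>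
        hx (h.symm ▸ mem_sup_left (subset_closure (Set.mem_insert _ _))))
    have c2 := double_card (A := closure ({x, x} : Set _) ⊔ Zq) (B := closure ({x, y} : Set _) ⊔ Zq)
      (lt_of_le_of_ne (sup_le_sup_right (Subgroup.closure_mono (by simp)) _) fun h =>
        hy (h.symm ▸ mem_sup_left (subset_closure (by simp))))
    have c3 := double_card (A := closure ({x, y} : Set _) ⊔ Zq)
      (B := closure ({x, y, v} : Set _) ⊔ Zq)
      (lt_of_le_of_ne (sup_le_sup_right (Subgroup.closure_mono (by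
        intro t ht; rcases ht with rfl | rfl <;> simp)) _) fun h =>
        hv (h.symm ▸ mem_sup_left (subset_closure (by simp))))
    refine Subgroup.eq_top_of_le_card _ ?_
    omega
  obtain ⟨x', hx', hxe⟩ := hpre x
  obtain ⟨y', hy', hye⟩ := hpre y
  obtain ⟨v', hv', hve⟩ := hpre v
  have hcz : ∀ a ∈ (S : Subgroup Γ), ∀ b ∈ (S : Subgroup Γ), ⁅a, b⁆ ∈ zs S := fun a ha b hb => by
    refine hlift _ (mul_mem (mul_mem (mul_mem ha hb) (inv_mem ha)) (inv_mem hb)) ?_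
    rw [show Zq = commutator _ from hcom.symm, commutator_def]
    have e : ∀ h, (⟨π ⁅a, b⁆, h⟩ : (Q : Subgroup (Γ ⧸ N))) =
        ⁅(⟨π a, hmemQ a ha⟩ : (Q : Subgroup (Γ ⧸ N))), ⟨π b, hmemQ b hb⟩⁆ := fun _ =>
      Subtype.ext (show π ⁅a, b⁆ = ⁅π a, π b⁆ from map_commutatorElement π a b)
    rw [e]
    exact commutator_mem_commutator (mem_top _) (mem_top _)
  have hgen3 : (S : Subgroup Γ) ≤ closure ({x', y', v'} : Set Γ) ⊔ zs S := by
    intro s hs
    have h := congrArg (Subgroup.map (Q : Subgroup (Γ ⧸ N)).subtype) htop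
    rw [Subgroup.map_sup, MonoidHom.map_closure, ← MonoidHom.range_eq_map, range_subtype] at h
    have hle : (Q : Subgroup (Γ ⧸ N)) ≤ (closure ({x', y', v'} : Set Γ) ⊔ zs S).map π := by
      rw [← h, Subgroup.map_sup, MonoidHom.map_closure]
      refine sup_le_sup (Subgroup.closure_mono ?_) ?_
      · rintro _ ⟨t, (rfl | rfl | rfl), rfl⟩
        · exact ⟨x', by simp, hxe⟩
        · exact ⟨y', by simp, hye⟩
        · exact ⟨v', by simp, hve⟩
      · rintro _ ⟨t, ht, rfl⟩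
        obtain ⟨w, hw, hwe⟩ := hpre t
        refine ⟨w, hlift w hw ?_, hwe⟩
        rwa [show (⟨π w, hmemQ w hw⟩ : (Q : Subgroup (Γ ⧸ N))) = t from Subtype.ext hwe]
    obtain ⟨t, ht, hte⟩ := hle (hmemQ s hs)
    simpa using mul_mem ht (mem_sup_right (kernel_le_zs (S := S) hc hN (QuotientGroup.eq.1 hte)))
  have hsq : ∀ a ∈ (S : Subgroup Γ), a * a ∈ zs S := fun a ha => hlift _ (mul_mem ha ha) (by
    refine (hinv _).2 ?_
    rw [show (⟨π (a * a), hmemQ _ (mul_mem ha ha)⟩ : (Q : Subgroup (Γ ⧸ N))) =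
      ⟨π a, hmemQ a ha⟩ ^ 2 from Subtype.ext (by show π (a * a) = π a ^ 2; rw [map_mul, sq]), ← pow_mul]
    exact h4 _)
  have hcsq : ∀ a ∈ (S : Subgroup Γ), ∀ b ∈ (S : Subgroup Γ), ⁅a, b⁆ * ⁅a, b⁆ = 1 := by
    intro a ha b hb
    have hz1 := (mem_zs.1 (hcz a ha b hb)).2 a ha
    have hz2 : ⁅a * a, b⁆ = 1 :=
      commutatorElement_eq_one_iff_mul_comm.2 ((mem_zs.1 (hsq a ha)).2 b hb).symm
    refine Eq.trans ?_ hz2
    calc ⁅a, b⁆ * ⁅a, b⁆ = ⁅a, b⁆ * a * a⁻¹ * ⁅a, b⁆ := by group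
      _ = a * ⁅a, b⁆ * a⁻¹ * ⁅a, b⁆ := by rw [hz1]
      _ = ⁅a * a, b⁆ := by simp only [commutatorElement_def]; group
  have hcomm' : ∀ a ∈ (S : Subgroup Γ), ∀ b ∈ (S : Subgroup Γ), ∀ c ∈ (S : Subgroup Γ),
      ∀ d ∈ (S : Subgroup Γ), Commute ⁅a, b⁆ ⁅c, d⁆ := fun a ha b hb c hc' d hd =>
    (mem_zs.1 (hcz c hc' d hd)).2 _ (hcz a ha b hb).1
  have h8 : Nat.card ↥⁅(S : Subgroup Γ), (S : Subgroup Γ)⁆ ≤ 8 :=
    (card_le_of_le (commutator_le_three _ (zs S) hgen3 hx' hy' hv'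
      (fun z' hz' => (mem_zs.1 hz').2) inf_le_left hcz)).trans
    (closure_three_card (hcomm' _ hx' _ hy' _ hx' _ hv') (hcomm' _ hx' _ hy' _ hy' _ hv')
      (hcomm' _ hx' _ hv' _ hy' _ hv')
      (hcsq _ hx' _ hy') (hcsq _ hx' _ hv') (hcsq _ hy' _ hv') inferInstance)
  set D := ⁅(S : Subgroup Γ), (S : Subgroup Γ)⁆
  have himg : Nat.card (D.map π) = 8 := by
    rw [show D.map π = ⁅(Q : Subgroup (Γ ⧸ N)), (Q : Subgroup (Γ ⧸ N))⁆ from hQ ▸ map_commutator _ _ π,
      ← map_subtype_commutator, card_subtype, hcom]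
    exact hzQ
  have hbij : Function.Bijective (π.subgroupMap D) := by
    refine (Nat.bijective_iff_surjective_and_card _).2 ⟨π.subgroupMap_surjective D, ?_⟩
    exact le_antisymm (himg.symm ▸ h8) (Nat.card_le_card_of_surjective _ (π.subgroupMap_surjective D))
  refine le_bot_iff.1 fun t ht => ?_
  have h1 : π.subgroupMap D ⟨t, ht.1⟩ = 1 := Subtype.ext ((QuotientGroup.eq_one_iff t).2 ht.2)
  exact congrArg Subtype.val (hbij.1 (h1.trans (map_one _).symm))

/-- A central element outside the kernel forces the derived group of `S` to meet the kernel trivially. -/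
theorem derived_image (hc : N ≤ center Γ) (hN : IsPGroup 2 N)
    (hX : Consumers.Three (Γ ⧸ N)) (hR : RankOne (Γ ⧸ N)) (S : Sylow 2 Γ)
    (hS : ¬ IsMulCommutative (S : Subgroup Γ)) {z : Γ} (hz : z ∈ zs S) (hzN : z ∉ N) :
    ⁅(S : Subgroup Γ), (S : Subgroup Γ)⁆ ⊓ N = ⊥ ∧
      (∀ b ∈ ⁅(S : Subgroup Γ), (S : Subgroup Γ)⁆, b * b = 1 ∧ b ∈ zs S) ∧
      ∀ w ∈ zs S, ∃ b ∈ ⁅(S : Subgroup Γ), (S : Subgroup Γ)⁆, w * b⁻¹ ∈ N := by
  haveI : Fact (Nat.Prime 2) := ⟨Nat.prime_two⟩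
  set π := QuotientGroup.mk' N
  have hna := three_not_comm hR
  obtain ⟨-, hperf, hsur, hker⟩ := sup_commutator hX hc hna
  set Q : Sylow 2 (Γ ⧸ N) := S.mapSurjective (QuotientGroup.mk'_surjective N)
  have hle : ⁅(S : Subgroup Γ), (S : Subgroup Γ)⁆ ≤ commutator Γ := commutator_mono le_top le_top
  have hone : Nat.card (cov N).ker = 1 →
      ⁅(S : Subgroup Γ), (S : Subgroup Γ)⁆ ⊓ N = ⊥ := fun h =>
    le_bot_iff.1 ((inf_le_inf_right N hle).trans (commutator_inf_eq_bot h).le)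
  suffices hmain : ¬ IsMulCommutative (Q : Subgroup (Γ ⧸ N)) ∧
      ⁅(S : Subgroup Γ), (S : Subgroup Γ)⁆ ⊓ N = ⊥ by
    obtain ⟨hQna, hbot⟩ := hmain
    obtain ⟨hcom, -, hinv⟩ := hR.special Q hQna
    have hmapd : ⁅(S : Subgroup Γ), (S : Subgroup Γ)⁆.map π =
        (center (Q : Subgroup (Γ ⧸ N))).map (Q : Subgroup (Γ ⧸ N)).subtype := by
      rw [← hcom, map_subtype_commutator]
      exact map_commutator _ _ π
    have h0 : ∀ c ∈ ⁅(S : Subgroup Γ), (S : Subgroup Γ)⁆, π c = 1 → c = 1 := fun c hc' h => by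
      have h1 : c ∈ ⁅(S : Subgroup Γ), (S : Subgroup Γ)⁆ ⊓ N :=
        ⟨hc', (QuotientGroup.eq_one_iff c).1 h⟩
      rwa [hbot, mem_bot] at h1
    refine ⟨hbot, fun b hb => ?_, fun w hw => ?_⟩
    · have hbS : b ∈ (S : Subgroup Γ) := (commutator_le.2 fun p hp q hq =>
        mul_mem (mul_mem (mul_mem hp hq) (inv_mem hp)) (inv_mem hq)) hb
      obtain ⟨q, hq, hqb⟩ := hmapd ▸ mem_map_of_mem π hb
      have hsq : q.1 * q.1 = 1 := by rw [← sq]; exact congrArg Subtype.val ((hinv q).1 hq)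
      refine ⟨h0 _ (mul_mem hb hb) ?_, mem_zs.2 ⟨hbS, fun s hs => ?_⟩⟩
      · rw [map_mul, ← hqb]; exact hsq
      · refine commutatorElement_eq_one_iff_mul_comm.1 (h0 _ (commutator_mem_commutator hs hbS) ?_)
        rw [map_commutatorElement, commutatorElement_eq_one_iff_mul_comm, ← hqb]
        exact congrArg Subtype.val (mem_center_iff.1 hq ⟨π s, ⟨s, hs, rfl⟩⟩)
    · obtain ⟨b, hb, hbw⟩ : π w ∈ ⁅(S : Subgroup Γ), (S : Subgroup Γ)⁆.map π := by
        rw [hmapd]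
        refine ⟨⟨π w, ⟨w, hw.1, rfl⟩⟩, mem_center_iff.2 fun q => ?_, rfl⟩
        obtain ⟨t, ht, hte⟩ := q.2
        refine Subtype.ext ?_
        show (q : Γ ⧸ N) * π w = π w * q
        rw [← hte, ← map_mul, ← map_mul, (mem_zs.1 hw).2 t ht]
      exact ⟨b, hb, (QuotientGroup.eq_one_iff _).1 (by
        show π (w * b⁻¹) = 1
        rw [map_mul, map_inv, hbw, mul_inv_cancel])⟩
  rcases cover_cases hX hperf (cov N) hsur hker with
    ⟨F, _, _, n, hn, hF, ⟨e⟩, h3⟩ | ⟨F, _, _, m, hm, hF, ⟨e⟩, h2, -⟩ |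
    ⟨F, _, _, n, hn, hF, -, h3, -⟩
  · -- the Sylow subgroup of the quotient is elementary, which is impossible here
    exfalso
    have hsq : ∀ a ∈ (Q : Subgroup (Γ ⧸ N)), a * a = 1 := fun a ha => e.injective (by
      rw [map_mul, map_one]
      exact psl_sylow_comm (by omega) hF (Q.isPGroup'.map e.toMonoidHom) _ ⟨a, ha, rfl⟩)
    have hab : ∀ a ∈ (Q : Subgroup (Γ ⧸ N)), ∀ b ∈ (Q : Subgroup (Γ ⧸ N)), a * b = b * a :=
      fun a ha b hb => by
        have h := hsq _ (mul_mem ha hb)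
        rw [← inv_eq_of_mul_eq_one_right h, mul_inv_rev, inv_eq_of_mul_eq_one_right (hsq a ha),
          inv_eq_of_mul_eq_one_right (hsq b hb)]
    rcases Nat.lt_or_ge n 3 with hlt | hge
    · obtain rfl : n = 2 := by omega
      exact hzN (zs_le_of_small hX hR hc hN hS (by rw [hF]; norm_num) e hsq hab hz)
    · exact hS (comm_of_card_one (h3 hge) hab)
  · let g : Γ ⧸ N ≃* Cfsg.Sz F m := e.trans
      (CfsgLib.Suzuki.lieEquiv (CfsgLib.Suzuki.isSzField_of_card hm hF)).symm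
    let P : Sylow 2 (Cfsg.Sz F m) := Q.mapSurjective (f := g.toMonoidHom) g.surjective
    let i : (Q : Subgroup (Γ ⧸ N)) ≃* (P : Subgroup (Cfsg.Sz F m)) :=
      (Q : Subgroup (Γ ⧸ N)).equivMapOfInjective g.toMonoidHom g.injective
    obtain ⟨hcP, heP, -, hzP⟩ := Cfsg.Agent.S0330.result hm hF P
    have hcQ : Nat.card (Q : Subgroup (Γ ⧸ N)) = (2 ^ (2 * m + 1)) ^ 2 :=
      (Nat.card_congr i.toEquiv).trans hcP
    have hzQ : Nat.card (center (Q : Subgroup (Γ ⧸ N))) = 2 ^ (2 * m + 1) :=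
      (Nat.card_congr (Subgroup.centerCongr i).toEquiv).trans hzP
    have hQna : ¬ IsMulCommutative (Q : Subgroup (Γ ⧸ N)) := by
      intro hcomm
      have htop : center (Q : Subgroup (Γ ⧸ N)) = ⊤ :=
        eq_top_iff.2 fun x _ => mem_center_iff.2 fun y => hcomm.is_comm.comm y x
      rw [htop, Subgroup.card_top, hcQ] at hzQ
      have h2' : 1 < 2 ^ (2 * m + 1) := Nat.one_lt_two_pow (by omega)
      exact (lt_self_pow₀ h2' one_lt_two).ne' hzQ
    refine ⟨hQna, ?_⟩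
    rcases Nat.lt_or_ge m 2 with hlt | hge
    · obtain rfl : m = 1 := by omega
      refine derived_inf_eq_bot_eight hR hc hN Q rfl (hcQ.trans (by norm_num))
        (hzQ.trans (by norm_num)) (fun x => ?_) hQna hz hzN
      have h := Monoid.pow_exponent_eq_one (i x)
      rw [heP, ← map_pow, MulEquiv.map_eq_one_iff] at h
      exact h
    · exact hone (h2 hge)
  · have hk1 : Nat.card (cov N).ker = 1 := by
      have hker2 : IsPGroup 2 (cov N).ker := fun ⟨w, hw⟩ => by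
        obtain ⟨k, hk⟩ := hN ⟨w.1, (QuotientGroup.eq_one_iff _).1 hw⟩
        exact ⟨k, Subtype.ext (Subtype.ext (congrArg Subtype.val hk :))⟩
      obtain ⟨k, hk⟩ := IsPGroup.iff_card.1 hker2
      rw [hk] at h3 ⊢
      exact Nat.eq_one_of_dvd_coprimes (a := 3) (b := 2 ^ k) (Nat.Coprime.pow_right k (by norm_num)) h3 dvd_rfl
    exact ⟨fun hcomm => hS (comm_of_card_one hk1 fun a ha b hb =>
      congrArg Subtype.val (hcomm.is_comm.comm ⟨a, ha⟩ ⟨b, hb⟩)), hone hk1⟩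

end Image

end CfsgLib.CentralMeet
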