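import Cfsg.Agent.CentralMeet.Local
import Cfsg.Agent.CentralMeet.ExtInv

/-!
# Odd elements centralizing a Sylow 2-subgroup, given the structure of smaller groups
-/

set_option autoImplicit false
set_option linter.unusedSectionVars false
set_option linter.style.haveILetI false

namespace CfsgLib.CentralMeet

open Subgroup
open CfsgLib.Bender
open scoped commutatorElement

universe u

/-- The structure theorem for groups of order less than `n`. -/
def Below (n : ℕ) : Prop :=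
  ∀ (Γ : Type u) [Group Γ] [Finite Γ], Nat.card Γ < n → Meet Γ → Cfsg.oddCore Γ = ⊥ →
    Cfsg.pElementClosure 2 (⊤ : Subgroup Γ) = ⊤ →
    ∀ S : Sylow 2 Γ, ¬ IsMulCommutative (S : Subgroup Γ) → ¬ (S : Subgroup Γ).Normal →
      RankOne (Γ ⧸ Cfsg.pCore 2 Γ)

variable {G : Type u} [Group G] [Finite G]

theorem sylow_comm_iff {S T : Sylow 2 G} (h : IsMulCommutative (S : Subgroup G)) :
    IsMulCommutative (T : Subgroup G) := by
  haveI : Fact (Nat.Prime 2) := ⟨Nat.prime_two⟩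
  exact ⟨⟨fun a b => (S.equiv T).symm.injective (by
    rw [map_mul, map_mul]; exact h.is_comm.comm _ _)⟩⟩

/-- The normal subgroup generated by the elements of 2-power order, and its central quotient. -/
theorem local_structure {n : ℕ} (ih : Below.{u} n) (hm : Meet G) {H : Subgroup G}
    (hlt : Nat.card H < n) (hO : Cfsg.oddCore H = ⊥) {S : Sylow 2 G}
    (hSH : (S : Subgroup G) ≤ H) (hS : ¬ IsMulCommutative (S : Subgroup G))
    (hn : ¬ H ≤ normalizer ((S : Subgroup G) : Set G)) :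
    let Γ := Cfsg.pElementClosure 2 H
    RankOne (↥Γ ⧸ Cfsg.pCore 2 ↥Γ) ∧ Consumers.Three (↥Γ ⧸ Cfsg.pCore 2 ↥Γ) ∧
      Cfsg.pCore 2 ↥Γ ≤ center ↥Γ ∧ ¬ Γ ≤ normalizer ((S : Subgroup G) : Set G) := by
  intro Γ
  haveI : Fact (Nat.Prime 2) := ⟨Nat.prime_two⟩
  have hΓH : Γ ≤ H := twoClosure_le H
  have hSΓ : (S : Subgroup G) ≤ Γ := sylow_le_twoClosure hSH
  have hΓn : ¬ Γ ≤ normalizer ((S : Subgroup G) : Set G) := fun hle => hn fun h hh => by
    obtain ⟨a, ha, m, hmn, rfl⟩ := exists_twoClosure_mul hSH hh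
    exact mul_mem (hle ha) hmn
  have hO' : Cfsg.oddCore Γ = ⊥ := by
    have h1 : DGroup.coreIn Γ ≤ DGroup.coreIn H := by
      refine DGroup.le_coreIn ((DGroup.coreIn_le Γ).trans hΓH) ?_ (DGroup.odd_coreIn Γ)
      haveI := oddCore_characteristic Γ
      intro g hg
      refine mem_normalizer_iff.2 ?_
      have key : ∀ g ∈ H, ∀ x ∈ DGroup.coreIn Γ, g * x * g⁻¹ ∈ DGroup.coreIn Γ := by
        rintro g hg _ ⟨y, hy, rfl⟩
        have hgN := le_normalizer_twoClosure H hg
        let φ : Γ ≃* Γ := normalizerMonoidHom Γ ⟨g, hgN⟩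
        exact ⟨φ y, characteristic_iff_map_le.1 inferInstance φ ⟨y, hy, rfl⟩, rfl⟩
      exact fun x => ⟨key g hg x, fun hx => by simpa [mul_assoc] using key _ (inv_mem hg) _ hx⟩
    have h2 : DGroup.coreIn H = ⊥ := by rw [DGroup.coreIn, hO, Subgroup.map_bot]
    rw [h2, le_bot_iff, DGroup.coreIn, Subgroup.map_eq_bot_iff_of_injective _ Γ.subtype_injective] at h1
    exact h1
  set P : Sylow 2 Γ := S.subtype hSΓ
  have hP : ¬ IsMulCommutative (P : Subgroup Γ) := fun hc => hS ⟨⟨fun a b => Subtype.ext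
    (congrArg (fun x : (P : Subgroup Γ) => ((x : Γ) : G))
      (hc.is_comm.comm ⟨⟨a, hSΓ a.2⟩, a.2⟩ ⟨⟨b, hSΓ b.2⟩, b.2⟩))⟩⟩
  have hPn : ¬ (P : Subgroup Γ).Normal := fun hN => hΓn fun g hg => mem_normalizer_iff.2 fun x =>
    ⟨fun hx => hN.conj_mem ⟨x, hSΓ hx⟩ hx ⟨g, hg⟩, fun hx => by
      have hxΓ : x ∈ Γ := by simpa [mul_assoc] using mul_mem (mul_mem (inv_mem hg) (hSΓ hx)) hg
      have h := hN.conj_mem ⟨g * x * g⁻¹, hSΓ hx⟩ hx ⟨g⁻¹, inv_mem hg⟩
      have h' : g⁻¹ * (g * x * g⁻¹) * g⁻¹⁻¹ ∈ (S : Subgroup G) := h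
      simpa [mul_assoc] using h'⟩
  have hgen := gen2_twoClosure H
  have hR := ih Γ ((card_le_of_le hΓH).trans_lt hlt) (hm.subgroup Γ) hO' hgen P hP hPn
  refine ⟨hR, hR.three ?_, (hm.subgroup Γ).pCore_le_center hgen hPn, hΓn⟩
  refine eq_top_iff.2 fun x _ => ?_
  obtain ⟨g, rfl⟩ := QuotientGroup.mk'_surjective _ x
  have h1 : Cfsg.pElementClosure 2 (⊤ : Subgroup Γ) ≤
      (Cfsg.pElementClosure 2 (⊤ : Subgroup (↥Γ ⧸ Cfsg.pCore 2 ↥Γ))).comap (QuotientGroup.mk' _) :=
    (closure_le _).2 fun y ⟨_, k, hk⟩ => mem_twoClosure (mem_top _) (k := k)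
      (by rw [← map_pow, ← hk, pow_orderOf_eq_one, map_one])
  exact h1 (by rw [hgen]; exact mem_top g)

/-- In a group without odd core an odd element centralizing a Sylow 2-subgroup is trivial. -/
theorem eq_one_of_centralizes {n : ℕ} (ih : Below.{u} n) (hm : Meet G) (hlt : Nat.card G < n)
    (hO : Cfsg.oddCore G = ⊥) {S : Sylow 2 G} (hS : ¬ IsMulCommutative (S : Subgroup G)) {y : G}
    (hy : Odd (orderOf y)) (hys : ∀ s ∈ (S : Subgroup G), y * s = s * y) : y = 1 := by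
  haveI : Fact (Nat.Prime 2) := ⟨Nat.prime_two⟩
  have htriv : ∀ x : G, Odd (orderOf x) → ∀ {k : ℕ}, x ^ 2 ^ k = 1 → x = 1 :=
    fun x hx k hk => Consumers.eq_one_of_two_of_odd hx hk
  by_cases hn : (⊤ : Subgroup G) ≤ normalizer ((S : Subgroup G) : Set G)
  · -- the centralizer of `S` is central 2-group times a normal odd group
    haveI : (S : Subgroup G).Normal := normalizer_eq_top_iff.1 (top_le_iff.1 hn)
    set C := centralizer ((S : Subgroup G) : Set G)
    haveI hCn : C.Normal := inferInstance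
    set Z := ((S : Subgroup G) ⊓ C).subgroupOf C
    have hZc : Z ≤ center C := fun z hz => mem_center_iff.2 fun c => Subtype.ext
      (mem_centralizer_iff.1 c.2 z hz.1).symm
    haveI : Z.Normal := ⟨fun z hz c => by
      rw [mem_center_iff.1 (hZc hz) c, mul_inv_cancel_right]; exact hz⟩
    have hZ2 : IsPGroup 2 Z := fun ⟨z, hz⟩ => by
      obtain ⟨k, hk⟩ := exists_pow_of_mem S.isPGroup' hz.1
      exact ⟨k, Subtype.ext (Subtype.ext hk)⟩
    have hOC : Cfsg.oddCore C = ⊥ := by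
      haveI := oddCore_characteristic C
      have h1 : DGroup.coreIn C ≤ Cfsg.oddCore G :=
        DGroup.le_oddCore (inferInstance : ((Cfsg.oddCore C).map C.subtype).Normal) (DGroup.odd_coreIn C)
      rwa [hO, le_bot_iff, DGroup.coreIn, Subgroup.map_eq_bot_iff_of_injective _ C.subtype_injective] at h1
    have hq := oddCore_quotient_of_central hZ2 hZc hOC
    have hyC : y ∈ C := mem_centralizer_iff.2 fun s hs => (hys s hs).symm
    -- the quotient has odd order
    have hoddq : Odd (Nat.card (↥C ⧸ Z)) := by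
      rw [← Nat.not_even_iff_odd, even_iff_two_dvd]
      intro hd
      obtain ⟨x, hx⟩ := exists_prime_orderOf_dvd_card' 2 hd
      obtain ⟨c, rfl⟩ := QuotientGroup.mk'_surjective Z x
      have hc2 : c ^ 2 ∈ Z := (QuotientGroup.eq_one_iff _).1 (by
        show QuotientGroup.mk' Z (c ^ 2) = 1
        rw [map_pow, ← hx, pow_orderOf_eq_one])
      obtain ⟨k, hk⟩ := exists_pow_of_mem S.isPGroup' hc2.1
      have hcS : (c : G) ∈ (S : Subgroup G) := mem_sylow_of_pow (hn (mem_top _)) (k := k + 1) (by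
        rw [pow_succ', pow_mul]; exact hk)
      have h1 : QuotientGroup.mk' Z c = 1 := (QuotientGroup.eq_one_iff c).2 ⟨hcS, c.2⟩
      rw [h1, orderOf_one] at hx
      omega
    have h1 : (⊤ : Subgroup (↥C ⧸ Z)) ≤ Cfsg.oddCore (↥C ⧸ Z) :=
      DGroup.le_oddCore inferInstance (by rwa [Subgroup.card_top])
    rw [hq] at h1
    have h2 : QuotientGroup.mk' Z ⟨y, hyC⟩ = 1 := mem_bot.1 (h1 (mem_top _))
    obtain ⟨k, hk⟩ := exists_pow_of_mem S.isPGroup' ((QuotientGroup.eq_one_iff _).1 h2).1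
    exact htriv y hy hk
  obtain ⟨hR, hX, hc, hΓn⟩ := local_structure ih hm (H := ⊤) (by rwa [Subgroup.card_top])
    (by
      haveI := DGroup.normal_oddCore (↥(⊤ : Subgroup G))
      have h1 : DGroup.coreIn (⊤ : Subgroup G) ≤ Cfsg.oddCore G :=
        DGroup.le_oddCore (normalizer_eq_top_iff.1 (top_le_iff.1 (DGroup.normalizer_coreIn ⊤)))
          (DGroup.odd_coreIn _)
      rwa [hO, le_bot_iff, DGroup.coreIn,
        Subgroup.map_eq_bot_iff_of_injective _ (⊤ : Subgroup G).subtype_injective] at h1)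
    (S := S) le_top hS hn
  set Γ := Cfsg.pElementClosure 2 (⊤ : Subgroup G)
  set K := Cfsg.pCore 2 ↥Γ
  set π := QuotientGroup.mk' K
  haveI hΓnormal : Γ.Normal := normalizer_eq_top_iff.1 (top_le_iff.1 (le_normalizer_twoClosure ⊤))
  have hSΓ : (S : Subgroup G) ≤ Γ := sylow_le_twoClosure le_top
  -- conjugation by `y` on the quotient
  let c : ↥Γ ≃* ↥Γ := MulAut.conjNormal y
  have hc_apply : ∀ g : ↥Γ, ((c g : ↥Γ) : G) = y * g * y⁻¹ := fun g => MulAut.conjNormal_apply y g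
  have hmap : K.map c.toMonoidHom = K := by
    haveI : K.Characteristic := characteristic_iff_map_le.2 fun φ => by
      haveI : K.Normal := inferInstance
      exact le_sSup ⟨Normal.map inferInstance φ.toMonoidHom φ.surjective, isPGroup_pCore.map φ.toMonoidHom⟩
    exact characteristic_iff_map_eq.1 inferInstance c
  let φ : MulAut (↥Γ ⧸ K) := QuotientGroup.congr K K c hmap
  have hφ : ∀ g : ↥Γ, φ (π g) = π (c g) := fun g => rfl
  have hpow : φ ^ orderOf y = 1 := by
    refine MulEquiv.ext fun x => ?_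
    obtain ⟨g, rfl⟩ := QuotientGroup.mk'_surjective K x
    have key : ∀ i : ℕ, (φ ^ i) (π g) = π ((c ^ i : MulAut ↥Γ) g) := by
      intro i
      induction i with
      | zero => rfl
      | succ i ihh => rw [pow_succ', MulAut.mul_apply, ihh, hφ, pow_succ', MulAut.mul_apply]
    rw [key, show (c ^ orderOf y : MulAut ↥Γ) = 1 from by
      rw [← map_pow, pow_orderOf_eq_one, map_one]]
    rfl
  let P : Sylow 2 (↥Γ ⧸ K) := (S.subtype hSΓ).mapSurjective (QuotientGroup.mk'_surjective K)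
  have hφ1 : φ = 1 := by
    refine hR.aut_eq_one P ?_ hy hpow
    rintro _ ⟨s, hs, rfl⟩
    rw [hφ, show c s = s from Subtype.ext (by rw [hc_apply, hys (s : G) hs, mul_inv_cancel_right])]
  -- so `y` centralizes the generators
  have hyΓ : ∀ g : ↥Γ, y * g = g * y := by
    intro g
    have h1 : π (c g) = π g := by rw [← hφ, hφ1]; rfl
    have h2 : (c g) * g⁻¹ ∈ K := by
      rw [← QuotientGroup.eq_one_iff]
      show π (c g * g⁻¹) = 1
      rw [map_mul, map_inv, h1, mul_inv_cancel]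
    obtain ⟨k, hk⟩ := isPGroup_pCore ⟨_, h2⟩
    have hKS : ∀ z ∈ K, (z : G) ∈ (S : Subgroup G) := fun z hz =>
      Fitting.pCore_le_sylow (S.subtype hSΓ) hz
    refine commute_of_odd (z := ((c g * g⁻¹ : ↥Γ) : G)) hy ?_ (hys _ (hKS _ h2)) (k := k) ?_
    · rw [coe_mul, coe_inv, hc_apply, inv_mul_cancel_right]
    · exact congrArg (fun z : K => ((z : ↥Γ) : G)) hk
  -- the centralizer of the generated subgroup is a 2-group
  have hyS : y ∈ (S : Subgroup G) := by
    set C := centralizer (Γ : Set G)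
    haveI : C.Normal := inferInstance
    set Z := (Γ ⊓ C).subgroupOf C
    have hZc : Z ≤ center C := fun z hz => mem_center_iff.2 fun w => Subtype.ext
      (mem_centralizer_iff.1 w.2 z hz.1).symm
    haveI : Z.Normal := ⟨fun z hz w => by
      rw [mem_center_iff.1 (hZc hz) w, mul_inv_cancel_right]; exact hz⟩
    haveI := hX.isSimpleGroup
    have hZK : ∀ z : C, z ∈ Z → ∃ h : (z : G) ∈ Γ, (⟨(z : G), h⟩ : ↥Γ) ∈ K := by
      intro z hz
      refine ⟨hz.1, (QuotientGroup.eq_one_iff _).1 ?_⟩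
      have h1 : π ⟨(z : G), hz.1⟩ ∈ center (↥Γ ⧸ K) := mem_center_iff.2 fun w => by
        obtain ⟨g, rfl⟩ := QuotientGroup.mk'_surjective K w
        rw [← map_mul, ← map_mul]
        exact congrArg π (Subtype.ext (mem_centralizer_iff.1 z.2 (g : G) g.2))
      rcases (inferInstance : (center (↥Γ ⧸ K)).Normal).eq_bot_or_eq_top with h | h
      · rwa [h, mem_bot] at h1
      · exact absurd (fun a b => mem_center_iff.1 (h ▸ mem_top b) a) (three_not_comm hR)
    have hZ2 : IsPGroup 2 Z := fun ⟨z, hz⟩ => by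
      obtain ⟨h, hk⟩ := hZK z hz
      obtain ⟨k, hk⟩ := isPGroup_pCore (G := ↥Γ) ⟨_, hk⟩
      exact ⟨k, Subtype.ext (Subtype.ext (congrArg (fun w : K => ((w : ↥Γ) : G)) hk :))⟩
    have hOC : Cfsg.oddCore C = ⊥ := by
      haveI := oddCore_characteristic C
      have h1 : DGroup.coreIn C ≤ Cfsg.oddCore G :=
        DGroup.le_oddCore (inferInstance : ((Cfsg.oddCore C).map C.subtype).Normal) (DGroup.odd_coreIn C)
      rwa [hO, le_bot_iff, DGroup.coreIn, Subgroup.map_eq_bot_iff_of_injective _ C.subtype_injective] at h1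
    have hq := oddCore_quotient_of_central hZ2 hZc hOC
    have hyC : y ∈ C := mem_centralizer_iff.2 fun g hg => (hyΓ ⟨g, hg⟩).symm
    have hoddq : Odd (Nat.card (↥C ⧸ Z)) := by
      rw [← Nat.not_even_iff_odd, even_iff_two_dvd]
      intro hd
      obtain ⟨x, hx⟩ := exists_prime_orderOf_dvd_card' 2 hd
      obtain ⟨w, rfl⟩ := QuotientGroup.mk'_surjective Z x
      have hw2 : w ^ 2 ∈ Z := (QuotientGroup.eq_one_iff _).1 (by
        show QuotientGroup.mk' Z (w ^ 2) = 1
        rw [map_pow, ← hx, pow_orderOf_eq_one])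
      obtain ⟨k, hk⟩ := hZ2 ⟨_, hw2⟩
      have hwk : (w : G) ^ 2 ^ (k + 1) = 1 := by
        rw [pow_succ', pow_mul]
        exact congrArg (fun z : Z => ((z : C) : G)) hk
      have h1 : QuotientGroup.mk' Z w = 1 :=
        (QuotientGroup.eq_one_iff w).2 ⟨mem_twoClosure (mem_top _) hwk, w.2⟩
      rw [h1, orderOf_one] at hx
      omega
    have h1 : (⊤ : Subgroup (↥C ⧸ Z)) ≤ Cfsg.oddCore (↥C ⧸ Z) :=
      DGroup.le_oddCore inferInstance (by rwa [Subgroup.card_top])
    rw [hq] at h1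
    have h2 : QuotientGroup.mk' Z ⟨y, hyC⟩ = 1 := mem_bot.1 (h1 (mem_top _))
    obtain ⟨h, hk⟩ := hZK _ ((QuotientGroup.eq_one_iff _).1 h2)
    exact Fitting.pCore_le_sylow (S.subtype hSΓ) hk
  obtain ⟨k, hk⟩ := exists_pow_of_mem S.isPGroup' hyS
  exact htriv y hy hk

/-- Odd elements of a proper subgroup centralizing a Sylow 2-subgroup lie in its odd core. -/
theorem mem_coreIn_of_centralizes {n : ℕ} (ih : Below.{u} n) (hm : Meet G) {H : Subgroup G}
    (hlt : Nat.card H < n) {S : Sylow 2 G} (hSH : (S : Subgroup G) ≤ H)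
    (hS : ¬ IsMulCommutative (S : Subgroup G)) {y : G} (hyH : y ∈ H) (hy : Odd (orderOf y))
    (hys : ∀ s ∈ (S : Subgroup G), y * s = s * y) : y ∈ DGroup.coreIn H := by
  haveI : Fact (Nat.Prime 2) := ⟨Nat.prime_two⟩
  haveI := DGroup.normal_oddCore ↥H
  set O := Cfsg.oddCore ↥H
  set π := QuotientGroup.mk' O
  let P : Sylow 2 (↥H ⧸ O) := (S.subtype hSH).mapSurjective (QuotientGroup.mk'_surjective O)
  have hP : ¬ IsMulCommutative (P : Subgroup (↥H ⧸ O)) :=
    sylow_map_not_comm O (DGroup.odd_oddCore ↥H) (S := S.subtype hSH) fun hcm => hS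
      ⟨⟨fun a b => Subtype.ext (congrArg (fun x : (S.subtype hSH : Subgroup ↥H) => ((x : ↥H) : G))
        (hcm.is_comm.comm ⟨⟨a, hSH a.2⟩, a.2⟩ ⟨⟨b, hSH b.2⟩, b.2⟩))⟩⟩
  refine ⟨⟨y, hyH⟩, (QuotientGroup.eq_one_iff _).1 ?_, rfl⟩
  refine eq_one_of_centralizes ih ((hm.subgroup H).quotient_odd O (DGroup.odd_oddCore _))
    ((Nat.card_le_card_of_surjective π (QuotientGroup.mk'_surjective O)).trans_lt hlt)
    LocalB.oddCore_quotient hP ?_ ?_
  · refine hy.of_dvd_nat ?_
    rw [← Subgroup.orderOf_mk y hyH]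
    exact orderOf_map_dvd π _
  · rintro _ ⟨s, hs, rfl⟩
    show π ⟨y, hyH⟩ * π s = π s * π ⟨y, hyH⟩
    rw [← map_mul, ← map_mul]
    exact congrArg π (Subtype.ext (hys s hs))

end CfsgLib.CentralMeet
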