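import Cfsg.Agent.CentralMeet.Centralizer

/-!
# The main theorem on central Sylow 2-intersections

For a group without odd core, generated by its elements of 2-power order, with non-abelian and
non-normal Sylow 2-subgroups, the quotient by the 2-core has strongly embedded Sylow normalizers.
-/

set_option autoImplicit false
set_option linter.unusedSectionVars false
set_option linter.style.haveILetI false

namespace CfsgLib.CentralMeet

open Subgroup
open CfsgLib.Bender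
open scoped commutatorElement

universe u

variable {G : Type u} [Group G] [Finite G]

/-- The standing hypotheses. -/
structure Setting (n : ℕ) (G : Type u) [Group G] [Finite G] (S : Sylow 2 G) : Prop where
  ih : Below.{u} n
  card : Nat.card G = n
  meet : Meet G
  odd : Cfsg.oddCore G = ⊥
  gen : Cfsg.pElementClosure 2 (⊤ : Subgroup G) = ⊤
  nonab : ¬ IsMulCommutative (S : Subgroup G)
  notNormal : ¬ (S : Subgroup G).Normal

/-- An element of odd order lifting one of odd order. -/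
theorem exists_odd_lift {H : Type u} [Group H] [Finite H] (f : G →* H) {g : G}
    (hw : Odd (orderOf (f g))) : ∃ m : ℕ, Odd (orderOf (g ^ m)) ∧ f (g ^ m) = f g := by
  obtain ⟨a, r, hr, he⟩ := Nat.exists_eq_pow_mul_and_not_dvd (orderOf_pos g).ne' 2 (by norm_num)
  obtain ⟨m, hm⟩ := exists_pow_eq_self_of_coprime (x := f g) (n := 2 ^ a)
    ((Nat.coprime_two_left.2 hw).pow_left a)
  refine ⟨2 ^ a * m, ?_, by rw [map_pow, pow_mul, hm]⟩
  have h1 : (g ^ (2 ^ a * m)) ^ r = 1 := by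
    rw [← pow_mul, show 2 ^ a * m * r = 2 ^ a * r * m by ring, ← he, pow_mul, pow_orderOf_eq_one,
      one_pow]
  exact (Nat.not_even_iff_odd.1 fun h => hr (even_iff_two_dvd.1 h)).of_dvd_nat
    (orderOf_dvd_of_pow_eq_one h1)

variable {n : ℕ} {S : Sylow 2 G}

namespace Setting

variable (C : Setting n G S)
include C

theorem core_le_center : Cfsg.pCore 2 G ≤ center G := C.meet.pCore_le_center C.gen C.notNormal

theorem core_le_sylow (T : Sylow 2 G) : Cfsg.pCore 2 G ≤ (T : Subgroup G) := by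
  haveI : Fact (Nat.Prime 2) := ⟨Nat.prime_two⟩
  exact Fitting.pCore_le_sylow T

theorem core_le_zs : Cfsg.pCore 2 G ≤ zs S := fun k hk =>
  mem_zs.2 ⟨C.core_le_sylow S hk, fun s _ => mem_center_iff.1 (C.core_le_center hk) s⟩

/-- The projection modulo the 2-core. -/
abbrev proj (_C : Setting n G S) : G →* G ⧸ Cfsg.pCore 2 G := QuotientGroup.mk' (Cfsg.pCore 2 G)

/-- The Sylow 2-subgroup of the quotient. -/
noncomputable abbrev sbar (_C : Setting n G S) : Sylow 2 (G ⧸ Cfsg.pCore 2 G) :=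
  S.mapSurjective (QuotientGroup.mk'_surjective (Cfsg.pCore 2 G))

theorem mem_of_proj (T : Sylow 2 G) {g : G}
    (h : QuotientGroup.mk' (Cfsg.pCore 2 G) g ∈ (T : Subgroup G).map (QuotientGroup.mk' (Cfsg.pCore 2 G))) :
    g ∈ (T : Subgroup G) := by
  obtain ⟨t, ht, he⟩ := h
  simpa using mul_mem ht (C.core_le_sylow T (QuotientGroup.eq.1 he))

theorem meet_quot : Meet (G ⧸ Cfsg.pCore 2 G) := by
  haveI : Fact (Nat.Prime 2) := ⟨Nat.prime_two⟩
  intro P Q hPQ x hxP hxQ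
  obtain ⟨P, rfl⟩ := Sylow.mapSurjective_surjective (QuotientGroup.mk'_surjective (Cfsg.pCore 2 G)) 2 P
  obtain ⟨Q, rfl⟩ := Sylow.mapSurjective_surjective (QuotientGroup.mk'_surjective (Cfsg.pCore 2 G)) 2 Q
  obtain ⟨p, hp, rfl⟩ := hxP
  have hpQ := C.mem_of_proj Q hxQ
  refine mem_centralizer_iff.2 ?_
  rintro _ ⟨s, hs, rfl⟩
  rw [← map_mul, ← map_mul,
    mem_centralizer_iff.1 (C.meet P Q (fun h => hPQ (h ▸ rfl)) p hp hpQ) s hs]

theorem odd_quot : Cfsg.oddCore (G ⧸ Cfsg.pCore 2 G) = ⊥ :=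
  oddCore_quotient_of_central isPGroup_pCore C.core_le_center C.odd

theorem unique_quot {x : G ⧸ Cfsg.pCore 2 G} (hx : x ∈ (C.sbar : Subgroup (G ⧸ Cfsg.pCore 2 G)))
    (hz : x ∉ (zs S).map C.proj) (T : Sylow 2 (G ⧸ Cfsg.pCore 2 G)) (hT : x ∈ (T : Subgroup _)) :
    T = C.sbar := by
  haveI : Fact (Nat.Prime 2) := ⟨Nat.prime_two⟩
  obtain ⟨T, rfl⟩ := Sylow.mapSurjective_surjective (QuotientGroup.mk'_surjective (Cfsg.pCore 2 G)) 2 T
  obtain ⟨s, hs, rfl⟩ := hx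
  have hsT := C.mem_of_proj T hT
  rw [C.meet.unique hs (fun h => hz ⟨s, h, rfl⟩) hsT]

theorem zbar_le : (zs S).map C.proj ≤ (C.sbar : Subgroup (G ⧸ Cfsg.pCore 2 G)) := map_mono inf_le_left

theorem zbar_central {z : G ⧸ Cfsg.pCore 2 G} (hz : z ∈ (zs S).map C.proj) :
    z ∈ zs C.sbar := by
  refine mem_zs.2 ⟨C.zbar_le hz, ?_⟩
  obtain ⟨w, hw, rfl⟩ := hz
  rintro _ ⟨s, hs, rfl⟩
  rw [← map_mul, ← map_mul, (mem_zs.1 hw).2 s hs]

theorem noncyclic_quot {x : G ⧸ Cfsg.pCore 2 G} (hx : x ∈ (C.sbar : Subgroup (G ⧸ Cfsg.pCore 2 G))) :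
    ¬ (C.sbar : Subgroup (G ⧸ Cfsg.pCore 2 G)) ≤ zpowers x ⊔ (zs S).map C.proj := by
  intro hle
  obtain ⟨w, hw, rfl⟩ := hx
  apply C.nonab
  have hS : (S : Subgroup G) ≤ zpowers w ⊔ zs S := by
    intro s hs
    have h := hle ⟨s, hs, rfl⟩
    rw [← MonoidHom.map_zpowers, ← Subgroup.map_sup] at h
    obtain ⟨t, ht, he⟩ := h
    simpa using mul_mem ht (mem_sup_right (C.core_le_zs (QuotientGroup.eq.1 he)))
  have hcomm : IsMulCommutative ↥(zpowers w ⊔ zs S) := by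
    rw [← closure_eq (zs S), zpowers_eq_closure, ← Subgroup.closure_union]
    refine isMulCommutative_closure ?_
    rintro a (rfl | ha) b (rfl | hb)
    · rfl
    · exact (mem_zs.1 hb).2 a hw
    · exact ((mem_zs.1 ha).2 b hw).symm
    · exact (mem_zs.1 hb).2 a ha.1
  exact ⟨⟨fun a b => Subtype.ext (congrArg Subtype.val
    (hcomm.is_comm.comm ⟨(a : G), hS a.2⟩ ⟨(b : G), hS b.2⟩) :)⟩⟩

theorem not_fixed_quot {c : G ⧸ Cfsg.pCore 2 G} (hc : orderOf c = 2) (hcS : c ∈ (C.sbar : Subgroup (G ⧸ Cfsg.pCore 2 G)))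
    (hfix : ∀ m ∈ normalizer ((C.sbar : Subgroup (G ⧸ Cfsg.pCore 2 G)) : Set (G ⧸ Cfsg.pCore 2 G)), m * c * m⁻¹ = c) :
    False :=
  C.meet_quot.not_fixed C.odd_quot pCore_quotient_self hc hcS hfix

theorem centralizes_quot {W : Subgroup (G ⧸ Cfsg.pCore 2 G)} (hW : Odd (Nat.card W))
    (hSW : (C.sbar : Subgroup (G ⧸ Cfsg.pCore 2 G)) ≤ normalizer (W : Set (G ⧸ Cfsg.pCore 2 G))) :
    W ≤ centralizer ((C.sbar : Subgroup (G ⧸ Cfsg.pCore 2 G)) : Set (G ⧸ Cfsg.pCore 2 G)) :=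
  C.meet_quot.centralizes C.odd_quot pCore_quotient_self C.zbar_le
    (fun _ hz => (mem_zs.1 (C.zbar_central hz)).2) (fun _ hx hz => C.unique_quot hx hz)
    (fun _ hx => C.noncyclic_quot hx) hW hSW

theorem preimage_lt {H : Subgroup (G ⧸ Cfsg.pCore 2 G)} (hH : H ≠ ⊤) :
    Nat.card (H.comap C.proj) < n := by
  refine (lt_of_le_of_ne (card_le_card_group _) fun h => hH ?_).trans_eq C.card
  have h1 := eq_top_of_card_eq _ h
  rw [← map_comap_eq_self_of_surjective (QuotientGroup.mk'_surjective _) H]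
  show (H.comap C.proj).map C.proj = ⊤
  rw [h1, map_top_of_surjective _ (QuotientGroup.mk'_surjective _)]

theorem sylow_le_preimage {H : Subgroup (G ⧸ Cfsg.pCore 2 G)} (hH : (C.sbar : Subgroup (G ⧸ Cfsg.pCore 2 G)) ≤ H) :
    (S : Subgroup G) ≤ H.comap C.proj := fun s hs => hH ⟨s, hs, rfl⟩

/-- Odd elements of a proper subgroup of the quotient centralizing the Sylow subgroup. -/
theorem mem_coreIn_quot {H : Subgroup (G ⧸ Cfsg.pCore 2 G)} (hH : H ≠ ⊤)
    (hSH : (C.sbar : Subgroup (G ⧸ Cfsg.pCore 2 G)) ≤ H) {x : G ⧸ Cfsg.pCore 2 G} (hx : x ∈ H) (hxo : Odd (orderOf x))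
    (hxs : x ∈ centralizer ((C.sbar : Subgroup (G ⧸ Cfsg.pCore 2 G)) : Set (G ⧸ Cfsg.pCore 2 G))) :
    x ∈ DGroup.coreIn H := by
  obtain ⟨g, rfl⟩ := QuotientGroup.mk'_surjective (Cfsg.pCore 2 G) x
  obtain ⟨m, hmo, hme⟩ := exists_odd_lift C.proj hxo
  set y := g ^ m
  have hys : ∀ s ∈ (S : Subgroup G), y * s = s * y := fun s hs => by
    have h1 : C.proj (y * s * y⁻¹ * s⁻¹) = 1 := by
      rw [map_mul, map_mul, map_mul, map_inv, map_inv, hme]
      rw [← mem_centralizer_iff.1 hxs _ ⟨s, hs, rfl⟩, mul_inv_cancel_right, mul_inv_cancel]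
    have hk := (QuotientGroup.eq_one_iff _).1 h1
    obtain ⟨k, hk'⟩ := isPGroup_pCore ⟨_, hk⟩
    exact commute_of_odd hmo (z := y * s * y⁻¹ * s⁻¹) (inv_mul_cancel_right _ s).symm
      (mem_center_iff.1 (C.core_le_center hk) y) (k := k) (congrArg Subtype.val hk')
  have h := mem_coreIn_of_centralizes C.ih C.meet (C.preimage_lt hH) (C.sylow_le_preimage hSH) C.nonab
    (y := y) (show C.proj y ∈ H by rw [hme]; exact hx) hmo hys
  have hle : (DGroup.coreIn (H.comap C.proj)).map C.proj ≤ DGroup.coreIn H := by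
    refine DGroup.le_coreIn ?_ ?_ ?_
    · rintro _ ⟨w, hw, rfl⟩
      exact DGroup.coreIn_le (H.comap C.proj) hw
    · intro h' hh'
      obtain ⟨w, rfl⟩ := QuotientGroup.mk'_surjective (Cfsg.pCore 2 G) h'
      have hN := DGroup.normalizer_coreIn (H.comap C.proj) (show w ∈ H.comap C.proj from hh')
      refine mem_normalizer_iff.2 fun v => ⟨?_, ?_⟩
      · rintro ⟨t, ht, rfl⟩
        exact ⟨w * t * w⁻¹, (mem_normalizer_iff.1 hN t).1 ht, by simp⟩
      · rintro ⟨t, ht, he⟩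
        refine ⟨w⁻¹ * t * w, (mem_normalizer_iff.1 hN _).2 (by simpa [mul_assoc] using ht), ?_⟩
        rw [map_mul, map_mul, map_inv, he]; group
    · exact (DGroup.odd_coreIn _).of_dvd_nat (card_map_dvd _ _)
  rw [← hme]
  exact hle ⟨y, h, rfl⟩

/-- The odd core of the centralizer of a central involution: all odd elements centralizing `S`. -/
theorem coreIn_centralizer {a : G ⧸ Cfsg.pCore 2 G} (ha : orderOf a = 2) (haz : a ∈ zs C.sbar)
    {x : G ⧸ Cfsg.pCore 2 G} :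
    x ∈ DGroup.coreIn (centralizer ({a} : Set (G ⧸ Cfsg.pCore 2 G))) ↔
      Odd (orderOf x) ∧ x ∈ centralizer ((C.sbar : Subgroup (G ⧸ Cfsg.pCore 2 G)) : Set (G ⧸ Cfsg.pCore 2 G)) := by
  set H := centralizer ({a} : Set (G ⧸ Cfsg.pCore 2 G))
  have hSH : (C.sbar : Subgroup (G ⧸ Cfsg.pCore 2 G)) ≤ H := fun s hs =>
    mem_centralizer_singleton_iff.2 ((mem_zs.1 haz).2 s hs)
  have hH : H ≠ ⊤ := fun h => C.not_fixed_quot ha haz.1 fun m _ => by
    rw [mem_centralizer_singleton_iff.1 (h ▸ mem_top m : m ∈ H), mul_inv_cancel_right]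
  constructor
  · intro hx
    exact ⟨(DGroup.odd_coreIn H).of_dvd_nat (orderOf_dvd_natCard _ hx),
      C.centralizes_quot (DGroup.odd_coreIn H) (hSH.trans (DGroup.normalizer_coreIn H)) hx⟩
  · rintro ⟨hxo, hxs⟩
    exact C.mem_coreIn_quot hH hSH
      (mem_centralizer_singleton_iff.2 (mem_centralizer_iff.1 hxs a haz.1).symm) hxo hxs

theorem exists_central_invol :
    ∃ a : G ⧸ Cfsg.pCore 2 G, orderOf a = 2 ∧ a ∈ zs C.sbar := by
  haveI : Fact (Nat.Prime 2) := ⟨Nat.prime_two⟩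
  haveI : Nontrivial (C.sbar : Subgroup (G ⧸ Cfsg.pCore 2 G)) := by
    refine (Subgroup.nontrivial_iff_ne_bot _).2 fun hb => C.notNormal ?_
    have : (S : Subgroup G) = Cfsg.pCore 2 G := le_antisymm (fun s hs => by
      refine (QuotientGroup.eq_one_iff s).1 (mem_bot.1 ?_)
      rw [← hb]; exact ⟨s, hs, rfl⟩) (C.core_le_sylow S)
    rw [this]
    exact inferInstance
  haveI := C.sbar.isPGroup'.center_nontrivial
  obtain ⟨z, hz⟩ := exists_prime_orderOf_dvd_card' (G := center (C.sbar : Subgroup (G ⧸ Cfsg.pCore 2 G))) 2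
    (((C.sbar.isPGroup'.to_subgroup _).card_eq_or_dvd).resolve_left Finite.one_lt_card.ne')
  refine ⟨((z : (C.sbar : Subgroup (G ⧸ Cfsg.pCore 2 G))) : G ⧸ Cfsg.pCore 2 G), by rw [orderOf_coe, orderOf_coe, hz],
    mem_zs.2 ⟨(z : (C.sbar : Subgroup (G ⧸ Cfsg.pCore 2 G))).2, fun s hs => ?_⟩⟩
  exact congrArg Subtype.val (mem_center_iff.1 z.2 ⟨s, hs⟩)

theorem pairRank : PairRank (G ⧸ Cfsg.pCore 2 G) := by
  obtain ⟨a, ha, haz⟩ := C.exists_central_invol
  by_contra hno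
  refine C.not_fixed_quot ha haz.1 fun m hm => ?_
  by_contra hne
  refine hno ⟨a, m * a * m⁻¹, ha, ((MulAut.conj m).orderOf_eq a).trans ha, Ne.symm hne, ?_⟩
  exact ((mem_zs.1 haz).2 _ ((mem_normalizer_iff.1 hm a).1 haz.1)).symm

theorem zbar_of_not_le {u : G ⧸ Cfsg.pCore 2 G} (hu : u ∈ (C.sbar : Subgroup (G ⧸ Cfsg.pCore 2 G)))
    (h : ¬ centralizer ({u} : Set (G ⧸ Cfsg.pCore 2 G)) ≤
      normalizer ((C.sbar : Subgroup (G ⧸ Cfsg.pCore 2 G)) : Set (G ⧸ Cfsg.pCore 2 G))) :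
    u ∈ (zs S).map C.proj := by
  by_contra hz
  refine h fun g hg => mem_normalizer_of_smul (C.unique_quot hu hz _ ?_)
  rw [mem_smul_iff, mul_assoc, ← mem_centralizer_singleton_iff.1 hg, inv_mul_cancel_left]
  exact hu

/-- A subgroup containing the Sylow normalizer and all centralizers of involutions of `S`. -/
theorem stronglyEmbedded {M : Subgroup (G ⧸ Cfsg.pCore 2 G)} (hM : M ≠ ⊤)
    (hN : normalizer ((C.sbar : Subgroup (G ⧸ Cfsg.pCore 2 G)) : Set (G ⧸ Cfsg.pCore 2 G)) ≤ M)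
    (hC : ∀ x ∈ (C.sbar : Subgroup (G ⧸ Cfsg.pCore 2 G)), orderOf x = 2 → centralizer ({x} : Set _) ≤ M) :
    Cfsg.IsStronglyEmbedded M := by
  haveI : Fact (Nat.Prime 2) := ⟨Nat.prime_two⟩
  have hSM : (C.sbar : Subgroup (G ⧸ Cfsg.pCore 2 G)) ≤ M := Subgroup.le_normalizer.trans hN
  obtain ⟨a, ha, haz⟩ := C.exists_central_invol
  have hinto : ∀ t ∈ M, orderOf t = 2 → ∃ m ∈ M, m * t * m⁻¹ ∈ (C.sbar : Subgroup (G ⧸ Cfsg.pCore 2 G)) := by
    intro t ht ho
    obtain ⟨T, hT⟩ := (isPGroup_zpowers_of_pow (G := M) (x := ⟨t, ht⟩) (k := 1)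
      (Subtype.ext (by show t ^ 2 ^ 1 = 1; rw [pow_one, sq]; exact Invol.mul_self_eq_one ho))).exists_le_sylow
    obtain ⟨m, hm⟩ := MulAction.exists_smul_eq M T (C.sbar.subtype hSM)
    refine ⟨m, m.2, ?_⟩
    have h1 : m * ⟨t, ht⟩ * m⁻¹ ∈ ((m • T : Sylow 2 M) : Subgroup M) :=
      conj_mem_smul (hT (mem_zpowers _)) m
    rw [hm] at h1
    exact h1
  refine ⟨hM, even_iff_two_dvd.2 ?_, fun g hg => ?_⟩
  · exact (dvd_of_eq ha.symm).trans (orderOf_dvd_natCard _ (hSM haz.1))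
  · by_contra hodd
    obtain ⟨⟨t, htM, s, hsM, hst⟩, ho⟩ := exists_prime_orderOf_dvd_card'
      (G := ↥(M ⊓ M.map (MulAut.conj g).toMonoidHom)) 2
      (even_iff_two_dvd.1 (Nat.not_odd_iff_even.1 hodd))
    rw [← Subgroup.orderOf_coe] at ho; change orderOf t = 2 at ho
    have hts : g * s * g⁻¹ = t := hst
    have hos : orderOf s = 2 :=
      (((MulAut.conj g).orderOf_eq s).symm.trans (congrArg orderOf hts)).trans ho
    obtain ⟨m₁, hm₁, h₁⟩ := hinto t htM ho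
    obtain ⟨m₂, hm₂, h₂⟩ := hinto s hsM hos
    set b := m₂ * s * m₂⁻¹
    set h := m₁ * g * m₂⁻¹ with hdef
    have hob : orderOf b = 2 := ((MulAut.conj m₂).orderOf_eq s).trans hos
    have hhb : h * b * h⁻¹ = m₁ * t * m₁⁻¹ := by rw [hdef, ← hts]; simp only [b]; group
    have hh : h ∈ M := by
      by_cases he : h • C.sbar = C.sbar
      · exact hN (mem_normalizer_of_smul he)
      · have hbz : b ∈ zs C.sbar := by
          refine C.meet_quot.mem_zs_of_mem (T := h⁻¹ • C.sbar) (fun e => he ?_) h₂ ?_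
          · rw [eq_inv_smul_iff] at e; exact e
          · rw [mem_smul_iff, inv_inv, hhb]; exact h₁
        obtain ⟨m, hm, hmb⟩ := C.meet_quot.fusion hbz (g := h) (by rw [hhb]; exact h₁)
        have hc : m⁻¹ * h ∈ centralizer ({b} : Set _) := mem_centralizer_singleton_iff.2 (by
          calc m⁻¹ * h * b = m⁻¹ * (h * b * h⁻¹) * h := by group
            _ = m⁻¹ * (m * b * m⁻¹) * h := by rw [hmb]
            _ = _ := by group)
        simpa using mul_mem (hN hm) (hC b h₂ hob hc)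
    apply hg
    rw [show g = m₁⁻¹ * h * m₂ by rw [hdef]; group]
    exact mul_mem (mul_mem (inv_mem hm₁) hh) hm₂

theorem centralizer_ne_top {u : G ⧸ Cfsg.pCore 2 G} (hu : orderOf u = 2)
    (huS : u ∈ (C.sbar : Subgroup (G ⧸ Cfsg.pCore 2 G))) : centralizer ({u} : Set (G ⧸ Cfsg.pCore 2 G)) ≠ ⊤ :=
  fun h => C.not_fixed_quot hu huS fun m _ => by
    rw [mem_centralizer_singleton_iff.1 (h ▸ mem_top m : m ∈ centralizer _), mul_inv_cancel_right]

end Setting

end CfsgLib.CentralMeet
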