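import Cfsg.Agent.CentralMeet.Main
import Cfsg.Agent.FGSA.PLengthSeries
import Cfsg.Agent.HallHigman.FrattiniRep

/-!
# The solvable case, and the two kinds of simple quotient
-/

set_option autoImplicit false
set_option linter.unusedSectionVars false
set_option linter.style.haveILetI false

namespace CfsgLib.CentralMeet

open Subgroup
open CfsgLib.Bender
open scoped commutatorElement

universe u

variable {G : Type u} [Group G] [Finite G]

theorem isSolvable_of_ext {K : Type u} [Group K] (N : Subgroup K) [N.Normal]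
    (hN : Group.IsSolvable N) (h : Group.IsSolvable (K ⧸ N)) : Group.IsSolvable K :=
  Group.isSolvable_of_ker_le_range N.subtype (QuotientGroup.mk' N)
    (by rw [QuotientGroup.ker_mk', Subgroup.range_subtype])

/-- A normal Sylow 2-subgroup over the odd core. -/
theorem solvable_case (T : Sylow 2 (G ⧸ Cfsg.oddCore G))
    (hT : (T : Subgroup (G ⧸ Cfsg.oddCore G)).Normal) :
    Group.IsSolvable G ∧ Cfsg.PLengthLE 2 1 G := by
  haveI : Fact (Nat.Prime 2) := ⟨Nat.prime_two⟩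
  haveI := hT
  haveI := DGroup.normal_oddCore G
  set O := Cfsg.oddCore G
  have hO : Odd (Nat.card O) := DGroup.odd_oddCore G
  have hq : Odd (Nat.card ((G ⧸ O) ⧸ (T : Subgroup (G ⧸ O)))) := by
    rw [← Subgroup.index_eq_card, ← Nat.not_even_iff_odd, even_iff_two_dvd]
    exact T.not_dvd_index
  constructor
  · haveI : Group.IsNilpotent ↥(T : Subgroup (G ⧸ O)) := T.isPGroup'.isNilpotent
    exact isSolvable_of_ext O (OddEnd.odd_solvable O hO)
      (isSolvable_of_ext (T : Subgroup (G ⧸ O)) inferInstance (OddEnd.odd_solvable _ hq))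
  · have h1 := FGSA.PLen.pLengthLE_add (T : Subgroup (G ⧸ O))
      (HallHigman.FRep.pLengthLE_one_of_isPGroup T.isPGroup')
      (FGSA.PLen.pLengthLE_zero_of_coprime (Nat.coprime_two_right.2 hq))
    have h2 := FGSA.PLen.pLengthLE_add O
      (FGSA.PLen.pLengthLE_zero_of_coprime (Nat.coprime_two_right.2 hO)) h1
    simpa using h2

variable {Γ : Type u} [Group Γ] [Finite Γ] {N : Subgroup Γ} [N.Normal]

theorem suzuki_sylow_not_comm {X : Type u} [Group X] [Finite X] {F : Type} [Field F] [Fintype F]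
    {m : ℕ} (hm : 1 ≤ m) (hF : Fintype.card F = 2 ^ (2 * m + 1))
    (e : X ≃* ↥(Cfsg.Lie.Sz F (2 ^ (m + 1)))) (Q : Sylow 2 X) :
    ¬ IsMulCommutative (Q : Subgroup X) := by
  haveI : Fact (Nat.Prime 2) := ⟨Nat.prime_two⟩
  intro hcomm
  let g : X ≃* Cfsg.Sz F m := e.trans
    (CfsgLib.Suzuki.lieEquiv (CfsgLib.Suzuki.isSzField_of_card hm hF)).symm
  let P : Sylow 2 (Cfsg.Sz F m) := Q.mapSurjective (f := g.toMonoidHom) g.surjective
  let i : (Q : Subgroup X) ≃* (P : Subgroup (Cfsg.Sz F m)) :=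
    (Q : Subgroup X).equivMapOfInjective g.toMonoidHom g.injective
  obtain ⟨hcP, -, -, hzP⟩ := Cfsg.Agent.S0330.result hm hF P
  have hcQ : Nat.card (Q : Subgroup X) = (2 ^ (2 * m + 1)) ^ 2 :=
    (Nat.card_congr i.toEquiv).trans hcP
  have hzQ : Nat.card (center (Q : Subgroup X)) = 2 ^ (2 * m + 1) :=
    (Nat.card_congr (Subgroup.centerCongr i).toEquiv).trans hzP
  have htop : center (Q : Subgroup X) = ⊤ :=
    eq_top_iff.2 fun x _ => mem_center_iff.2 fun y => hcomm.is_comm.comm y x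
  rw [htop, Subgroup.card_top, hcQ] at hzQ
  exact (lt_self_pow₀ (Nat.one_lt_two_pow (by omega)) one_lt_two).ne' hzQ

theorem psl_sylow_commute {X : Type u} [Group X] [Finite X] {F : Type} [Field F] [Fintype F]
    {n : ℕ} (hn : 1 ≤ n) (hF : Fintype.card F = 2 ^ n)
    (e : X ≃* Matrix.ProjectiveSpecialLinearGroup (Fin 2) F) (Q : Sylow 2 X) :
    ∀ a ∈ (Q : Subgroup X), ∀ b ∈ (Q : Subgroup X), a * b = b * a := by
  have hsq : ∀ a ∈ (Q : Subgroup X), a * a = 1 := fun a ha => e.injective (by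
    rw [map_mul, map_one]
    exact psl_sylow_comm hn hF (Q.isPGroup'.map e.toMonoidHom) _ ⟨a, ha, rfl⟩)
  intro a ha b hb
  have h := hsq _ (mul_mem ha hb)
  rw [← inv_eq_of_mul_eq_one_right h, mul_inv_rev, inv_eq_of_mul_eq_one_right (hsq a ha),
    inv_eq_of_mul_eq_one_right (hsq b hb)]

/-- The simple quotient is `PSL₂(4)`, or it has non-abelian Sylow 2-subgroups. -/
theorem small_or_nonab (hc : N ≤ center Γ) (hN : IsPGroup 2 N) (hX : Consumers.Three (Γ ⧸ N))
    (hR : RankOne (Γ ⧸ N)) (S : Sylow 2 Γ) (hS : ¬ IsMulCommutative (S : Subgroup Γ)) :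
    (∃ (F : Type) (_ : Field F) (_ : Fintype F), Fintype.card F = 4 ∧
      Nonempty (Γ ⧸ N ≃* Matrix.ProjectiveSpecialLinearGroup (Fin 2) F) ∧
      ∀ a ∈ (S : Subgroup Γ).map (QuotientGroup.mk' N),
        ∀ b ∈ (S : Subgroup Γ).map (QuotientGroup.mk' N), a * b = b * a) ∨
      ¬ IsMulCommutative
        ((S.mapSurjective (QuotientGroup.mk'_surjective N) : Sylow 2 (Γ ⧸ N)) : Subgroup (Γ ⧸ N)) := by
  haveI : Fact (Nat.Prime 2) := ⟨Nat.prime_two⟩
  set Q : Sylow 2 (Γ ⧸ N) := S.mapSurjective (QuotientGroup.mk'_surjective N)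
  obtain ⟨-, hperf, hsur, hker⟩ := sup_commutator hX hc (three_not_comm hR)
  rcases cover_cases hX hperf (cov N) hsur hker with
    ⟨F, _, _, n, hn, hF, ⟨e⟩, h3⟩ | ⟨F, _, _, m, hm, hF, ⟨e⟩, -, -⟩ |
    ⟨F, _, _, n, hn, hF, -, h3, -⟩
  · have hab := psl_sylow_commute (by omega) hF e Q
    rcases Nat.lt_or_ge n 3 with hlt | hge
    · obtain rfl : n = 2 := by omega
      exact Or.inl ⟨F, _, _, by rw [hF]; norm_num, ⟨e⟩, hab⟩
    · exact absurd (comm_of_card_one (h3 hge) hab) hS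
  · exact Or.inr (suzuki_sylow_not_comm hm hF e Q)
  · refine Or.inr fun hcomm => ?_
    have hker2 : IsPGroup 2 (cov N).ker := fun ⟨w, hw⟩ => by
      obtain ⟨k, hk⟩ := hN ⟨w.1, (QuotientGroup.eq_one_iff _).1 hw⟩
      exact ⟨k, Subtype.ext (Subtype.ext (congrArg Subtype.val hk :))⟩
    obtain ⟨k, hk⟩ := IsPGroup.iff_card.1 hker2
    refine hS (comm_of_card_one ?_ fun a ha b hb =>
      congrArg Subtype.val (hcomm.is_comm.comm ⟨a, ha⟩ ⟨b, hb⟩))
    rw [hk] at h3 ⊢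
    exact Nat.eq_one_of_dvd_coprimes (a := 3) (b := 2 ^ k) (Nat.Coprime.pow_right k (by norm_num)) h3 dvd_rfl

/-- A Sylow subgroup mapping onto one with at least three generators over its centre is not dihedral
over its centre. -/
theorem not_dihedralOver {H : Type u} [Group H] [Finite H] {S : Sylow 2 G} {M : Subgroup G}
    (hSM : (S : Subgroup G) ≤ M) (f : M →* H) (Q : Sylow 2 H)
    (hQ : (Q : Subgroup H) = ((S : Subgroup G).subgroupOf M).map f) (hR : RankOne H)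
    (hna : ¬ IsMulCommutative (Q : Subgroup H)) : ¬ DihedralOver S (zs S) := by
  rintro ⟨x, hx, y, hy, hC, -, -, -⟩
  set fx := f ⟨x, hSM hx⟩
  set fy := f ⟨y, hSM hy⟩
  set J := closure ({fx, fy} : Set H) ⊔ zs Q
  set T := (J.comap f).map M.subtype
  have hmem : ∀ s (hs : s ∈ (S : Subgroup G)), f ⟨s, hSM hs⟩ ∈ (Q : Subgroup H) := fun s hs =>
    hQ ▸ ⟨⟨s, hSM hs⟩, hs, rfl⟩
  have hxT : zpowers x ⊔ zs S ≤ T := by
    refine sup_le (zpowers_le.2 ⟨⟨x, hSM hx⟩, mem_sup_left (subset_closure (Or.inl rfl)), rfl⟩)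
      fun z hz => ⟨⟨z, hSM hz.1⟩, mem_sup_right (mem_zs.2 ⟨hmem z hz.1, ?_⟩), rfl⟩
    rw [hQ]
    rintro _ ⟨s, hs, rfl⟩
    rw [← map_mul, ← map_mul]
    exact congrArg f (Subtype.ext ((mem_zs.1 hz).2 s hs))
  have hyT : y ∈ T := ⟨⟨y, hSM hy⟩, mem_sup_left (subset_closure (Or.inr rfl)), rfl⟩
  refine hR.two_gen Q hna fx fy (hmem x hx) (hmem y hy) ?_
  rw [hQ]
  rintro _ ⟨s, hs, rfl⟩
  have hsT : (s : G) ∈ T := by
    rcases hC s hs with h | h
    · exact hxT h
    · simpa using mul_mem hyT (hxT h)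
  obtain ⟨w, hw, hws⟩ := hsT
  rwa [← Subtype.ext hws]

end CfsgLib.CentralMeet
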