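import Cfsg.Agent.CentralMeet.RankOne
import Cfsg.Agent.CTwoAbelian.Cover
import Cfsg.Agent.PrimeGraph.SL2Char2
import Cfsg.Agent.S0330
import Cfsg.Agent.S2086
import Cfsg.Agent.UMult.Three
import Cfsg.Agent.Unitary.Simple
import Cfsg.Agent.S2111
import Cfsg.Agent.S2112

/-!
# Central extensions of the groups with a strongly embedded subgroup
-/

set_option autoImplicit false
set_option linter.unusedSectionVars false
set_option linter.style.haveILetI false

namespace CfsgLib.CentralMeet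

open Subgroup
open CfsgLib.Bender
open scoped commutatorElement

universe u

/-- Generated by elements of 2-power order. -/
def Gen2 (G : Type*) [Group G] : Prop := Cfsg.pElementClosure 2 (⊤ : Subgroup G) = ⊤

theorem three_not_comm {X : Type*} [Group X] [Finite X] (h : RankOne X) :
    ¬ ∀ a b : X, a * b = b * a := by
  intro hc
  obtain ⟨Q⟩ : Nonempty (Sylow 2 X) := inferInstance
  refine (h.exists_not_mem Q).elim fun g hg => hg (mem_normalizer_iff.2 fun x => ?_)
  rw [hc g x, mul_inv_cancel_right]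

section Cover

variable {L : Type u} [Group L] [Finite L]

/-- Commutators only depend on the images under a map with central kernel. -/
theorem commutator_congr' {H : Type*} [Group H] {f : L →* H} (hc : f.ker ≤ center L) {a a' b b' : L}
    (ha : f a = f a') (hb : f b = f b') : ⁅a, b⁆ = ⁅a', b'⁆ := by
  have key : ∀ {x x' : L}, f x = f x' → ∀ g, x * g * x⁻¹ = x' * g * x'⁻¹ := fun {x x'} h g => by
    have hz : x'⁻¹ * x ∈ center L :=
      hc (by rw [MonoidHom.mem_ker, map_mul, map_inv, h, inv_mul_cancel])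
    calc x * g * x⁻¹ = x' * (x'⁻¹ * x * g) * x⁻¹ := by group
      _ = x' * (g * (x'⁻¹ * x)) * x⁻¹ := by rw [mem_center_iff.1 hz g]
      _ = _ := by group
  rw [commutatorElement_def, commutatorElement_def, key ha,
    show a' * b * a'⁻¹ * b⁻¹ = a' * (b * a'⁻¹ * b⁻¹) by group, key hb]
  group

theorem exists_small (L : Type u) [Group L] [Finite L] :
    ∃ (L₀ : Type) (_ : Group L₀) (_ : Finite L₀), Nonempty (L₀ ≃* L) := by
  obtain ⟨n, ⟨e⟩⟩ := Finite.exists_equiv_fin L
  letI : Group (Fin n) := e.symm.group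
  exact ⟨Fin n, inferInstance, inferInstance, ⟨e.symm.mulEquiv⟩⟩

/-- The kernel of a perfect central extension divides the multiplier. -/
theorem card_ker_dvd {Q : Type} [Group Q] [Finite Q] {A : Type} [CommGroup A] [Finite A]
    (hA : Cfsg.HasSchurMultiplier Q A) (hL : commutator L = ⊤) (σ : L →* Q)
    (hσ : Function.Surjective σ) (hc : σ.ker ≤ center L) : Nat.card σ.ker ∣ Nat.card A := by
  obtain ⟨L₀, _, _, ⟨e⟩⟩ := exists_small L
  set τ : L₀ →* Q := σ.comp e.toMonoidHom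
  have hst : Cfsg.IsStemExtension τ := by
    refine ⟨hσ.comp e.surjective, fun x hx => mem_center_iff.2 fun y => e.injective ?_, ?_⟩
    · rw [map_mul, map_mul]
      exact mem_center_iff.1 (hc hx) (e y)
    · intro x _
      have h : (commutator L₀).map e.toMonoidHom = ⊤ := by
        rw [commutator_def, map_commutator, map_top_of_surjective _ e.surjective, ← commutator_def, hL]
      obtain ⟨y, hy, hye⟩ : e x ∈ (commutator L₀).map e.toMonoidHom := h ▸ mem_top _
      rwa [← e.injective hye]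
  obtain ⟨π, hπ⟩ := hA.2 L₀ τ hst
  have hk : Nat.card τ.ker = Nat.card σ.ker :=
    Nat.card_congr
      { toFun := fun x => ⟨e x, x.2⟩
        invFun := fun x => ⟨e.symm x, show σ (e (e.symm x)) = 1 by rw [e.apply_symm_apply]; exact x.2⟩
        left_inv := fun x => Subtype.ext (e.symm_apply_apply _)
        right_inv := fun x => Subtype.ext (e.apply_symm_apply _) }
  exact hk ▸ Subgroup.card_dvd_of_surjective π hπ

/-- A perfect cover of a unitary group is covered by the special unitary group. -/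
theorem su_cover {F : Type} [Field F] [Finite F] {q : ℕ} (hF : Nat.card F = q ^ 2) (hq : 3 ≤ q)
    (hL : commutator L = ⊤) (σ : L →* Cfsg.PSU 3 F q) (hσ : Function.Surjective σ)
    (hc : σ.ker ≤ center L) : Nat.card σ.ker ∣ Nat.gcd 3 (q + 1) ∧
      (Nat.card σ.ker = Nat.gcd 3 (q + 1) → Nonempty (L ≃* ↥(Cfsg.SU 3 F q))) := by
  obtain ⟨L₀, _, _, ⟨e⟩⟩ := exists_small L
  let τ := QuotientGroup.mk' (Subgroup.center (Cfsg.SU 3 F q))
  set σ₀ : L₀ →* Cfsg.PSU 3 F q := σ.comp e.toMonoidHom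
  have hc₀ : σ₀.ker ≤ center L₀ := fun x hx => mem_center_iff.2 fun y => e.injective (by
    rw [map_mul, map_mul]
    exact mem_center_iff.1 (hc hx) (e y))
  obtain ⟨s, hs⟩ := UMult.split_three hF hq (Schur.pullback σ₀ τ) (Schur.psnd σ₀ τ)
    (Schur.psnd_surjective σ₀ τ (hσ.comp e.surjective)) (SLMult.psnd_ker_le_center σ₀ τ hc₀)
  set f : Cfsg.SU 3 F q →* L := e.toMonoidHom.comp ((Schur.pfst σ₀ τ).comp s)
  have hf : ∀ d, σ (f d) = τ d := fun d => by
    show σ₀ (s d).1.1 = _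
    rw [Schur.mem_pullback.1 (s d).2, show (s d).1.2 = d from hs d]
  have hsurj : Function.Surjective f := by
    intro l
    have hle : commutator L ≤ f.range := by
      rw [commutator_def, commutator_le]
      intro a _ b _
      obtain ⟨x, hx⟩ := QuotientGroup.mk'_surjective _ (σ a)
      obtain ⟨y, hy⟩ := QuotientGroup.mk'_surjective _ (σ b)
      exact ⟨⁅x, y⁆, by
        rw [map_commutatorElement]
        exact (commutator_congr' hc (by rw [hf]; exact hx.symm) (by rw [hf]; exact hy.symm)).symm⟩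
    exact hle (hL ▸ mem_top l)
  have hsu : Nat.card (Cfsg.SU 3 F q) = Nat.card (Cfsg.PSU 3 F q) * Nat.gcd 3 (q + 1) := by
    rw [card_eq_card_quotient_mul_card_subgroup (Subgroup.center (Cfsg.SU 3 F q)),
      Unitary.card_center_SU hF (by norm_num)]
  have hl : Nat.card L = Nat.card (Cfsg.PSU 3 F q) * Nat.card σ.ker := by
    rw [card_eq_card_quotient_mul_card_subgroup σ.ker,
      Nat.card_congr (QuotientGroup.quotientKerEquivOfSurjective σ hσ).toEquiv]
  refine ⟨?_, fun hk => ?_⟩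
  · have h := Subgroup.card_dvd_of_surjective f hsurj
    rw [hsu, hl] at h
    exact Nat.dvd_of_mul_dvd_mul_left Nat.card_pos h
  · exact ⟨(MulEquiv.ofBijective f ((Nat.bijective_iff_surjective_and_card f).2
      ⟨hsurj, by rw [hsu, hl, hk]⟩)).symm⟩

/-- The perfect central extensions of the three families. -/
theorem cover_cases {X : Type u} [Group X] (hX : Consumers.Three X) (hL : commutator L = ⊤)
    (σ : L →* X) (hσ : Function.Surjective σ) (hc : σ.ker ≤ center L) :
    (∃ (F : Type) (_ : Field F) (_ : Fintype F) (n : ℕ), 2 ≤ n ∧ Fintype.card F = 2 ^ n ∧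
      Nonempty (X ≃* Matrix.ProjectiveSpecialLinearGroup (Fin 2) F) ∧
      (3 ≤ n → Nat.card σ.ker = 1)) ∨
    (∃ (F : Type) (_ : Field F) (_ : Fintype F) (m : ℕ), 1 ≤ m ∧ Fintype.card F = 2 ^ (2 * m + 1) ∧
      Nonempty (X ≃* ↥(Cfsg.Lie.Sz F (2 ^ (m + 1)))) ∧
      (2 ≤ m → Nat.card σ.ker = 1) ∧ (m = 1 → Nat.card σ.ker ∣ 4)) ∨
    (∃ (F : Type) (_ : Field F) (_ : Fintype F) (n : ℕ), 2 ≤ n ∧ Fintype.card F = (2 ^ n) ^ 2 ∧
      Nonempty (X ≃* Cfsg.PSU 3 F (2 ^ n)) ∧ Nat.card σ.ker ∣ 3 ∧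
      (Nat.card σ.ker = 3 → Nonempty (L ≃* ↥(Cfsg.SU 3 F (2 ^ n))))) := by
  haveI : Finite X := Finite.of_surjective σ hσ
  have hcomp : ∀ {Q : Type} [Group Q] (e : X ≃* Q), (e.toMonoidHom.comp σ).ker = σ.ker :=
    fun e => MonoidHom.ker_mulEquiv_comp _ e
  rcases hX with ⟨F, i1, i2, ⟨n, hn, hF⟩, ⟨e⟩⟩ | ⟨F, i1, i2, m, hm, hF, ⟨e⟩⟩ |
    ⟨F, i1, i2, n, hn, hF, ⟨e⟩⟩
  · refine Or.inl ⟨F, i1, i2, n, hn, hF, ⟨e⟩, fun h3 => ?_⟩
    have h8 : 2 ^ 3 ≤ 2 ^ n := Nat.pow_le_pow_right two_pos h3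
    have hev : 2 ∣ 2 ^ n := dvd_pow_self 2 (by omega)
    have hmul := Cfsg.Agent.S2086.result hF 2 le_rfl (fun _ => by omega) (by
      simp only [Set.mem_insert_iff, Set.mem_singleton_iff, Prod.mk.injEq]
      omega)
    have hg : Nat.gcd 2 (2 ^ n - 1) = 1 :=
      (Nat.prime_two.coprime_iff_not_dvd.2 (by omega))
    haveI : NeZero (Nat.gcd 2 (2 ^ n - 1)) := ⟨(Nat.gcd_pos_of_pos_left _ two_pos).ne'⟩
    have h := card_ker_dvd hmul hL (e.toMonoidHom.comp σ) (e.surjective.comp hσ) (by rw [hcomp]; exact hc)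
    rw [hcomp, hg] at h
    simpa using h
  · refine Or.inr (Or.inl ⟨F, i1, i2, m, hm, hF, ⟨e⟩, fun h2 => ?_, fun h1 => ?_⟩)
    · have h := card_ker_dvd (Cfsg.Agent.S2111.result h2 hF) hL (e.toMonoidHom.comp σ)
        (e.surjective.comp hσ) (by rw [hcomp]; exact hc)
      rw [hcomp] at h
      simpa using h
    · subst h1
      have h8 : Fintype.card F = 8 := by rw [hF]; norm_num
      let e' : X ≃* ↥(Cfsg.Lie.Sz F 4) := e.trans (MulEquiv.subgroupCongr (by norm_num))
      have h := card_ker_dvd (Cfsg.Agent.S2112.result h8) hL (e'.toMonoidHom.comp σ)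
        (e'.surjective.comp hσ) (by rw [hcomp]; exact hc)
      rw [hcomp] at h
      simpa using h
  · have hF' : Nat.card F = (2 ^ n) ^ 2 := by rw [Nat.card_eq_fintype_card, hF]
    have h4 : 2 ^ 2 ≤ 2 ^ n := Nat.pow_le_pow_right two_pos hn
    obtain ⟨h, hSU⟩ := su_cover hF' (by omega) hL (e.toMonoidHom.comp σ) (e.surjective.comp hσ)
      (by rw [hcomp]; exact hc)
    rw [hcomp] at h hSU
    refine Or.inr (Or.inr ⟨F, i1, i2, n, hn, hF, ⟨e⟩, h.trans (Nat.gcd_dvd_left _ _), fun h3 => ?_⟩)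
    exact hSU (Nat.dvd_antisymm h (by rw [h3]; exact Nat.gcd_dvd_left _ _))

end Cover

section Extension

variable {Γ : Type u} [Group Γ] [Finite Γ] (N : Subgroup Γ) [N.Normal]

/-- The composite with the derived group. -/
def cov : ↥(commutator Γ) →* Γ ⧸ N := (QuotientGroup.mk' N).comp (commutator Γ).subtype

variable {N}

theorem sup_commutator (hX : Consumers.Three (Γ ⧸ N)) (hc : N ≤ center Γ)
    (hna : ¬ ∀ a b : Γ ⧸ N, a * b = b * a) : N ⊔ commutator Γ = ⊤ ∧
      commutator ↥(commutator Γ) = ⊤ ∧ Function.Surjective (cov N) ∧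
      (cov N).ker ≤ center ↥(commutator Γ) := by
  haveI := hX.isSimpleGroup
  have hperf : commutator (Γ ⧸ N) = ⊤ := by
    rcases (inferInstance : (commutator (Γ ⧸ N)).Normal).eq_bot_or_eq_top with h | h
    · exfalso
      refine hna fun a b => commutatorElement_eq_one_iff_mul_comm.1 ?_
      rw [← Subgroup.mem_bot, ← h, commutator_def]
      exact commutator_mem_commutator (mem_top _) (mem_top _)
    · exact h
  have hmap : (commutator Γ).map (QuotientGroup.mk' N) = ⊤ := by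
    rw [commutator_def, map_commutator, map_top_of_surjective _ (QuotientGroup.mk'_surjective N),
      ← commutator_def, hperf]
  have hsup : N ⊔ commutator Γ = ⊤ := by
    have h := congrArg (Subgroup.comap (QuotientGroup.mk' N)) hmap
    rw [comap_map_eq, QuotientGroup.ker_mk', comap_top, sup_comm] at h
    exact h
  refine ⟨hsup, ?_, fun x => ?_, fun z hz => mem_center_iff.2 fun y => Subtype.ext ?_⟩
  · have hdec : ∀ a : Γ, ∃ k ∈ N, ∃ l ∈ commutator Γ, a = k * l := fun a => by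
      obtain ⟨k, hk, l, hl, h⟩ := mem_sup_of_normal_right.1 (hsup ▸ mem_top a)
      exact ⟨k, hk, l, hl, h.symm⟩
    refine eq_top_iff.2 fun z _ => ?_
    have h : commutator Γ ≤ (commutator ↥(commutator Γ)).map (commutator Γ).subtype := by
      conv_lhs => rw [commutator_def]
      rw [commutator_le]
      intro a _ b _
      obtain ⟨k, hk, l, hl, rfl⟩ := hdec a
      obtain ⟨k', hk', l', hl', rfl⟩ := hdec b
      refine ⟨⁅⟨l, hl⟩, ⟨l', hl'⟩⁆, commutator_mem_commutator (mem_top _) (mem_top _), ?_⟩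
      rw [map_commutatorElement]
      refine (commutator_congr' (f := QuotientGroup.mk' N) (by rw [QuotientGroup.ker_mk']; exact hc)
        ?_ ?_).symm <;>
      · rw [map_mul, show QuotientGroup.mk' N _ = 1 from (QuotientGroup.eq_one_iff _).2 (by assumption),
          one_mul]
        rfl
    obtain ⟨w, hw, hwz⟩ := h z.2
    rwa [← Subtype.ext hwz]
  · obtain ⟨l, hl, hlx⟩ : x ∈ (commutator Γ).map (QuotientGroup.mk' N) := hmap ▸ mem_top x
    exact ⟨⟨l, hl⟩, hlx⟩
  · exact mem_center_iff.1 (hc ((QuotientGroup.eq_one_iff _).1 hz)) y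

theorem commutator_inf_eq_bot (hk : Nat.card (cov N).ker = 1) : commutator Γ ⊓ N = ⊥ := by
  refine le_bot_iff.1 fun x hx => ?_
  have h : (⟨x, hx.1⟩ : ↥(commutator Γ)) ∈ (cov N).ker := (QuotientGroup.eq_one_iff x).2 hx.2
  rw [Subgroup.card_eq_one.1 hk, mem_bot] at h
  exact congrArg Subtype.val h

theorem psl_sylow_comm {F : Type} [Field F] [Fintype F] {n : ℕ} (hn : 1 ≤ n) (hF : Fintype.card F = 2 ^ n)
    {P : Subgroup (Matrix.ProjectiveSpecialLinearGroup (Fin 2) F)} (hP : IsPGroup 2 P) :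
    ∀ x ∈ P, x * x = 1 := by
  haveI : Fact (Nat.Prime 2) := ⟨Nat.prime_two⟩
  haveI : CharP F 2 := charP_of_card_eq_prime_pow hF
  intro x hx
  obtain ⟨k, hk⟩ := hP ⟨x, hx⟩
  obtain ⟨A, rfl⟩ := (SL2Char2.mk_bijective (F := F)).2 x
  have hA : A ^ 2 ^ k = 1 := SL2Char2.mk_bijective.1 (congrArg Subtype.val hk)
  set M : Matrix (Fin 2) (Fin 2) F := (A : Matrix (Fin 2) (Fin 2) F)
  have hnil : (M - 1) ^ 2 ^ k = 0 := by
    rw [sub_pow_char_pow_of_commute 2 k (Commute.one_right M), one_pow]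
    rw [show M ^ 2 ^ k = 1 from by
      have h := congrArg Subtype.val hA
      simpa using h, sub_self]
  have hdet : (M - 1).det = 0 := by
    have h := congrArg Matrix.det hnil
    rw [Matrix.det_pow, Matrix.det_zero] at h
    exact eq_zero_of_pow_eq_zero h
  obtain ⟨v, hv, hv0⟩ := Matrix.exists_mulVec_eq_zero_iff.2 hdet
  have hfix : Matrix.mulVec M v = v := by
    rw [Matrix.sub_mulVec, Matrix.one_mulVec, sub_eq_zero] at hv0
    exact hv0
  rw [← QuotientGroup.mk_mul, ← sq, SL2Char2.sq_eq_one_of_fixed A v hv hfix, QuotientGroup.mk_one]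

theorem sl_two_five_invol (A : Matrix.SpecialLinearGroup (Fin 2) (ZMod 5)) (h : A * A = 1)
    (h1 : A ≠ 1) : A = -1 := by
  have key : ∀ a b c d : ZMod 5, a * d - b * c = 1 → a * a + b * c = 1 → a * b + b * d = 0 →
      c * a + d * c = 0 → c * b + d * d = 1 → (a = 1 ∧ b = 0 ∧ c = 0 ∧ d = 1) ∨
        (a = -1 ∧ b = 0 ∧ c = 0 ∧ d = -1) := by decide +kernel
  have hd := A.2
  rw [Matrix.det_fin_two] at hd
  have hm : (A : Matrix (Fin 2) (Fin 2) (ZMod 5)) * (A : Matrix (Fin 2) (Fin 2) (ZMod 5)) = 1 :=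
    congrArg Subtype.val h
  have e := fun i j => congrFun (congrFun hm i) j
  have e00 := e 0 0; have e01 := e 0 1; have e10 := e 1 0; have e11 := e 1 1
  simp [Matrix.mul_apply, Fin.sum_univ_two] at e00 e01 e10 e11
  rcases key _ _ _ _ hd e00 e01 e10 e11 with ⟨a, b, c, d⟩ | ⟨a, b, c, d⟩
  · refine absurd (Subtype.ext (Matrix.ext fun i j => ?_)) h1
    fin_cases i <;> fin_cases j <;> simp [a, b, c, d]
  · refine Subtype.ext (Matrix.ext fun i j => ?_)
    fin_cases i <;> fin_cases j <;> simp [a, b, c, d]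

theorem map_sylow_comm {S : Sylow 2 Γ}
    (h : ∀ a ∈ (S : Subgroup Γ).map (QuotientGroup.mk' N), ∀ b ∈ (S : Subgroup Γ).map (QuotientGroup.mk' N),
      a * b = b * a) : ⁅(S : Subgroup Γ), (S : Subgroup Γ)⁆ ≤ commutator Γ ⊓ N := by
  rw [commutator_le]
  intro a ha b hb
  refine ⟨commutator_mem_commutator (mem_top _) (mem_top _), (QuotientGroup.eq_one_iff _).1 ?_⟩
  show QuotientGroup.mk' N ⁅a, b⁆ = 1
  rw [map_commutatorElement, commutatorElement_eq_one_iff_mul_comm]
  exact h _ ⟨a, ha, rfl⟩ _ ⟨b, hb, rfl⟩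

theorem comm_of_card_one {S : Sylow 2 Γ} (hk : Nat.card (cov N).ker = 1)
    (h : ∀ a ∈ (S : Subgroup Γ).map (QuotientGroup.mk' N), ∀ b ∈ (S : Subgroup Γ).map (QuotientGroup.mk' N),
      a * b = b * a) : IsMulCommutative (S : Subgroup Γ) :=
  ⟨⟨fun a b => Subtype.ext (commutatorElement_eq_one_iff_mul_comm.1 (Subgroup.mem_bot.1
    ((map_sylow_comm h).trans (commutator_inf_eq_bot hk).le
      (commutator_mem_commutator a.2 b.2))))⟩⟩

/-- The perfect extension over the smallest group is `SL₂(5)`. -/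
theorem sl_two_five (hX : Consumers.Three (Γ ⧸ N)) (hc : N ≤ center Γ) (hN : IsPGroup 2 N)
    (hna : ¬ ∀ a b : Γ ⧸ N, a * b = b * a) {S : Sylow 2 Γ}
    (hS : ¬ IsMulCommutative (S : Subgroup Γ))
    {F : Type} [Field F] [Fintype F] (hF : Fintype.card F = 4)
    (e : Γ ⧸ N ≃* Matrix.ProjectiveSpecialLinearGroup (Fin 2) F)
    (hab : ∀ a ∈ (S : Subgroup Γ).map (QuotientGroup.mk' N),
      ∀ b ∈ (S : Subgroup Γ).map (QuotientGroup.mk' N), a * b = b * a) :
    Nonempty (↥(commutator Γ) ≃* Matrix.SpecialLinearGroup (Fin 2) (ZMod 5)) := by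
  obtain ⟨hsup, hperf, hsur, hker⟩ := sup_commutator hX hc hna
  haveI := hX.isSimpleGroup
  set L := commutator Γ
  -- the centre is the kernel
  have hcen : center ↥L = (cov N).ker := by
    refine le_antisymm (fun z hz => ?_) hker
    have h1 : cov N z ∈ center (Γ ⧸ N) := mem_center_iff.2 fun y => by
      obtain ⟨w, rfl⟩ := hsur y
      rw [← map_mul, ← map_mul, mem_center_iff.1 hz w]
    rcases (inferInstance : (center (Γ ⧸ N)).Normal).eq_bot_or_eq_top with h | h
    · rwa [h, Subgroup.mem_bot] at h1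
    · exact absurd (fun a b => mem_center_iff.1 (h ▸ mem_top b) a) hna
  obtain ⟨f⟩ := CTwoAbelian.nonempty_psl_two_four_alt hF
  let q : ↥L ⧸ center ↥L ≃* alternatingGroup (Fin 5) :=
    ((QuotientGroup.quotientMulEquivOfEq hcen).trans
      (QuotientGroup.quotientKerEquivOfSurjective (cov N) hsur)).trans (e.trans f)
  have hqs : Cfsg.IsQuasisimple ↥L := ⟨⟨hperf⟩, q.isSimpleGroup⟩
  have h2 : IsPGroup 2 (center ↥L) := hcen ▸ fun ⟨z, hz⟩ => by
    obtain ⟨k, hk⟩ := hN ⟨z.1, (QuotientGroup.eq_one_iff _).1 hz⟩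
    exact ⟨k, Subtype.ext (Subtype.ext (congrArg Subtype.val hk :))⟩
  rcases CTwoAbelian.center_cases hqs h2 q with h | h
  · refine absurd (comm_of_card_one ?_ hab) hS
    rw [← hcen, h, Subgroup.card_bot]
  · exact h

end Extension

end CfsgLib.CentralMeet
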