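import Cfsg.Agent.CentralMeet.BigCase

/-!
# Groups with central Sylow 2-intersections
-/

set_option autoImplicit false
set_option linter.unusedSectionVars false
set_option linter.style.haveILetI false

namespace CfsgLib.CentralMeet

open Subgroup
open CfsgLib.Bender
open scoped commutatorElement

universe u

variable {G : Type u} [Group G] [Finite G]

/-- The extension over the smallest simple quotient. -/
theorem small_case {Γ : Subgroup (G ⧸ Cfsg.oddCore G)}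
    (hΓ : Γ = Cfsg.pElementClosure 2 (⊤ : Subgroup (G ⧸ Cfsg.oddCore G)))
    (hX : Consumers.Three (↥Γ ⧸ Cfsg.pCore 2 ↥Γ)) (hR : RankOne (↥Γ ⧸ Cfsg.pCore 2 ↥Γ))
    (hc : Cfsg.pCore 2 ↥Γ ≤ center ↥Γ) {P : Sylow 2 ↥Γ}
    (hP : ¬ IsMulCommutative (P : Subgroup ↥Γ)) {F : Type} [Field F] [Fintype F]
    (hF : Fintype.card F = 4)
    (e : ↥Γ ⧸ Cfsg.pCore 2 ↥Γ ≃* Matrix.ProjectiveSpecialLinearGroup (Fin 2) F)
    (hab : ∀ a ∈ (P : Subgroup ↥Γ).map (QuotientGroup.mk' (Cfsg.pCore 2 ↥Γ)),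
      ∀ b ∈ (P : Subgroup ↥Γ).map (QuotientGroup.mk' (Cfsg.pCore 2 ↥Γ)), a * b = b * a) :
    ∃ (N M : Subgroup G) (_ : N.Normal) (_ : M.Normal) (_ : (N.subgroupOf M).Normal), N < M ∧
      Odd (Nat.card ↥N) ∧ Odd M.index ∧
      ∃ A L : Subgroup (↥M ⧸ N.subgroupOf M), IsMulCommutative ↥A ∧ IsPGroup 2 ↥A ∧
        Nonempty (↥L ≃* Matrix.SpecialLinearGroup (Fin 2) (ZMod 5)) ∧
        (∀ a ∈ A, ∀ l ∈ L, a * l = l * a) ∧ A ⊔ L = ⊤ := by
  haveI : Fact (Nat.Prime 2) := ⟨Nat.prime_two⟩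
  haveI hOn := DGroup.normal_oddCore G
  set O := Cfsg.oddCore G
  set π := QuotientGroup.mk' O
  haveI hΓn : Γ.Normal := by
    rw [hΓ]
    exact normalizer_eq_top_iff.1 (top_le_iff.1 (le_normalizer_twoClosure ⊤))
  set M := Γ.comap π
  have hMn : M.Normal := Normal.comap hΓn π
  have hNM : O ≤ M := fun x hx => by
    show π x ∈ Γ
    rw [show π x = 1 from (QuotientGroup.eq_one_iff x).2 hx]
    exact one_mem Γ
  let ψ : M →* Γ := (π.comp M.subtype).codRestrict Γ fun x => x.2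
  have hψ : Function.Surjective ψ := fun y => by
    obtain ⟨g, hg⟩ := QuotientGroup.mk'_surjective O y.1
    exact ⟨⟨g, show π g ∈ Γ by rw [hg]; exact y.2⟩, Subtype.ext hg⟩
  have hker : ψ.ker = O.subgroupOf M := by
    ext x
    rw [MonoidHom.mem_ker, mem_subgroupOf]
    exact ⟨fun h => (QuotientGroup.eq_one_iff _).1 (congrArg Subtype.val h),
      fun h => Subtype.ext ((QuotientGroup.eq_one_iff _).2 h)⟩
  haveI hsn : (O.subgroupOf M).Normal := hker ▸ ψ.normal_ker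
  let ε : ↥M ⧸ O.subgroupOf M ≃* ↥Γ :=
    (QuotientGroup.quotientMulEquivOfEq hker.symm).trans (QuotientGroup.quotientKerEquivOfSurjective ψ hψ)
  have hna := three_not_comm hR
  obtain ⟨hsup, -, -, -⟩ := sup_commutator hX hc hna
  obtain ⟨f⟩ := sl_two_five hX hc isPGroup_pCore hna hP hF e hab
  refine ⟨O, M, hOn, hMn, hsn, ?_, DGroup.odd_oddCore G, ?_,
    (Cfsg.pCore 2 ↥Γ).map ε.symm.toMonoidHom, (commutator ↥Γ).map ε.symm.toMonoidHom, ?_,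
    isPGroup_pCore.map _, ⟨?_⟩, ?_, ?_⟩
  · refine lt_of_le_of_ne hNM fun h => hna fun a b => ?_
    have htriv : ∀ y : ↥Γ, y = 1 := fun y => by
      obtain ⟨x, rfl⟩ := hψ y
      exact Subtype.ext ((QuotientGroup.eq_one_iff (x : G)).2 (h.symm ▸ x.2))
    obtain ⟨a, rfl⟩ := QuotientGroup.mk'_surjective (Cfsg.pCore 2 ↥Γ) a
    obtain ⟨b, rfl⟩ := QuotientGroup.mk'_surjective (Cfsg.pCore 2 ↥Γ) b
    rw [htriv a, htriv b]
  · rw [index_comap_of_surjective _ (QuotientGroup.mk'_surjective O), ← Nat.not_even_iff_odd,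
      even_iff_two_dvd]
    obtain ⟨T⟩ : Nonempty (Sylow 2 (G ⧸ O)) := inferInstance
    exact fun h => T.not_dvd_index (h.trans (index_dvd_of_le (hΓ ▸ sylow_le_twoClosure le_top)))
  · exact ⟨⟨fun a b => Subtype.ext (by
      obtain ⟨_, a', -, rfl⟩ := a
      obtain ⟨_, b', hb, rfl⟩ := b
      show ε.symm a' * ε.symm b' = ε.symm b' * ε.symm a'
      rw [← map_mul, ← map_mul, mem_center_iff.1 (hc hb) a'])⟩⟩
  · exact ((commutator ↥Γ).equivMapOfInjective ε.symm.toMonoidHom ε.symm.injective).symm.trans f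
  · rintro _ ⟨a, ha, rfl⟩ _ ⟨l, -, rfl⟩
    show ε.symm a * ε.symm l = ε.symm l * ε.symm a
    rw [← map_mul, ← map_mul, mem_center_iff.1 (hc ha) l]
  · rw [← Subgroup.map_sup, hsup, map_top_of_surjective _ ε.symm.surjective]

/-- The structure of groups with central Sylow 2-intersections. -/
theorem structure_cases (hm : Meet G) :
    (Group.IsSolvable G ∧ Cfsg.PLengthLE 2 1 G) ∨
    (∀ S : Sylow 2 G, IsMulCommutative ↥(S : Subgroup G)) ∨
    (∃ (N M : Subgroup G) (_ : N.Normal) (_ : M.Normal) (_ : (N.subgroupOf M).Normal), N < M ∧ Odd (Nat.card ↥N) ∧ Odd M.index ∧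
      ∃ A L : Subgroup (↥M ⧸ N.subgroupOf M), IsMulCommutative ↥A ∧ IsPGroup 2 ↥A ∧
        Nonempty (↥L ≃* Matrix.SpecialLinearGroup (Fin 2) (ZMod 5)) ∧ (∀ a ∈ A, ∀ l ∈ L, a * l = l * a) ∧ A ⊔ L = ⊤) ∨
    (∃ (M : Subgroup G), M.Normal ∧ Odd M.index ∧ ∃ A L : Subgroup G, IsMulCommutative ↥A ∧ IsPGroup 2 ↥A ∧
      ((Cfsg.IsInternalDirectProduct A L M ∧
          ((∃ (m : ℕ) (F : Type) (_ : Field F) (_ : Fintype F), 1 ≤ m ∧ Fintype.card F = 2 ^ (2 * m + 1) ∧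
              Nonempty (↥L ≃* ↥(Cfsg.Lie.Sz F (2 ^ (m + 1))))) ∨
            (∃ (n : ℕ) (F : Type) (_ : Field F) (_ : Fintype F), 2 ≤ n ∧ Fintype.card F = 4 ^ n ∧
              (Nonempty (↥L ≃* Cfsg.PSU 3 F (2 ^ n)) ∨ Nonempty (↥L ≃* ↥(Cfsg.SU 3 F (2 ^ n))))))) ∨
        (A ≤ M ∧ L ≤ M ∧ (∀ a ∈ A, ∀ l ∈ L, a * l = l * a) ∧ A ⊔ L = M ∧ Group.IsPerfect ↥L ∧
          Subgroup.center ↥L ≠ ⊥ ∧
          ∃ (F : Type) (_ : Field F) (_ : Fintype F), Fintype.card F = 8 ∧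
            Nonempty (↥L ⧸ Subgroup.center ↥L ≃* ↥(Cfsg.Lie.Sz F 4))))) := by
  haveI : Fact (Nat.Prime 2) := ⟨Nat.prime_two⟩
  by_cases hab : ∀ S : Sylow 2 G, IsMulCommutative ↥(S : Subgroup G)
  · exact Or.inr (Or.inl hab)
  obtain ⟨S, hS⟩ := not_forall.1 hab
  haveI := DGroup.normal_oddCore G
  set O := Cfsg.oddCore G
  set P : Sylow 2 (G ⧸ O) := S.mapSurjective (QuotientGroup.mk'_surjective O)
  by_cases hn : (P : Subgroup (G ⧸ O)).Normal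
  · exact Or.inl (solvable_case P hn)
  have hP : ¬ IsMulCommutative (P : Subgroup (G ⧸ O)) :=
    sylow_map_not_comm O (DGroup.odd_oddCore G) hS
  have htop : Cfsg.oddCore ↥(⊤ : Subgroup (G ⧸ O)) = ⊥ := by
    have h1 : DGroup.coreIn (⊤ : Subgroup (G ⧸ O)) ≤ Cfsg.oddCore (G ⧸ O) :=
      DGroup.le_oddCore (normalizer_eq_top_iff.1 (top_le_iff.1 (DGroup.normalizer_coreIn ⊤)))
        (DGroup.odd_coreIn _)
    rwa [LocalB.oddCore_quotient, le_bot_iff, DGroup.coreIn,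
      Subgroup.map_eq_bot_iff_of_injective _ (⊤ : Subgroup (G ⧸ O)).subtype_injective] at h1
  obtain ⟨hR, hX, hc, -⟩ := local_structure (below (Nat.card (G ⧸ O) + 1))
    (hm.quotient_odd O (DGroup.odd_oddCore G)) (H := ⊤)
    (by rw [Subgroup.card_top]; exact Nat.lt_succ_self _) htop (S := P) le_top hP
    (fun h => hn (normalizer_eq_top_iff.1 (top_le_iff.1 h)))
  set Γ := Cfsg.pElementClosure 2 (⊤ : Subgroup (G ⧸ O)) with hΓ
  have hPΓ : (P : Subgroup (G ⧸ O)) ≤ Γ := sylow_le_twoClosure le_top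
  set P' : Sylow 2 ↥Γ := P.subtype hPΓ
  have hP' : ¬ IsMulCommutative (P' : Subgroup ↥Γ) := fun hcm => hP ⟨⟨fun a b => Subtype.ext
    (congrArg (fun x : (P' : Subgroup ↥Γ) => ((x : ↥Γ) : G ⧸ O))
      (hcm.is_comm.comm ⟨⟨a, hPΓ a.2⟩, a.2⟩ ⟨⟨b, hPΓ b.2⟩, b.2⟩))⟩⟩
  rcases small_or_nonab hc isPGroup_pCore hX hR P' hP' with ⟨F, _, _, hF, ⟨e⟩, hcm⟩ | hna
  · exact Or.inr (Or.inr (Or.inl (small_case hΓ hX hR hc hP' hF e hcm)))
  · exact Or.inr (Or.inr (Or.inr (big_case hm hS hΓ hR hX hc fun Q h => hna (sylow_comm_iff h))))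

end CfsgLib.CentralMeet
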