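import Cfsg.Agent.CentralMeet.RankOne

/-!
# Subgroups and quotients of groups with central Sylow 2-intersections
-/

set_option autoImplicit false
set_option linter.unusedSectionVars false
set_option linter.style.haveILetI false

namespace CfsgLib.CentralMeet

open Subgroup
open CfsgLib.Bender
open scoped commutatorElement

universe u

variable {G : Type u} [Group G] [Finite G]

theorem isPGroup_zpowers_of_pow {x : G} {k : ℕ} (hk : x ^ 2 ^ k = 1) : IsPGroup 2 (zpowers x) :=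
  fun ⟨y, hy⟩ => by
    obtain ⟨i, rfl⟩ := mem_zpowers_iff.1 hy
    exact ⟨k, Subtype.ext (by
      show (x ^ i) ^ 2 ^ k = 1
      rw [← zpow_natCast, ← zpow_mul, mul_comm, zpow_mul, zpow_natCast, hk, one_zpow])⟩

theorem exists_sylow_mem {x : G} {k : ℕ} (hk : x ^ 2 ^ k = 1) :
    ∃ T : Sylow 2 G, x ∈ (T : Subgroup G) := by
  obtain ⟨T, hT⟩ := (isPGroup_zpowers_of_pow hk).exists_le_sylow
  exact ⟨T, hT (mem_zpowers x)⟩

theorem exists_pow_of_mem {S : Subgroup G} (hS : IsPGroup 2 S) {x : G} (hx : x ∈ S) :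
    ∃ k : ℕ, x ^ 2 ^ k = 1 := by
  obtain ⟨k, hk⟩ := hS ⟨x, hx⟩
  exact ⟨k, congrArg Subtype.val hk⟩

/-- `n` with `n x = k x`, `k` of 2-power order and `n` of odd order, fixes `x`. -/
theorem commute_of_odd {y s z : G} (hy : Odd (orderOf y)) (hconj : y * s * y⁻¹ = z * s)
    (hzy : y * z = z * y) {k : ℕ} (hz : z ^ 2 ^ k = 1) : y * s = s * y := by
  have key : ∀ i : ℕ, y ^ i * s * (y ^ i)⁻¹ = z ^ i * s := by
    intro i
    induction i with
    | zero => simp
    | succ i ih =>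
      have hc : y * z ^ i = z ^ i * y := (Commute.pow_right hzy i).eq
      calc y ^ (i + 1) * s * (y ^ (i + 1))⁻¹ = y * (y ^ i * s * (y ^ i)⁻¹) * y⁻¹ := by
            rw [pow_succ']; group
        _ = y * z ^ i * (s * y⁻¹) := by rw [ih]; group
        _ = z ^ i * (y * s * y⁻¹) := by rw [hc]; group
        _ = _ := by rw [hconj, pow_succ]; group
  have h1 : z ^ orderOf y = 1 := by
    have h := key (orderOf y)
    rw [pow_orderOf_eq_one, one_mul, inv_one, mul_one] at h
    exact mul_eq_right.1 h.symm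
  have hz1 : z = 1 := Consumers.eq_one_of_two_of_odd (hy.of_dvd_nat (orderOf_dvd_of_pow_eq_one h1)) hz
  rw [hz1, one_mul, mul_inv_eq_iff_eq_mul] at hconj
  exact hconj

/-- The Sylow 2-subgroup seen in a larger subgroup. -/
theorem Meet.subgroup (h : Meet G) (H : Subgroup G) : Meet H := by
  intro P Q hPQ x hxP hxQ
  obtain ⟨S, hS⟩ := Sylow.exists_comap_subtype_eq P
  obtain ⟨T, hT⟩ := Sylow.exists_comap_subtype_eq Q
  have hne : S ≠ T := fun he => hPQ (Sylow.ext (hS.symm.trans (he ▸ hT)))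
  rw [← hS] at hxP ⊢
  rw [← hT] at hxQ
  refine mem_centralizer_iff.2 fun s hs => Subtype.ext ?_
  exact mem_centralizer_iff.1 (h S T hne (x : G) hxP hxQ) s hs

/-- Passing to the quotient by a normal odd subgroup. -/
theorem Meet.quotient_odd (h : Meet G) (N : Subgroup G) [N.Normal] (hN : Odd (Nat.card N)) :
    Meet (G ⧸ N) := by
  haveI : Fact (Nat.Prime 2) := ⟨Nat.prime_two⟩
  set π := QuotientGroup.mk' N
  intro P Q hPQ x hxP hxQ
  obtain ⟨S, rfl⟩ := Sylow.mapSurjective_surjective (QuotientGroup.mk'_surjective N) 2 P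
  obtain ⟨T, rfl⟩ := Sylow.mapSurjective_surjective (QuotientGroup.mk'_surjective N) 2 Q
  obtain ⟨s, hs, rfl⟩ := hxP
  obtain ⟨t, ht, hts⟩ := hxQ
  -- a conjugate of `T` inside `T N` contains `s`
  set M := (T : Subgroup G) ⊔ N
  have hsM : s ∈ M := by
    have h1 : t⁻¹ * s ∈ N := QuotientGroup.eq.1 hts
    simpa using mul_mem (mem_sup_left (T := N) ht) (mem_sup_right (S := (T : Subgroup G)) h1)
  obtain ⟨k, hk⟩ := exists_pow_of_mem S.isPGroup' hs
  obtain ⟨R, hR⟩ := (isPGroup_zpowers_of_pow (G := M) (x := ⟨s, hsM⟩) (k := k)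
    (Subtype.ext hk)).exists_le_sylow
  obtain ⟨m, hm⟩ := MulAction.exists_smul_eq M (T.subtype (le_sup_left : (T : Subgroup G) ≤ M)) R
  have hsT : s ∈ (((m : G) • T : Sylow 2 G) : Subgroup G) := by
    have h1 : (⟨s, hsM⟩ : M) ∈ ((m • T.subtype (le_sup_left : (T : Subgroup G) ≤ M) : Sylow 2 M) :
        Subgroup M) := hm ▸ hR (mem_zpowers _)
    rw [mem_smul_iff] at h1 ⊢
    exact h1
  have hne : S ≠ (m : G) • T := by
    intro he
    apply hPQ
    refine Sylow.ext ?_
    show (S : Subgroup G).map π = (T : Subgroup G).map π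
    obtain ⟨a, ha, n, hn, hmn⟩ := mem_sup_of_normal_right.1 m.2
    rw [he]
    ext w
    constructor
    · rintro ⟨_, ⟨y, hy, rfl⟩, rfl⟩
      refine ⟨a * y * a⁻¹, mul_mem (mul_mem ha hy) (inv_mem ha), ?_⟩
      show π (a * y * a⁻¹) = π ((m : G) * y * (m : G)⁻¹)
      simp only [map_mul, map_inv, ← hmn, show π n = 1 from (QuotientGroup.eq_one_iff n).2 hn, mul_one]
    · rintro ⟨y, hy, rfl⟩
      refine ⟨(m : G) * (a⁻¹ * y * a) * (m : G)⁻¹,
        ⟨a⁻¹ * y * a, mul_mem (mul_mem (inv_mem ha) hy) ha, rfl⟩, ?_⟩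
      simp only [map_mul, map_inv, ← hmn, show π n = 1 from (QuotientGroup.eq_one_iff n).2 hn, mul_one]
      group
  refine mem_centralizer_iff.2 ?_
  rintro _ ⟨s', hs', rfl⟩
  rw [← map_mul, ← map_mul, mem_centralizer_iff.1 (h S _ hne s hs hsT) s' hs']

theorem le_normalizer_twoClosure (H : Subgroup G) :
    H ≤ normalizer (Cfsg.pElementClosure 2 H : Set G) := by
  have key : ∀ g ∈ H, ∀ x ∈ Cfsg.pElementClosure 2 H, g * x * g⁻¹ ∈ Cfsg.pElementClosure 2 H := by
    intro g hg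
    have : Cfsg.pElementClosure 2 H ≤ (Cfsg.pElementClosure 2 H).comap (MulAut.conj g).toMonoidHom :=
      (closure_le _).2 fun x ⟨hx, k, hk⟩ => subset_closure
        ⟨mul_mem (mul_mem hg hx) (inv_mem hg), k, hk ▸ ((MulAut.conj g).orderOf_eq x)⟩
    exact fun x hx => this hx
  refine fun g hg => mem_normalizer_iff.2 fun x => ⟨key g hg x, fun hx => ?_⟩
  simpa [mul_assoc] using key _ (inv_mem hg) _ hx

theorem twoClosure_le (H : Subgroup G) : Cfsg.pElementClosure 2 H ≤ H :=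
  (closure_le _).2 fun _ hx => hx.1

theorem mem_twoClosure {H : Subgroup G} {x : G} (hx : x ∈ H) {k : ℕ} (hk : x ^ 2 ^ k = 1) :
    x ∈ Cfsg.pElementClosure 2 H := by
  haveI : Fact (Nat.Prime 2) := ⟨Nat.prime_two⟩
  obtain ⟨j, -, hj⟩ := (Nat.dvd_prime_pow Nat.prime_two).1 (orderOf_dvd_of_pow_eq_one hk)
  exact subset_closure ⟨hx, j, hj⟩

theorem sylow_le_twoClosure {H : Subgroup G} {S : Sylow 2 G} (hSH : (S : Subgroup G) ≤ H) :
    (S : Subgroup G) ≤ Cfsg.pElementClosure 2 H := fun x hx => by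
  obtain ⟨k, hk⟩ := exists_pow_of_mem S.isPGroup' hx
  exact mem_twoClosure (hSH hx) hk

theorem gen2_twoClosure (H : Subgroup G) :
    Cfsg.pElementClosure 2 (⊤ : Subgroup ↥(Cfsg.pElementClosure 2 H)) = ⊤ := by
  set Γ := Cfsg.pElementClosure 2 H
  refine eq_top_iff.2 fun x _ => ?_
  have h : Γ ≤ (Cfsg.pElementClosure 2 (⊤ : Subgroup Γ)).map Γ.subtype :=
    (closure_le _).2 fun y hy => ⟨⟨y, subset_closure hy⟩, subset_closure
      ⟨mem_top _, hy.2.choose, by rw [← orderOf_coe]; exact hy.2.choose_spec⟩, rfl⟩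
  obtain ⟨w, hw, hwx⟩ := h x.2
  rwa [← Subtype.ext hwx]

/-- Frattini argument for the subgroup generated by the elements of 2-power order. -/
theorem exists_twoClosure_mul {H : Subgroup G} {S : Sylow 2 G} (hSH : (S : Subgroup G) ≤ H) {h : G}
    (hh : h ∈ H) : ∃ a ∈ Cfsg.pElementClosure 2 H, ∃ n ∈ normalizer ((S : Subgroup G) : Set G),
      h = a * n := by
  haveI : Fact (Nat.Prime 2) := ⟨Nat.prime_two⟩
  set Γ := Cfsg.pElementClosure 2 H
  have hS1 := sylow_le_twoClosure hSH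
  have hS2 : ((h • S : Sylow 2 G) : Subgroup G) ≤ Γ := sylow_le_twoClosure fun x hx => by
    rw [mem_smul_iff] at hx
    simpa [mul_assoc] using mul_mem (mul_mem hh (hSH hx)) (inv_mem hh)
  obtain ⟨a, ha⟩ := MulAction.exists_smul_eq Γ (S.subtype hS1) ((h • S).subtype hS2)
  have he : (a : G) • S = h • S := by
    refine Sylow.ext (le_antisymm ?_ ?_) <;> intro x hx
    · have hxΓ : x ∈ Γ := by
        rw [mem_smul_iff] at hx
        simpa [mul_assoc] using mul_mem (mul_mem a.2 (hS1 hx)) (inv_mem a.2)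
      have h1 : (⟨x, hxΓ⟩ : Γ) ∈ ((a • S.subtype hS1 : Sylow 2 Γ) : Subgroup Γ) := by
        rw [mem_smul_iff] at hx ⊢; exact hx
      rw [ha] at h1
      exact h1
    · have h1 : (⟨x, hS2 hx⟩ : Γ) ∈ (((h • S).subtype hS2 : Sylow 2 Γ) : Subgroup Γ) := hx
      rw [← ha, mem_smul_iff] at h1
      rw [mem_smul_iff]
      exact h1
  refine ⟨a, a.2, (a : G)⁻¹ * h, mem_normalizer_of_smul ?_, (mul_inv_cancel_left _ _).symm⟩
  rw [mul_smul, ← he, inv_smul_smul]

/-- With several Sylow 2-subgroups and generation by 2-elements the 2-core is central. -/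
theorem Meet.pCore_le_center (h : Meet G) (hgen : Cfsg.pElementClosure 2 (⊤ : Subgroup G) = ⊤)
    {S : Sylow 2 G} (hn : ¬ (S : Subgroup G).Normal) : Cfsg.pCore 2 G ≤ center G := by
  haveI : Fact (Nat.Prime 2) := ⟨Nat.prime_two⟩
  intro c hc
  refine mem_center_iff.2 fun g => ?_
  have key : Cfsg.pElementClosure 2 (⊤ : Subgroup G) ≤ centralizer ({c} : Set G) := by
    refine (closure_le _).2 fun x ⟨_, k, hk⟩ => ?_
    obtain ⟨T, hT⟩ := exists_sylow_mem (x := x) (k := k) (by rw [← hk, pow_orderOf_eq_one])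
    obtain ⟨T', hT'⟩ : ∃ T' : Sylow 2 G, T ≠ T' := by
      by_contra hne
      push Not at hne
      exact hn (normalizer_eq_top_iff.1 (eq_top_iff.2 fun g _ =>
        mem_normalizer_of_smul ((hne (g • S)).symm.trans (hne S))))
    exact mem_centralizer_singleton_iff.2 (mem_centralizer_iff.1
      (h T T' hT' c (Fitting.pCore_le_sylow T hc) (Fitting.pCore_le_sylow T' hc)) x hT)
  exact mem_centralizer_singleton_iff.1 (key (by rw [hgen]; exact mem_top g))

theorem isPGroup_pCore : IsPGroup 2 (Cfsg.pCore 2 G) := by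
  haveI : Fact (Nat.Prime 2) := ⟨Nat.prime_two⟩
  obtain ⟨S⟩ : Nonempty (Sylow 2 G) := inferInstance
  exact S.isPGroup'.to_le (Fitting.pCore_le_sylow S)

theorem pCore_quotient_self : Cfsg.pCore 2 (G ⧸ Cfsg.pCore 2 G) = ⊥ := by
  haveI : Fact (Nat.Prime 2) := ⟨Nat.prime_two⟩
  set K := Cfsg.pCore 2 G
  set M := (Cfsg.pCore 2 (G ⧸ K)).comap (QuotientGroup.mk' K)
  haveI : M.Normal := Normal.comap inferInstance _
  have hM : IsPGroup 2 M := (isPGroup_pCore (G := G ⧸ K)).comap_of_ker_isPGroup _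
    (by rw [QuotientGroup.ker_mk']; exact isPGroup_pCore)
  refine le_bot_iff.1 fun x hx => ?_
  obtain ⟨g, rfl⟩ := QuotientGroup.mk'_surjective K x
  exact mem_bot.2 ((QuotientGroup.eq_one_iff g).2 ((le_sSup (⟨inferInstance, hM⟩ : M.Normal ∧ IsPGroup 2 M) : M ≤ K) hx))

theorem sylow_map_not_comm (N : Subgroup G) [N.Normal] (hN : Odd (Nat.card N)) {S : Sylow 2 G}
    (hS : ¬ IsMulCommutative (S : Subgroup G)) :
    ¬ IsMulCommutative ↥((S : Subgroup G).map (QuotientGroup.mk' N)) := by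
  intro hc
  refine hS ⟨⟨fun a b => ?_⟩⟩
  set π := QuotientGroup.mk' N
  have h := congrArg Subtype.val (hc.is_comm.comm ⟨π a, ⟨a, a.2, rfl⟩⟩ ⟨π b, ⟨b, b.2, rfl⟩⟩)
  rw [coe_mul, coe_mul, ← map_mul, ← map_mul] at h
  obtain ⟨k, hk⟩ := exists_pow_of_mem S.isPGroup'
    (mul_mem (inv_mem (mul_mem a.2 b.2)) (mul_mem b.2 a.2))
  have h1 := Consumers.eq_one_of_two_of_odd
    (hN.of_dvd_nat (orderOf_dvd_natCard N (QuotientGroup.eq.1 h))) (i := k) hk
  exact Subtype.ext (inv_mul_eq_one.1 h1)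

theorem oddCore_characteristic (M : Type u) [Group M] [Finite M] : (Cfsg.oddCore M).Characteristic := by
  refine characteristic_iff_map_le.2 fun φ => ?_
  haveI := DGroup.normal_oddCore M
  refine DGroup.le_oddCore (Normal.map inferInstance φ.toMonoidHom φ.surjective) ?_
  rw [card_map_of_injective φ.injective]
  exact DGroup.odd_oddCore M

theorem oddCore_quotient_of_central {N : Subgroup G} [N.Normal] (hN : IsPGroup 2 N)
    (hc : N ≤ center G) (hO : Cfsg.oddCore G = ⊥) : Cfsg.oddCore (G ⧸ N) = ⊥ := by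
  haveI : Fact (Nat.Prime 2) := ⟨Nat.prime_two⟩
  set π := QuotientGroup.mk' N
  set M := (Cfsg.oddCore (G ⧸ N)).comap π
  haveI : (Cfsg.oddCore (G ⧸ N)).Normal := DGroup.normal_oddCore _
  haveI : M.Normal := Normal.comap inferInstance _
  obtain ⟨k, hk⟩ := IsPGroup.iff_card.1 hN
  -- odd order elements of the preimage form a normal subgroup
  obtain ⟨Q, hQ⟩ : ∃ Q : Subgroup M, (N.subgroupOf M).IsComplement' Q := by
    refine Subgroup.exists_right_complement'_of_coprime ?_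
    rw [Nat.card_congr (subgroupOfEquivOfLe (fun n hn => show π n ∈ Cfsg.oddCore (G ⧸ N) by
      rw [show π n = 1 from (QuotientGroup.eq_one_iff n).2 hn]; exact one_mem _ : N ≤ M)).toEquiv, hk]
    refine Nat.Coprime.pow_left _ (Nat.coprime_two_left.2 ?_)
    have h1 : Nat.card (M ⧸ N.subgroupOf M) ∣ Nat.card (Cfsg.oddCore (G ⧸ N)) := by
      let ψ : M →* Cfsg.oddCore (G ⧸ N) := (π.comp M.subtype).codRestrict _ fun x => x.2
      have hker : ψ.ker = N.subgroupOf M := by
        ext x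
        rw [MonoidHom.mem_ker, mem_subgroupOf]
        exact ⟨fun h => (QuotientGroup.eq_one_iff _).1 (congrArg Subtype.val h),
          fun h => Subtype.ext ((QuotientGroup.eq_one_iff _).2 h)⟩
      rw [← hker, Nat.card_congr (QuotientGroup.quotientKerEquivRange ψ).toEquiv]
      exact card_subgroup_dvd_card _
    rw [Subgroup.index_eq_card]
    exact (DGroup.odd_oddCore _).of_dvd_nat h1
  have hQc : ∀ n : N.subgroupOf M, ∀ q : M, q * n = n * q := fun n q =>
    Subtype.ext (mem_center_iff.1 (hc n.2) q)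
  have hQn : Q.Normal := ⟨fun q hq m => by
    obtain ⟨⟨n, q'⟩, rfl⟩ := hQ.2 m
    show (n : M) * q' * q * ((n : M) * q')⁻¹ ∈ Q
    rw [mul_inv_rev, show (n : M) * q' * q * ((q' : M)⁻¹ * (n : M)⁻¹) =
      (n : M) * ((q' : M) * q * (q' : M)⁻¹) * (n : M)⁻¹ by group,
      ← hQc n, mul_inv_cancel_right]
    exact mul_mem (mul_mem q'.2 hq) (inv_mem q'.2)⟩
  have hQodd : Odd (Nat.card Q) := by
    have h1 : Nat.card Q = (N.subgroupOf M).index := (hQ.symm.index_eq_card).symm
    rw [h1, Subgroup.index_eq_card]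
    let ψ : M →* Cfsg.oddCore (G ⧸ N) := (π.comp M.subtype).codRestrict _ fun x => x.2
    have hker : ψ.ker = N.subgroupOf M := by
      ext x
      rw [MonoidHom.mem_ker, mem_subgroupOf]
      exact ⟨fun h => (QuotientGroup.eq_one_iff _).1 (congrArg Subtype.val h),
        fun h => Subtype.ext ((QuotientGroup.eq_one_iff _).2 h)⟩
    rw [← hker, Nat.card_congr (QuotientGroup.quotientKerEquivRange ψ).toEquiv]
    exact (DGroup.odd_oddCore _).of_dvd_nat (card_subgroup_dvd_card _)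
  have hQ1 : Q.map M.subtype ≤ Cfsg.oddCore G := by
    haveI := hQn
    have hle : Q ≤ Cfsg.oddCore M := DGroup.le_oddCore hQn hQodd
    refine (map_mono hle).trans ?_
    haveI : ((Cfsg.oddCore M).map M.subtype).Normal := by
      haveI := oddCore_characteristic M
      exact inferInstance
    exact DGroup.le_oddCore inferInstance (DGroup.odd_coreIn M)
  rw [hO] at hQ1
  refine le_bot_iff.1 fun x hx => ?_
  obtain ⟨g, rfl⟩ := QuotientGroup.mk'_surjective N x
  obtain ⟨⟨n, q⟩, he⟩ := hQ.2 ⟨g, hx⟩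
  have hq : (q : M).1 = 1 := mem_bot.1 (hQ1 ⟨q.1, q.2, rfl⟩)
  have hg : g = (n : M).1 * (q : M).1 := (congrArg Subtype.val he).symm
  rw [mem_bot, hg, hq, mul_one]
  exact (QuotientGroup.eq_one_iff _).2 n.2

/-- A rank-one group generated by elements of 2-power order is one of the three families. -/
theorem RankOne.three (h : RankOne G) (hgen : Cfsg.pElementClosure 2 (⊤ : Subgroup G) = ⊤) :
    Consumers.Three G := by
  haveI : Fact (Nat.Prime 2) := ⟨Nat.prime_two⟩
  obtain ⟨Q⟩ : Nonempty (Sylow 2 G) := inferInstance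
  have hP := Consumers.closure_three Consumers.structure_all (h.se Q) h.2.1
  let e : G ≃* G ⧸ Cfsg.oddCore G :=
    (QuotientGroup.quotientBot.symm).trans (QuotientGroup.quotientMulEquivOfEq h.1.symm)
  have htop : Cfsg.pElementClosure 2 (⊤ : Subgroup (G ⧸ Cfsg.oddCore G)) = ⊤ := by
    refine eq_top_iff.2 fun x _ => ?_
    obtain ⟨g, rfl⟩ := e.surjective x
    have h1 : Cfsg.pElementClosure 2 (⊤ : Subgroup G) ≤
        (Cfsg.pElementClosure 2 (⊤ : Subgroup (G ⧸ Cfsg.oddCore G))).comap e.toMonoidHom :=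
      (closure_le _).2 fun y ⟨_, k, hk⟩ => subset_closure ⟨mem_top _, k, by
        show orderOf (e y) = 2 ^ k
        rw [e.orderOf_eq, hk]⟩
    exact h1 (by rw [hgen]; exact mem_top g)
  exact Consumers.Three.congr hP
    ((e.trans Subgroup.topEquiv.symm).trans (MulEquiv.subgroupCongr htop.symm))

end CfsgLib.CentralMeet
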