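import Cfsg.Agent.CentralMeet.Skew

/-!
# The quotient by the 2-core has strongly embedded Sylow normalizers
-/

set_option autoImplicit false
set_option linter.unusedSectionVars false
set_option linter.style.haveILetI false

namespace CfsgLib.CentralMeet

open Subgroup
open CfsgLib.Bender
open scoped commutatorElement

universe u

variable {G : Type u} [Group G] [Finite G] {n : ℕ} {S : Sylow 2 G}

namespace Setting

variable (C : Setting n G S)
include C

theorem exists_stronglyEmbedded : ∃ M : Subgroup (G ⧸ Cfsg.pCore 2 G),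
    Cfsg.IsStronglyEmbedded M ∧
      normalizer ((C.sbar : Subgroup (G ⧸ Cfsg.pCore 2 G)) : Set (G ⧸ Cfsg.pCore 2 G)) ≤ M := by
  haveI : Fact (Nat.Prime 2) := ⟨Nat.prime_two⟩
  set X := G ⧸ Cfsg.pCore 2 G
  set NS := normalizer ((C.sbar : Subgroup X) : Set X)
  obtain ⟨a, ha, haz⟩ := C.exists_central_invol
  set W := DGroup.coreIn (centralizer ({a} : Set X))
  by_cases hW : W = ⊥
  · have hW' : ∀ x : X, Odd (orderOf x) → x ∈ centralizer ((C.sbar : Subgroup X) : Set X) → x = 1 :=
      fun x h1 h2 => mem_bot.1 (hW ▸ (C.coreIn_centralizer ha haz).2 ⟨h1, h2⟩)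
    by_cases hF : ∃ u, C.Bad u
    · set U := closure {u | C.Bad u}
      have hUS : U ≤ (C.sbar : Subgroup X) := (closure_le _).2 fun u hu => hu.2.1
      have hU1 : U ≠ ⊥ := fun h => by
        obtain ⟨u, hu⟩ := hF
        have h1 : u ∈ (⊥ : Subgroup X) := h ▸ subset_closure (show u ∈ {u | C.Bad u} from hu)
        rw [mem_bot] at h1
        have h2 := hu.1
        rw [h1, orderOf_one] at h2
        omega
      refine ⟨normalizer (U : Set X), C.stronglyEmbedded (fun h => hU1 ?_) ?_ fun x hx hxo => ?_, ?_⟩
      · haveI : U.Normal := normalizer_eq_top_iff.1 h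
        have hle : U ≤ Cfsg.pCore 2 X := le_sSup ⟨inferInstance, C.sbar.isPGroup'.to_le hUS⟩
        rw [pCore_quotient_self] at hle
        exact le_bot_iff.1 hle
      rotate_left 2
      all_goals
        have hbad : ∀ m ∈ NS, ∀ u, C.Bad u → C.Bad (m * u * m⁻¹) := fun m hm u hu => by
          refine ⟨((MulAut.conj m).orderOf_eq u).trans hu.1,
            (mem_normalizer_iff.1 hm u).1 hu.2.1, fun h => hu.2.2 fun c hc => ?_⟩
          have h1 : m * c * m⁻¹ ∈ NS := h (mem_centralizer_singleton_iff.2 (by
            rw [conj_mul, mem_centralizer_singleton_iff.1 hc, conj_mul]))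
          have h2 := mul_mem (mul_mem (inv_mem hm) h1) hm
          rwa [show m⁻¹ * (m * c * m⁻¹) * m = c by group] at h2
        have hN : NS ≤ normalizer (U : Set X) := fun m hm => by
          have key : ∀ m ∈ NS, ∀ w ∈ U, m * w * m⁻¹ ∈ U := fun m hm => by
            have : U ≤ U.comap (MulAut.conj m).toMonoidHom :=
              (closure_le _).2 fun u hu => subset_closure (hbad m hm u hu)
            exact fun w hw => this hw
          refine mem_normalizer_iff.2 fun w => ⟨key m hm w, fun hw => ?_⟩
          simpa [mul_assoc] using key _ (inv_mem hm) _ hw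
      · exact hN
      · exact hN
      · intro c hc
        by_cases hb : centralizer ({x} : Set X) ≤ NS
        · exact hN (hb hc)
        have hx' : C.Bad x := ⟨hxo, hx, hb⟩
        obtain ⟨g, rfl⟩ := QuotientGroup.mk'_surjective (Cfsg.pCore 2 G) c
        have hSH : (S : Subgroup G) ≤
            (centralizer ({x} : Set X)).comap (QuotientGroup.mk' (Cfsg.pCore 2 G)) :=
          (C.sylow_le_cOver hx').trans (twoClosure_le _)
        obtain ⟨a, ha, m, hm, rfl⟩ := exists_twoClosure_mul hSH (show g ∈ _ from hc)
        rw [map_mul]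
        refine mul_mem ?_ (hN (C.proj_normalizer hm))
        have hfix : U ≤ centralizer ({C.proj a} : Set X) := (closure_le _).2 fun u hu =>
          mem_centralizer_singleton_iff.2 (C.cOver_commute_bad hW' hx' hu ha).eq.symm
        refine mem_normalizer_iff.2 fun w => ?_
        constructor
        · intro hw
          rwa [← mem_centralizer_singleton_iff.1 (hfix hw), mul_inv_cancel_right]
        · intro hw
          have h1 := mem_centralizer_singleton_iff.1 (hfix hw)
          rw [mul_assoc (C.proj a * w), inv_mul_cancel, mul_one] at h1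
          rwa [mul_left_cancel h1]
    · push Not at hF
      refine ⟨NS, C.stronglyEmbedded (fun h => ?_) le_rfl fun x hx hxo => ?_, le_rfl⟩
      · haveI : (C.sbar : Subgroup X).Normal := normalizer_eq_top_iff.1 h
        have hle : (C.sbar : Subgroup X) ≤ Cfsg.pCore 2 X :=
          le_sSup ⟨inferInstance, C.sbar.isPGroup'⟩
        rw [pCore_quotient_self] at hle
        have h1 := hle haz.1
        rw [mem_bot] at h1
        rw [h1, orderOf_one] at ha
        omega
      · by_contra hb
        exact hF x ⟨hxo, hx, hb⟩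
  · refine ⟨normalizer (W : Set X), C.stronglyEmbedded (fun h => hW ?_) ?_ fun x hx hxo => ?_, ?_⟩
    · haveI : W.Normal := normalizer_eq_top_iff.1 h
      exact le_bot_iff.1 ((DGroup.le_oddCore inferInstance (DGroup.odd_coreIn _)).trans C.odd_quot.le)
    rotate_left 2
    all_goals
      have hN : NS ≤ normalizer (W : Set X) := fun m hm => by
        have key : ∀ m ∈ NS, ∀ w ∈ W, m * w * m⁻¹ ∈ W := fun m hm w hw => by
          obtain ⟨h1, h2⟩ := (C.coreIn_centralizer ha haz).1 hw
          refine (C.coreIn_centralizer ha haz).2 ⟨?_, mem_centralizer_iff.2 fun s hs => ?_⟩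
          · rwa [show orderOf (m * w * m⁻¹) = orderOf w from (MulAut.conj m).orderOf_eq w]
          · have h := mem_centralizer_iff.1 h2 (m⁻¹ * s * m) ((mem_normalizer_iff.1 hm _).2 (by
              rwa [show m * (m⁻¹ * s * m) * m⁻¹ = s by group]))
            calc s * (m * w * m⁻¹) = m * (m⁻¹ * s * m * w) * m⁻¹ := by group
              _ = m * (w * (m⁻¹ * s * m)) * m⁻¹ := by rw [h]
              _ = _ := by group
        refine mem_normalizer_iff.2 fun w => ⟨key m hm w, fun hw => ?_⟩
        simpa [mul_assoc] using key _ (inv_mem hm) _ hw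
    · exact hN
    · exact hN
    · by_cases hb : centralizer ({x} : Set X) ≤ NS
      · exact hb.trans hN
      have hxz := C.zbar_central (C.zbar_of_not_le hx hb)
      have he : DGroup.coreIn (centralizer ({x} : Set X)) = W := by
        ext w
        rw [C.coreIn_centralizer hxo hxz, C.coreIn_centralizer ha haz]
      rw [← he]
      exact DGroup.normalizer_coreIn _

theorem normalizer_stronglyEmbedded :
    Cfsg.IsStronglyEmbedded (normalizer ((C.sbar : Subgroup (G ⧸ Cfsg.pCore 2 G)) : Set (G ⧸ Cfsg.pCore 2 G))) := by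
  haveI : Fact (Nat.Prime 2) := ⟨Nat.prime_two⟩
  obtain ⟨M, hse, hN⟩ := C.exists_stronglyEmbedded
  obtain ⟨T, hTM, hn, hT, htr⟩ := Consumers.structure_all _ M hse C.odd_quot C.pairRank
  have hST : (C.sbar : Subgroup (G ⧸ Cfsg.pCore 2 G)) ≤ T := fun s hs => by
    obtain ⟨k, hk⟩ := exists_pow_of_mem C.sbar.isPGroup' hs
    exact Consumers.two_mem_of_shape hse hTM hn htr (hN (Subgroup.le_normalizer hs)) hk
  have he : T = (C.sbar : Subgroup (G ⧸ Cfsg.pCore 2 G)) := C.sbar.is_maximal' hT hST
  rw [he] at hn
  rwa [le_antisymm hn hN] at hse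

end Setting

theorem Setting.rankOne (C : Setting n G S) : RankOne (G ⧸ Cfsg.pCore 2 G) := by
  haveI : Fact (Nat.Prime 2) := ⟨Nat.prime_two⟩
  refine ⟨C.odd_quot, C.pairRank, fun Q => ?_⟩
  obtain ⟨T, rfl⟩ := Sylow.mapSurjective_surjective (QuotientGroup.mk'_surjective (Cfsg.pCore 2 G)) 2 Q
  have CT : Setting n G T :=
    { ih := C.ih, card := C.card, meet := C.meet, odd := C.odd, gen := C.gen
      nonab := fun h => C.nonab (sylow_comm_iff h)
      notNormal := fun h => C.notNormal (by
        haveI := Sylow.unique_of_normal T h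
        rwa [Subsingleton.elim S T]) }
  exact CT.normalizer_stronglyEmbedded

theorem below : ∀ m : ℕ, Below.{u} m := by
  intro m
  induction m using Nat.strong_induction_on with
  | _ m ih =>
    intro Γ _ _ hlt hm hO hgen T hT hn
    exact (Setting.rankOne (n := Nat.card Γ) (S := T) ⟨ih _ hlt, rfl, hm, hO, hgen, hT, hn⟩)

/-- The structure of a group without odd core generated by elements of 2-power order. -/
theorem rankOne_quotient (hm : Meet G) (hO : Cfsg.oddCore G = ⊥)
    (hgen : Cfsg.pElementClosure 2 (⊤ : Subgroup G) = ⊤) (S : Sylow 2 G)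
    (hS : ¬ IsMulCommutative (S : Subgroup G)) (hn : ¬ (S : Subgroup G).Normal) :
    RankOne (G ⧸ Cfsg.pCore 2 G) :=
  below (Nat.card G + 1) G (Nat.lt_succ_self _) hm hO hgen S hS hn

end CfsgLib.CentralMeet
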