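import Cfsg.Agent.CentralMeet.Basic
import Cfsg.Agent.Bender.StructureMain
import Cfsg.Agent.S3776

/-!
# Groups in which the normalizers of Sylow 2-subgroups are strongly embedded
-/

set_option autoImplicit false
set_option linter.unusedSectionVars false
set_option linter.style.haveILetI false

namespace CfsgLib.CentralMeet

open Subgroup
open CfsgLib.Bender
open scoped commutatorElement

universe u

/-- No odd core, 2-rank at least two, and strongly embedded normalizers of Sylow 2-subgroups. -/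
def RankOne (X : Type u) [Group X] : Prop :=
  Cfsg.oddCore X = ⊥ ∧ PairRank X ∧
    ∀ Q : Sylow 2 X, Cfsg.IsStronglyEmbedded (normalizer ((Q : Subgroup X) : Set X))

variable {G : Type u} [Group G] [Finite G]

/-- Elements of 2-power order normalizing a Sylow 2-subgroup lie in it. -/
theorem mem_sylow_of_pow {S : Sylow 2 G} {x : G} (hx : x ∈ normalizer ((S : Subgroup G) : Set G))
    {k : ℕ} (hk : x ^ 2 ^ k = 1) : x ∈ (S : Subgroup G) := by
  have hp : IsPGroup 2 (zpowers x) := fun ⟨y, hy⟩ => by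
    obtain ⟨i, rfl⟩ := mem_zpowers_iff.1 hy
    exact ⟨k, Subtype.ext (by
      show (x ^ i) ^ 2 ^ k = 1
      rw [← zpow_natCast, ← zpow_mul, mul_comm, zpow_mul, zpow_natCast, hk, one_zpow])⟩
  have hsup : IsPGroup 2 ↥(zpowers x ⊔ (S : Subgroup G)) :=
    hp.to_sup_of_normal_right' S.isPGroup' (zpowers_le.2 hx)
  exact (S.is_maximal' hsup le_sup_right) ▸ mem_sup_left (mem_zpowers x)

/-- A 2-subgroup normalizing a Sylow 2-subgroup lies in it. -/
theorem le_sylow_of_normalizes {S : Sylow 2 G} {T : Subgroup G} (hT : IsPGroup 2 T)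
    (hTS : T ≤ normalizer ((S : Subgroup G) : Set G)) : T ≤ (S : Subgroup G) := fun x hx => by
  obtain ⟨k, hk⟩ := hT ⟨x, hx⟩
  exact mem_sylow_of_pow (hTS hx) (congrArg Subtype.val hk)

variable (h : RankOne G) (Q : Sylow 2 G)
include h

theorem RankOne.se : Cfsg.IsStronglyEmbedded (normalizer ((Q : Subgroup G) : Set G)) := h.2.2 Q

theorem RankOne.trans {g₁ g₂ : G} (h1 : g₁ ∉ normalizer ((Q : Subgroup G) : Set G))
    (h2 : g₂ ∉ normalizer ((Q : Subgroup G) : Set G)) :
    ∃ w ∈ (Q : Subgroup G), g₂⁻¹ * (w * g₁) ∈ normalizer ((Q : Subgroup G) : Set G) := by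
  obtain ⟨T, hTH, -, hT, htr⟩ := Consumers.structure_all G _ (h.se Q) h.1 h.2.1
  obtain ⟨w, hw, hw'⟩ := htr g₁ g₂ h1 h2
  exact ⟨w, le_sylow_of_normalizes hT hTH hw, hw'⟩

theorem RankOne.exists_central : ∃ z : G, orderOf z = 2 ∧ z ∈ zs Q := by
  haveI : Fact (Nat.Prime 2) := ⟨Nat.prime_two⟩
  obtain ⟨u, v, hu, -, -, -⟩ := h.2.1
  have hne : Nontrivial (Q : Subgroup G) := by
    refine (Subgroup.nontrivial_iff_ne_bot _).2 fun hb => ?_
    refine Sylow.ne_bot_of_dvd_card Q ?_ hb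
    exact hu ▸ orderOf_dvd_natCard u
  haveI := Q.isPGroup'.center_nontrivial
  obtain ⟨z, hz⟩ := exists_prime_orderOf_dvd_card' (G := center (Q : Subgroup G)) 2
    (((Q.isPGroup'.to_subgroup _).card_eq_or_dvd).resolve_left Finite.one_lt_card.ne')
  refine ⟨((z : (Q : Subgroup G)) : G), by rw [orderOf_coe, orderOf_coe, hz],
    mem_zs.2 ⟨(z : (Q : Subgroup G)).2, fun s hs => ?_⟩⟩
  exact congrArg Subtype.val (mem_center_iff.1 z.2 ⟨s, hs⟩)

theorem RankOne.one_class {a b : G} (ha : orderOf a = 2) (hb : orderOf b = 2) : IsConj a b :=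
  let ⟨P⟩ := (inferInstance : Nonempty (Sylow 2 G))
  StrongEmbed.isConj_of_invols (h.se P) ha hb

/-- The involutions of `Q` are fused by its normalizer. -/
theorem RankOne.transitive {a b : G} (ha : orderOf a = 2) (hb : orderOf b = 2)
    (haQ : a ∈ (Q : Subgroup G)) (hbQ : b ∈ (Q : Subgroup G)) :
    ∃ n ∈ normalizer ((Q : Subgroup G) : Set G), n * a * n⁻¹ = b := by
  obtain ⟨g, hg⟩ := isConj_iff.1 (h.one_class ha hb)
  refine ⟨g, StrongEmbed.mem_of_conj_mem (h.se Q) (Subgroup.le_normalizer hbQ) hb ?_, hg⟩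
  rw [← hg, show g⁻¹ * (g * a * g⁻¹) * g = a by group]
  exact Subgroup.le_normalizer haQ

theorem RankOne.mem_zs_of_invol {x : G} (hx : orderOf x = 2) (hxQ : x ∈ (Q : Subgroup G)) :
    x ∈ zs Q := by
  obtain ⟨z, hz, hzQ⟩ := h.exists_central Q
  obtain ⟨n, hn, rfl⟩ := h.transitive Q hz hx hzQ.1 hxQ
  refine mem_zs.2 ⟨hxQ, fun s hs => ?_⟩
  have h1 := (mem_zs.1 hzQ).2 (n⁻¹ * s * n) (by
    simpa using (mem_normalizer_iff.1 (inv_mem hn) s).1 hs)
  calc s * (n * z * n⁻¹) = n * (n⁻¹ * s * n * z) * n⁻¹ := by group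
    _ = n * (z * (n⁻¹ * s * n)) * n⁻¹ := by rw [h1]
    _ = _ := by group

theorem RankOne.two_invols : ∃ a b : G, orderOf a = 2 ∧ orderOf b = 2 ∧
    a ∈ (Q : Subgroup G) ∧ b ∈ (Q : Subgroup G) ∧ a ≠ b := by
  haveI : Fact (Nat.Prime 2) := ⟨Nat.prime_two⟩
  obtain ⟨u, v, hu, hv, hne, huv⟩ := h.2.1
  obtain ⟨c, hc⟩ := isConj_iff.1 (h.one_class hu (h.exists_central Q).choose_spec.1)
  set z := (h.exists_central Q).choose
  obtain ⟨hz, hzQ⟩ := (h.exists_central Q).choose_spec
  have hcv : orderOf (c * v * c⁻¹) = 2 := by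
    rw [← hv]; exact ((MulAut.conj c).orderOf_eq v)
  have hzc : Commute z (c * v * c⁻¹) := by
    rw [← hc]; exact huv.map (MulAut.conj c).toMonoidHom
  have hmem : c * v * c⁻¹ ∈ normalizer ((Q : Subgroup G) : Set G) :=
    StrongEmbed.mem_of_commute (h.se Q) (Subgroup.le_normalizer hzQ.1) hz hzc.symm
  refine ⟨z, c * v * c⁻¹, hz, hcv, hzQ.1,
    mem_sylow_of_pow (k := 1) hmem (by rw [pow_one, ← hcv]; exact pow_orderOf_eq_one _), fun he => ?_⟩
  rw [← hc] at he
  exact hne (mul_left_cancel (mul_right_cancel he))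

theorem RankOne.exists_not_mem : ∃ g : G, g ∉ normalizer ((Q : Subgroup G) : Set G) :=
  Consumers.exists_not_mem (h.se Q)

theorem RankOne.core_eq_one {x : G}
    (hx : ∀ g : G, g⁻¹ * x * g ∈ normalizer ((Q : Subgroup G) : Set G)) : x = 1 := by
  set N := normalizer ((Q : Subgroup G) : Set G)
  obtain ⟨g, hg⟩ := h.exists_not_mem Q
  have hodd : Odd (Nat.card N.normalCore) :=
    ((h.se Q).2.2 g hg).of_dvd_nat (card_dvd_of_le fun y hy => ⟨N.normalCore_le hy,
      g⁻¹ * y * g, N.normalCore_le (by simpa using N.normalCore_normal.conj_mem y hy g⁻¹),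
      show g * (g⁻¹ * y * g) * g⁻¹ = y by group⟩)
  have h1 := DGroup.le_oddCore N.normalCore_normal hodd (show x ∈ N.normalCore from fun g => by
    simpa using hx g⁻¹)
  rwa [h.1, mem_bot] at h1

/-- An odd automorphism fixing a Sylow 2-subgroup elementwise is trivial. -/
theorem RankOne.aut_eq_one {φ : MulAut G} (hφ : ∀ s ∈ (Q : Subgroup G), φ s = s) {n : ℕ}
    (hn : Odd n) (hpow : φ ^ n = 1) : φ = 1 := by
  haveI : Fact (Nat.Prime 2) := ⟨Nat.prime_two⟩
  set N := normalizer ((Q : Subgroup G) : Set G)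
  have hstab : ∀ ψ : MulAut G, (∀ s ∈ (Q : Subgroup G), ψ s = s) → ∀ x ∈ N, ψ x ∈ N := by
    intro ψ hψ x hx
    have key : ∀ z : G, ψ z ∈ (Q : Subgroup G) ↔ z ∈ (Q : Subgroup G) := fun z =>
      ⟨fun hz => ψ.injective (hψ _ hz) ▸ hz, fun hz => (hψ z hz).symm ▸ hz⟩
    refine mem_normalizer_iff.2 fun y => ?_
    obtain ⟨z, rfl⟩ := ψ.surjective y
    rw [key, mem_normalizer_iff.1 hx z, ← key (x * z * x⁻¹), map_mul, map_mul, map_inv]
  have hsymm : ∀ s ∈ (Q : Subgroup G), φ.symm s = s := fun s hs =>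
    φ.injective (by rw [φ.apply_symm_apply, hφ s hs])
  refine MulEquiv.ext fun x => ?_
  show φ x = x
  -- every coset of the normalizer is fixed
  have hfix : ∀ g : G, g⁻¹ * φ g ∈ N := by
    intro g
    by_cases hg : g ∈ N
    · exact mul_mem (inv_mem hg) (hstab φ hφ g hg)
    obtain ⟨w, hw, hw'⟩ := h.trans Q hg (g₂ := φ g) (fun hh => hg (by
      simpa using hstab φ.symm hsymm _ hh))
    have hstep : ∀ k : ℕ, ((φ ^ k) g)⁻¹ * (w ^ k * g) ∈ N := by
      intro k
      induction k with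
      | zero =>
        show g⁻¹ * (w ^ 0 * g) ∈ N
        rw [pow_zero, one_mul, inv_mul_cancel]
        exact one_mem N
      | succ k ih =>
        have h1 := hstab φ hφ _ ih
        rw [map_mul, map_inv, map_mul, hφ _ (pow_mem hw k)] at h1
        have h2 := mul_mem h1 hw'
        rw [pow_succ', MulAut.mul_apply]
        convert h2 using 1
        rw [pow_succ]
        group
    have hone := hstep n
    rw [hpow, MulAut.one_apply] at hone
    have h1 : w ^ n = 1 :=
      Consumers.shape_free (h.se Q) Subgroup.le_normalizer Q.isPGroup' hg (pow_mem hw n) hone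
    obtain ⟨k, hk⟩ := Q.isPGroup' ⟨w, hw⟩
    have h2 : w = 1 := Consumers.eq_one_of_two_of_odd (hn.of_dvd_nat (orderOf_dvd_of_pow_eq_one h1))
      (congrArg Subtype.val hk)
    rw [h2, one_mul] at hw'
    have h3 := inv_mem hw'
    rwa [mul_inv_rev, inv_inv] at h3
  have h1 : x⁻¹ * φ x = 1 := h.core_eq_one Q fun g => by
    have h2 := mul_mem (hfix (x * g)) (inv_mem (hfix g))
    rw [map_mul] at h2
    convert h2 using 1
    group
  exact (inv_mul_eq_one.1 h1).symm

theorem RankOne.isSolvable : Group.IsSolvable (normalizer ((Q : Subgroup G) : Set G)) :=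
  Consumers.isSolvable Consumers.structure_all (h.se Q) h.2.1

/-- A non-abelian Sylow 2-subgroup is special, with all involutions central. -/
theorem RankOne.special (hna : ¬ IsMulCommutative (Q : Subgroup G)) :
    commutator (Q : Subgroup G) = Subgroup.center (Q : Subgroup G) ∧
      frattini (Q : Subgroup G) = Subgroup.center (Q : Subgroup G) ∧
      ∀ x : (Q : Subgroup G), x ∈ Subgroup.center (Q : Subgroup G) ↔ x ^ 2 = 1 := by
  set N := normalizer ((Q : Subgroup G) : Set G)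
  haveI : Group.IsSolvable N := h.isSolvable Q
  let f : N →* MulAut (Q : Subgroup G) := normalizerMonoidHom (Q : Subgroup G)
  obtain ⟨a, b, ha, hb, haQ, hbQ, hab⟩ := h.two_invols Q
  have hord : ∀ x : (Q : Subgroup G), x ≠ 1 → x ^ 2 = 1 → orderOf (x : G) = 2 := fun x h1 h2 => by
    rw [orderOf_coe]; exact orderOf_eq_prime h2 h1
  have hsq : ∀ (x : G) (hx : x ∈ (Q : Subgroup G)), orderOf x = 2 →
      (⟨x, hx⟩ : (Q : Subgroup G)) ≠ 1 ∧ (⟨x, hx⟩ : (Q : Subgroup G)) ^ 2 = 1 := fun x hx ho =>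
    ⟨fun e => by rw [show x = 1 from congrArg Subtype.val e, orderOf_one] at ho; omega,
      Subtype.ext (by show x ^ 2 = 1; rw [← ho]; exact pow_orderOf_eq_one x)⟩
  obtain ⟨h1, h2, h3⟩ := Cfsg.Agent.S3776.result Q.isPGroup' hna
    ⟨⟨a, haQ⟩, ⟨b, hbQ⟩, fun e => hab (congrArg Subtype.val e),
      (hsq a haQ ha).1, (hsq a haQ ha).2, (hsq b hbQ hb).1, (hsq b hbQ hb).2⟩
    ⟨f.range, Group.isSolvable_of_surjective f.rangeRestrict_surjective,
      fun x y hx hx2 hy hy2 => by
        obtain ⟨g, hg, he⟩ := h.transitive Q (hord x hx hx2) (hord y hy hy2) x.2 y.2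
        exact ⟨f ⟨g, hg⟩, ⟨_, rfl⟩, Subtype.ext he⟩⟩
  exact ⟨h1.trans h2, h2, h3⟩

/-- The central quotient of a non-abelian Sylow 2-subgroup is too large for two generators. -/
theorem RankOne.two_gen (hna : ¬ IsMulCommutative (Q : Subgroup G)) (x y : G)
    (hx : x ∈ (Q : Subgroup G)) (hy : y ∈ (Q : Subgroup G)) :
    ¬ (Q : Subgroup G) ≤ closure ({x, y} : Set G) ⊔ zs Q := by
  intro hle
  obtain ⟨hcom, -, hinv⟩ := h.special Q hna
  set Z := Subgroup.center (Q : Subgroup G)
  set X : (Q : Subgroup G) := ⟨x, hx⟩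
  set Y : (Q : Subgroup G) := ⟨y, hy⟩
  have hgen : closure ({X, Y} : Set (Q : Subgroup G)) ⊔ Z = ⊤ := by
    refine map_injective (Subgroup.subtype_injective _) ?_
    rw [Subgroup.map_sup, MonoidHom.map_closure, Set.image_pair, ← MonoidHom.range_eq_map,
      range_subtype]
    refine le_antisymm (sup_le ((closure_le _).2 ?_) (map_subtype_le _)) (hle.trans
      (sup_le_sup le_rfl fun z hz => ⟨⟨z, hz.1⟩, mem_center_iff.2 fun s =>
        Subtype.ext ((mem_zs.1 hz).2 s s.2), rfl⟩))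
    rintro _ (rfl | rfl) <;> assumption
  -- so the derived group is generated by one central involution
  set D := zpowers ⁅X, Y⁆
  haveI hDn : D.Normal := ⟨fun d hd g => by
    have hc : D ≤ Z := zpowers_le.2 (hcom ▸ commutator_mem_commutator (mem_top _) (mem_top _))
    rw [mem_center_iff.1 (hc hd) g, mul_inv_cancel_right]
    exact hd⟩
  have hDcom : commutator (Q : Subgroup G) ≤ D := by
    have hC : (closure (QuotientGroup.mk' D '' ({X, Y} ∪ (Z : Set (Q : Subgroup G))))) = ⊤ := by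
      rw [← MonoidHom.map_closure, Subgroup.closure_union, closure_eq, hgen, ← MonoidHom.range_eq_map,
        QuotientGroup.range_mk']
    haveI hcq : IsMulCommutative (⊤ : Subgroup ((Q : Subgroup G) ⧸ D)) := by
      rw [← hC]
      refine isMulCommutative_closure ?_
      have hz : ∀ z ∈ Z, ∀ s, QuotientGroup.mk' D z * QuotientGroup.mk' D s =
          QuotientGroup.mk' D s * QuotientGroup.mk' D z := fun z hz s => by
        rw [← map_mul, ← map_mul, mem_center_iff.1 hz s]
      have hxy : QuotientGroup.mk' D X * QuotientGroup.mk' D Y =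
          QuotientGroup.mk' D Y * QuotientGroup.mk' D X := by
        rw [← commutatorElement_eq_one_iff_mul_comm, ← map_commutatorElement]
        exact (QuotientGroup.eq_one_iff _).2 (mem_zpowers _)
      rintro _ ⟨a, ha, rfl⟩ _ ⟨b, hb, rfl⟩
      rcases ha with (rfl | rfl) | ha <;> rcases hb with (rfl | rfl) | hb <;>
        first | rfl | exact hxy | exact hxy.symm | exact hz _ ha _ | exact (hz _ hb _).symm
    rw [commutator_def, commutator_le]
    intro a _ b _
    refine (QuotientGroup.eq_one_iff _).1 ?_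
    show QuotientGroup.mk' D ⁅a, b⁆ = 1
    rw [map_commutatorElement, commutatorElement_eq_one_iff_mul_comm]
    exact congrArg Subtype.val (hcq.is_comm.comm ⟨_, mem_top _⟩ ⟨_, mem_top _⟩)
  obtain ⟨a, b, ha, hb, haQ, hbQ, hab⟩ := h.two_invols Q
  have hinD : ∀ (w : G) (hw : w ∈ (Q : Subgroup G)), orderOf w = 2 →
      (⟨w, hw⟩ : (Q : Subgroup G)) = ⁅X, Y⁆ := by
    intro w hw ho
    have h1 : (⟨w, hw⟩ : (Q : Subgroup G)) ∈ D := hDcom (by
      rw [hcom]
      exact (hinv _).2 (Subtype.ext (by show w ^ 2 = 1; rw [← ho]; exact pow_orderOf_eq_one w)))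
    have hr : ⁅X, Y⁆ * ⁅X, Y⁆ = 1 := by
      rw [← sq, ← hinv, ← hcom]; exact commutator_mem_commutator (mem_top _) (mem_top _)
    obtain ⟨k, hk⟩ := mem_zpowers_iff.1 h1
    rcases Int.even_or_odd k with ⟨j, rfl⟩ | ⟨j, rfl⟩
    · rw [← two_mul, zpow_mul, zpow_two, hr, one_zpow] at hk
      rw [show w = 1 from congrArg Subtype.val hk.symm, orderOf_one] at ho
      omega
    · rw [zpow_add, zpow_mul, zpow_two, hr, one_zpow, one_mul, zpow_one] at hk
      exact hk.symm
  exact hab (congrArg Subtype.val ((hinD a haQ ha).trans (hinD b hbQ hb).symm))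

end CfsgLib.CentralMeet
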