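import Cfsg.Agent.CentralMeet.Core

/-!
# Centralizers of two involutions with large centralizers

For two involutions of the Sylow subgroup of the quotient with centralizers outside its normalizer,
lifts lie in the 2-cores of both local subgroups.
-/

set_option autoImplicit false
set_option linter.unusedSectionVars false
set_option linter.style.haveILetI false

namespace CfsgLib.CentralMeet

open Subgroup
open CfsgLib.Bender
open scoped commutatorElement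

universe u

variable {G : Type u} [Group G] [Finite G]

/-- The subgroup generated by the elements of 2-power order over the centralizer of `u`. -/
def cOver (u : G ⧸ Cfsg.pCore 2 G) : Subgroup G :=
  Cfsg.pElementClosure 2 ((centralizer ({u} : Set (G ⧸ Cfsg.pCore 2 G))).comap
    (QuotientGroup.mk' (Cfsg.pCore 2 G)))

/-- The 2-core of a subgroup, inside the group. -/
def core2 (Γ : Subgroup G) : Subgroup G := (Cfsg.pCore 2 ↥Γ).map Γ.subtype

theorem mem_core2 {Γ : Subgroup G} {x : G} :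
    x ∈ core2 Γ ↔ ∃ h : x ∈ Γ, (⟨x, h⟩ : ↥Γ) ∈ Cfsg.pCore 2 ↥Γ := by
  constructor
  · rintro ⟨w, hw, rfl⟩
    exact ⟨w.2, hw⟩
  · rintro ⟨h, hx⟩
    exact ⟨_, hx, rfl⟩

theorem core2_le (Γ : Subgroup G) : core2 Γ ≤ Γ := map_subtype_le _

variable {n : ℕ} {S : Sylow 2 G}

namespace Setting

variable (C : Setting n G S)
include C

/-- An involution of `S̄` whose centralizer is not in the normalizer of `S̄`. -/
def Bad (C : Setting n G S) (u : G ⧸ Cfsg.pCore 2 G) : Prop :=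
  orderOf u = 2 ∧ u ∈ (C.sbar : Subgroup (G ⧸ Cfsg.pCore 2 G)) ∧
    ¬ centralizer ({u} : Set (G ⧸ Cfsg.pCore 2 G)) ≤
      normalizer ((C.sbar : Subgroup (G ⧸ Cfsg.pCore 2 G)) : Set (G ⧸ Cfsg.pCore 2 G))

theorem bad_lift {u : G ⧸ Cfsg.pCore 2 G} (hu : C.Bad u) : ∃ u' ∈ zs S, C.proj u' = u :=
  C.zbar_of_not_le hu.2.1 hu.2.2

theorem proj_normalizer {g : G} (hg : g ∈ normalizer ((S : Subgroup G) : Set G)) :
    C.proj g ∈ normalizer ((C.sbar : Subgroup (G ⧸ Cfsg.pCore 2 G)) : Set (G ⧸ Cfsg.pCore 2 G)) :=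
  le_normalizer_map C.proj ⟨g, hg, rfl⟩

theorem proj_commute {g w : G} :
    Commute (C.proj g) (C.proj w) ↔ g * w * g⁻¹ * w⁻¹ ∈ Cfsg.pCore 2 G := by
  rw [← QuotientGroup.eq_one_iff, commute_iff_eq]
  show _ ↔ C.proj (g * w * g⁻¹ * w⁻¹) = 1
  rw [map_mul, map_mul, map_mul, map_inv, map_inv, mul_inv_eq_one, mul_inv_eq_iff_eq_mul]

theorem normalizer_preimage {g : G}
    (hg : C.proj g ∈ normalizer ((C.sbar : Subgroup (G ⧸ Cfsg.pCore 2 G)) : Set (G ⧸ Cfsg.pCore 2 G))) :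
    g ∈ normalizer ((S : Subgroup G) : Set G) := by
  refine mem_normalizer_iff.2 fun x => ⟨fun hx => C.mem_of_proj S ?_, fun hx => C.mem_of_proj S ?_⟩
  · rw [map_mul, map_mul, map_inv]
    exact (mem_normalizer_iff.1 hg _).1 ⟨x, hx, rfl⟩
  · refine (mem_normalizer_iff.1 hg _).2 ?_
    rw [← map_inv, ← map_mul, ← map_mul]
    exact ⟨_, hx, rfl⟩

variable (hW : ∀ x : G ⧸ Cfsg.pCore 2 G, Odd (orderOf x) →
  x ∈ centralizer ((C.sbar : Subgroup (G ⧸ Cfsg.pCore 2 G)) : Set (G ⧸ Cfsg.pCore 2 G)) → x = 1)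
variable {u v : G ⧸ Cfsg.pCore 2 G}

theorem sylow_le_cOver (hu : C.Bad u) : (S : Subgroup G) ≤ cOver u := by
  obtain ⟨u', hu', rfl⟩ := C.bad_lift hu
  refine sylow_le_twoClosure fun s hs => mem_centralizer_singleton_iff.2 ?_
  show C.proj s * C.proj u' = C.proj u' * C.proj s
  rw [← map_mul, ← map_mul, (mem_zs.1 hu').2 s hs]

theorem cOver_centralizes {u : G ⧸ Cfsg.pCore 2 G} {g : G} (hg : g ∈ cOver u) :
    Commute (C.proj g) u :=
  mem_centralizer_singleton_iff.1 (twoClosure_le _ hg : g ∈ (centralizer {u}).comap C.proj)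

include hW in
theorem cOver_structure (hu : C.Bad u) :
    RankOne (↥(cOver u) ⧸ Cfsg.pCore 2 ↥(cOver u)) ∧
      Consumers.Three (↥(cOver u) ⧸ Cfsg.pCore 2 ↥(cOver u)) ∧
      Cfsg.pCore 2 ↥(cOver u) ≤ center ↥(cOver u) ∧
      ¬ cOver u ≤ normalizer ((S : Subgroup G) : Set G) := by
  obtain ⟨u', hu', rfl⟩ := C.bad_lift hu
  set H := (centralizer ({C.proj u'} : Set (G ⧸ Cfsg.pCore 2 G))).comap C.proj
  have huz : C.proj u' ∈ zs C.sbar := C.zbar_central ⟨u', hu', rfl⟩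
  have hO : Cfsg.oddCore ↥H = ⊥ := by
    have hle : (DGroup.coreIn H).map C.proj ≤
        DGroup.coreIn (centralizer ({C.proj u'} : Set (G ⧸ Cfsg.pCore 2 G))) := by
      refine DGroup.le_coreIn ?_ ?_ ((DGroup.odd_coreIn H).of_dvd_nat (card_map_dvd _ _))
      · rintro _ ⟨w, hw, rfl⟩
        exact DGroup.coreIn_le H hw
      · intro x hx
        obtain ⟨w, rfl⟩ := QuotientGroup.mk'_surjective (Cfsg.pCore 2 G) x
        exact le_normalizer_map C.proj ⟨w, DGroup.normalizer_coreIn H hx, rfl⟩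
    have hbot : DGroup.coreIn H = ⊥ := le_bot_iff.1 fun w hw => by
      obtain ⟨ho, hc⟩ := (C.coreIn_centralizer hu.1 huz).1 (hle ⟨w, hw, rfl⟩)
      obtain ⟨k, hk⟩ := isPGroup_pCore ⟨w, (QuotientGroup.eq_one_iff w).1 (hW _ ho hc)⟩
      exact mem_bot.2 (Consumers.eq_one_of_two_of_odd
        ((DGroup.odd_coreIn H).of_dvd_nat (orderOf_dvd_natCard _ hw)) (congrArg Subtype.val hk :))
    rwa [DGroup.coreIn, Subgroup.map_eq_bot_iff_of_injective _ H.subtype_injective] at hbot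
  refine local_structure C.ih C.meet (C.preimage_lt (C.centralizer_ne_top hu.1 hu.2.1)) hO
    (fun s hs => ?_) C.nonab fun hle => hu.2.2 fun x hx => ?_
  · refine mem_centralizer_singleton_iff.2 ?_
    show C.proj s * C.proj u' = C.proj u' * C.proj s
    rw [← map_mul, ← map_mul, (mem_zs.1 hu').2 s hs]
  · obtain ⟨w, rfl⟩ := QuotientGroup.mk'_surjective (Cfsg.pCore 2 G) x
    exact C.proj_normalizer (hle hx)

theorem core_le_core2 (hu : C.Bad u) : Cfsg.pCore 2 G ≤ core2 (cOver u) := by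
  intro k hk
  have hle : Cfsg.pCore 2 G ≤ cOver u := (C.core_le_sylow S).trans (C.sylow_le_cOver hu)
  refine mem_core2.2 ⟨hle hk, ?_⟩
  have h : (Cfsg.pCore 2 G).subgroupOf (cOver u) ≤ Cfsg.pCore 2 ↥(cOver u) :=
    le_sSup ⟨inferInstance, isPGroup_pCore.comap_of_injective _ (cOver u).subtype_injective⟩
  exact h hk

theorem core2_le_sylow (hu : C.Bad u) : core2 (cOver u) ≤ (S : Subgroup G) := by
  haveI : Fact (Nat.Prime 2) := ⟨Nat.prime_two⟩
  rintro _ ⟨w, hw, rfl⟩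
  exact Fitting.pCore_le_sylow (S.subtype (C.sylow_le_cOver hu)) hw

include hW in
/-- An element of `zs S` of order two modulo the 2-core which is centralized by the normalizer. -/
theorem mem_core2_of_fixed (hu : C.Bad u) {w : G} (hw : w ∈ zs S)
    (hw2 : w * w ∈ Cfsg.pCore 2 G)
    (hfix : ∀ g ∈ cOver u, g ∈ normalizer ((S : Subgroup G) : Set G) →
      g * w * g⁻¹ * w⁻¹ ∈ Cfsg.pCore 2 G) : w ∈ core2 (cOver u) := by
  haveI : Fact (Nat.Prime 2) := ⟨Nat.prime_two⟩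
  obtain ⟨hR, -, -, -⟩ := C.cOver_structure hW hu
  set N := Cfsg.pCore 2 ↥(cOver u)
  set P : Sylow 2 (↥(cOver u) ⧸ N) :=
    (S.subtype (C.sylow_le_cOver hu)).mapSurjective (QuotientGroup.mk'_surjective N)
  set w' : ↥(cOver u) := ⟨w, C.sylow_le_cOver hu hw.1⟩
  set q := QuotientGroup.mk' N
  by_contra hn
  have hqw : q w' ≠ 1 := fun h => hn (mem_core2.2 ⟨_, (QuotientGroup.eq_one_iff w').1 h⟩)
  have hK : ∀ k : ↥(cOver u), (k : G) ∈ Cfsg.pCore 2 G → q k = 1 := fun k hk => by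
    obtain ⟨h, hk'⟩ := mem_core2.1 (C.core_le_core2 hu hk)
    exact (QuotientGroup.eq_one_iff k).2 hk'
  have ho : orderOf (q w') = 2 := Invol.orderOf_eq_two
    (by rw [← map_mul]; exact hK _ hw2) hqw
  have hall : ∀ b : ↥(cOver u) ⧸ N, orderOf b = 2 → b ∈ (P : Subgroup (↥(cOver u) ⧸ N)) → b = q w' := by
    intro b hb hbP
    obtain ⟨m, hm, rfl⟩ := hR.transitive P ho hb ⟨w', hw.1, rfl⟩ hbP
    obtain ⟨g, rfl⟩ := QuotientGroup.mk'_surjective N m
    have hgS : (g : G) ∈ normalizer ((S : Subgroup G) : Set G) := by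
      have key : ∀ x : ↥(cOver u), q x ∈ (P : Subgroup (↥(cOver u) ⧸ N)) → (x : G) ∈ (S : Subgroup G) := by
        rintro x ⟨s, hs, hsx⟩
        have h1 : s⁻¹ * x ∈ N := QuotientGroup.eq.1 hsx
        simpa using mul_mem (show (s : G) ∈ (S : Subgroup G) from hs)
          (C.core2_le_sylow hu (⟨_, h1, rfl⟩ : ((s⁻¹ * x : ↥(cOver u)) : G) ∈ core2 (cOver u)))
      refine mem_normalizer_iff.2 fun x => ⟨fun hx => ?_, fun hx => ?_⟩
      · refine key (g * ⟨x, C.sylow_le_cOver hu hx⟩ * g⁻¹) ?_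
        rw [map_mul, map_mul, map_inv]
        exact (mem_normalizer_iff.1 hm _).1 ⟨_, hx, rfl⟩
      · have hxΓ : x ∈ cOver u := by
          simpa [mul_assoc] using mul_mem (mul_mem (inv_mem g.2) (C.sylow_le_cOver hu hx)) g.2
        refine key ⟨x, hxΓ⟩ ((mem_normalizer_iff.1 hm _).2 ?_)
        rw [← map_inv, ← map_mul, ← map_mul]
        exact ⟨_, hx, rfl⟩
    have h := hK (g * w' * g⁻¹ * w'⁻¹) (hfix g g.2 hgS)
    rwa [map_mul, map_mul, map_mul, map_inv, map_inv, mul_inv_eq_one] at h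
  obtain ⟨a, b, ha, hb, haP, hbP, hab⟩ := hR.two_invols P
  exact hab ((hall a ha haP).trans (hall b hb hbP).symm)

include hW in
theorem self_mem_core2 (hu : C.Bad u) {u' : G} (hu' : u' ∈ zs S) (he : C.proj u' = u) :
    u' ∈ core2 (cOver u) :=
  C.mem_core2_of_fixed hW hu hu' ((QuotientGroup.eq_one_iff _).1 (by
      show C.proj (u' * u') = 1
      rw [map_mul, he, Invol.mul_self_eq_one hu.1]))
    fun g hg _ => C.proj_commute.1 (he.symm ▸ C.cOver_centralizes hg)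

include hW in
/-- If a lift of `u` lies in the core over `v`, then the local subgroup over `v` is inside the one
over `u`, and a lift of `v` lies in that core. -/
theorem mem_of_mem (hu : C.Bad u) (hv : C.Bad v) {u' v' : G} (hu' : u' ∈ zs S)
    (heu : C.proj u' = u) (hv' : v' ∈ zs S) (hev : C.proj v' = v) (h : u' ∈ core2 (cOver v)) :
    v' ∈ core2 (cOver u) := by
  haveI : Fact (Nat.Prime 2) := ⟨Nat.prime_two⟩
  obtain ⟨-, -, hcv, hnv⟩ := C.cOver_structure hW hv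
  obtain ⟨hR, -, -, -⟩ := C.cOver_structure hW hu
  have hle : cOver v ≤ cOver u := by
    have h1 : cOver v ≤ (centralizer ({u} : Set (G ⧸ Cfsg.pCore 2 G))).comap C.proj := fun g hg => by
      refine mem_centralizer_singleton_iff.2 ?_
      obtain ⟨hm, hu2⟩ := mem_core2.1 h
      have h2 : g * u' = u' * g := congrArg Subtype.val (mem_center_iff.1 (hcv hu2) ⟨g, hg⟩)
      show C.proj g * u = u * C.proj g
      rw [← heu, ← map_mul, ← map_mul, h2]
    exact (closure_le _).2 fun x hx => subset_closure ⟨h1 (subset_closure hx), hx.2⟩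
  set N := Cfsg.pCore 2 ↥(cOver u)
  set P : Sylow 2 (↥(cOver u) ⧸ N) :=
    (S.subtype (C.sylow_le_cOver hu)).mapSurjective (QuotientGroup.mk'_surjective N)
  set w' : ↥(cOver u) := ⟨v', C.sylow_le_cOver hu hv'.1⟩
  set q := QuotientGroup.mk' N
  have hK : ∀ k : ↥(cOver u), (k : G) ∈ Cfsg.pCore 2 G → q k = 1 := fun k hk => by
    obtain ⟨h, hk'⟩ := mem_core2.1 (C.core_le_core2 hu hk)
    exact (QuotientGroup.eq_one_iff k).2 hk'
  by_contra hn
  have ho : orderOf (q w') = 2 := Invol.orderOf_eq_two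
    (by
      rw [← map_mul]
      refine hK _ ((QuotientGroup.eq_one_iff _).1 ?_)
      show C.proj (v' * v') = 1
      rw [map_mul, hev, Invol.mul_self_eq_one hv.1])
    fun h => hn (mem_core2.2 ⟨_, (QuotientGroup.eq_one_iff w').1 h⟩)
  refine hnv fun g hg => ?_
  set g' : ↥(cOver u) := ⟨g, hle hg⟩
  have hgP : q g' ∈ normalizer ((P : Subgroup (↥(cOver u) ⧸ N)) : Set (↥(cOver u) ⧸ N)) := by
    refine StrongEmbed.mem_of_commute (hR.se P) (Subgroup.le_normalizer ⟨w', hv'.1, rfl⟩) ho ?_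
    have h1 := hK (g' * w' * g'⁻¹ * w'⁻¹) (C.proj_commute.1 (hev.symm ▸ C.cOver_centralizes hg))
    rwa [map_mul, map_mul, map_mul, map_inv, map_inv, mul_inv_eq_one, mul_inv_eq_iff_eq_mul] at h1
  refine mem_normalizer_of_smul (Sylow.ext (le_antisymm ?_ ?_)) <;> intro x hx
  · rw [mem_smul_iff] at hx
    have hxΓ : x ∈ cOver u := by
      simpa [g', mul_assoc] using mul_mem (mul_mem g'.2 (C.sylow_le_cOver hu hx)) (inv_mem g'.2)
    obtain ⟨s, hs, hsx⟩ : q ⟨x, hxΓ⟩ ∈ (P : Subgroup (↥(cOver u) ⧸ N)) := by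
      have h1 := (mem_normalizer_iff.1 hgP _).1 ⟨⟨_, C.sylow_le_cOver hu hx⟩, hx, rfl⟩
      rw [← map_inv, ← map_mul, ← map_mul] at h1
      convert h1 using 2
      exact Subtype.ext (by simp [g', mul_assoc])
    have h2 : s⁻¹ * ⟨x, hxΓ⟩ ∈ N := QuotientGroup.eq.1 hsx
    simpa using mul_mem (show (s : G) ∈ (S : Subgroup G) from hs)
      (C.core2_le_sylow hu (⟨_, h2, rfl⟩ : ((s⁻¹ * ⟨x, hxΓ⟩ : ↥(cOver u)) : G) ∈ core2 (cOver u)))
  · rw [mem_smul_iff]
    obtain ⟨s, hs, hsx⟩ : q (g'⁻¹ * ⟨x, C.sylow_le_cOver hu hx⟩ * g') ∈ (P : Subgroup (↥(cOver u) ⧸ N)) := by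
      refine (mem_normalizer_iff.1 hgP _).2 ?_
      rw [← map_inv, ← map_mul, ← map_mul]
      refine ⟨⟨x, C.sylow_le_cOver hu hx⟩, hx, congrArg q ?_⟩
      group
    have h2 : s⁻¹ * (g'⁻¹ * ⟨x, C.sylow_le_cOver hu hx⟩ * g') ∈ N := QuotientGroup.eq.1 hsx
    have h3 := mul_mem (show (s : G) ∈ (S : Subgroup G) from hs)
      (C.core2_le_sylow hu (⟨_, h2, rfl⟩ : ((s⁻¹ * (g'⁻¹ * ⟨x, C.sylow_le_cOver hu hx⟩ * g') :
        ↥(cOver u)) : G) ∈ core2 (cOver u)))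
    simpa [g', mul_assoc] using h3

include hW in
/-- The derived group of `S` meets the core trivially when a central element lies outside it. -/
theorem derived_core2 (hu : C.Bad u) {z : G} (hz : z ∈ zs S) (hzn : z ∉ core2 (cOver u)) :
    (∀ b ∈ ⁅(S : Subgroup G), (S : Subgroup G)⁆, b ∈ core2 (cOver u) → b = 1) ∧
      (∀ b ∈ ⁅(S : Subgroup G), (S : Subgroup G)⁆, b ∈ zs S) ∧
      ∀ w ∈ zs S, ∃ b ∈ ⁅(S : Subgroup G), (S : Subgroup G)⁆, w * b⁻¹ ∈ core2 (cOver u) := by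
  haveI : Fact (Nat.Prime 2) := ⟨Nat.prime_two⟩
  obtain ⟨hR, hX, hc, -⟩ := C.cOver_structure hW hu
  have hSΓ := C.sylow_le_cOver hu
  set P : Sylow 2 ↥(cOver u) := S.subtype hSΓ
  have hmap : (P : Subgroup ↥(cOver u)).map (cOver u).subtype = (S : Subgroup G) := by
    rw [Sylow.coe_subtype, map_subgroupOf_eq_of_le hSΓ]
  have hder : ⁅(P : Subgroup ↥(cOver u)), (P : Subgroup ↥(cOver u))⁆.map (cOver u).subtype =
      ⁅(S : Subgroup G), (S : Subgroup G)⁆ := by rw [map_commutator, hmap]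
  have hzs : ∀ w, ∀ h : w ∈ cOver u, (⟨w, h⟩ : ↥(cOver u)) ∈ zs P ↔ w ∈ zs S := fun w h => by
    rw [mem_zs, mem_zs]
    exact ⟨fun ⟨h1, h2⟩ => ⟨h1, fun s hs => congrArg Subtype.val (h2 ⟨s, hSΓ hs⟩ hs)⟩,
      fun ⟨h1, h2⟩ => ⟨h1, fun s hs => Subtype.ext (h2 s hs)⟩⟩
  have hP : ¬ IsMulCommutative (P : Subgroup ↥(cOver u)) := fun hcm => C.nonab ⟨⟨fun a b => Subtype.ext
    (congrArg (fun x : (P : Subgroup ↥(cOver u)) => ((x : ↥(cOver u)) : G))
      (hcm.is_comm.comm ⟨⟨a, hSΓ a.2⟩, a.2⟩ ⟨⟨b, hSΓ b.2⟩, b.2⟩))⟩⟩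
  obtain ⟨hbot, hcen, hdec⟩ := derived_image hc isPGroup_pCore hX hR P hP
    ((hzs z (hSΓ hz.1)).2 hz) (fun h => hzn (mem_core2.2 ⟨_, h⟩))
  refine ⟨fun b hb hbc => ?_, fun b hb => ?_, fun w hw => ?_⟩
  · rw [← hder] at hb
    obtain ⟨b, hb', rfl⟩ := hb
    obtain ⟨_, h2⟩ := mem_core2.1 hbc
    have : b ∈ ⁅(P : Subgroup ↥(cOver u)), (P : Subgroup ↥(cOver u))⁆ ⊓ Cfsg.pCore 2 ↥(cOver u) :=
      ⟨hb', h2⟩
    rw [hbot, mem_bot] at this
    rw [this, map_one]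
  · rw [← hder] at hb
    obtain ⟨b, hb', rfl⟩ := hb
    exact (hzs _ b.2).1 (hcen b hb').2
  · obtain ⟨b, hb, hbw⟩ := hdec _ ((hzs w (hSΓ hw.1)).2 hw)
    exact ⟨b, hder ▸ mem_map_of_mem _ hb, ⟨_, hbw, rfl⟩⟩

include hW in
/-- The fixed point in the coset of the derived group. -/
theorem mem_core2_of_bad (hu : C.Bad u) (hv : C.Bad v) {v' : G} (hv' : v' ∈ zs S)
    (hev : C.proj v' = v) : v' ∈ core2 (cOver u) := by
  classical
  haveI : Fact (Nat.Prime 2) := ⟨Nat.prime_two⟩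
  by_contra hn
  obtain ⟨u', hu', heu⟩ := C.bad_lift hu
  have hun : u' ∉ core2 (cOver v) := fun h => hn (C.mem_of_mem hW hu hv hu' heu hv' hev h)
  obtain ⟨-, -, hdec⟩ := C.derived_core2 hW hu hv' hn
  obtain ⟨hbotv, hzsv, -⟩ := C.derived_core2 hW hv hu' hun
  set B := ⁅(S : Subgroup G), (S : Subgroup G)⁆.map C.proj with hB
  set V := zs C.sbar
  set NS := normalizer ((C.sbar : Subgroup (G ⧸ Cfsg.pCore 2 G)) : Set (G ⧸ Cfsg.pCore 2 G))
  have hBN : ∀ m ∈ NS, ∀ b ∈ B, m * b * m⁻¹ ∈ B := by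
    intro m hm b hb
    have h1 : B.map (MulAut.conj m).toMonoidHom ≤ B := by
      rw [hB, map_commutator, map_commutator]
      have h2 : ((S : Subgroup G).map C.proj).map (MulAut.conj m).toMonoidHom ≤
          (S : Subgroup G).map C.proj := by
        rintro _ ⟨s, hs, rfl⟩
        exact (mem_normalizer_iff.1 hm s).1 hs
      exact commutator_mono h2 h2
    exact h1 ⟨b, hb, rfl⟩
  -- the part of the normalizer fixing the coset of `v`
  let H : Subgroup (G ⧸ Cfsg.pCore 2 G) :=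
    { carrier := {m | m ∈ NS ∧ m * v * m⁻¹ * v⁻¹ ∈ B}
      one_mem' := ⟨one_mem _, by simp⟩
      mul_mem' := fun {a b} ha hb => ⟨mul_mem ha.1 hb.1, by
        have h := mul_mem (hBN a ha.1 _ hb.2) ha.2
        convert h using 1
        group⟩
      inv_mem' := fun {a} ha => ⟨inv_mem ha.1, by
        have h := hBN a⁻¹ (inv_mem ha.1) _ (inv_mem ha.2)
        convert h using 1
        group⟩ }
  have hvV : v ∈ V := hev ▸ C.zbar_central ⟨v', hv', rfl⟩
  have hconjV : ∀ m ∈ NS, ∀ x ∈ V, m * x * m⁻¹ ∈ V := fun m hm x hx =>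
    mem_zs.2 ⟨(mem_normalizer_iff.1 hm x).1 hx.1, fun s hs => by
      have h := (mem_zs.1 hx).2 (m⁻¹ * s * m) ((mem_normalizer_iff.1 hm _).2 (by
        rwa [show m * (m⁻¹ * s * m) * m⁻¹ = s by group]))
      calc s * (m * x * m⁻¹) = m * (m⁻¹ * s * m * x) * m⁻¹ := by group
        _ = m * (x * (m⁻¹ * s * m)) * m⁻¹ := by rw [h]
        _ = _ := by group⟩
  haveI hVc : IsMulCommutative V :=
    ⟨⟨fun a b => Subtype.ext ((mem_zs.1 b.2).2 a a.2.1)⟩⟩
  letI : CommGroup V := { (inferInstance : Group V) with mul_comm := hVc.is_comm.comm }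
  let act : H → V → V := fun m x => ⟨(m : (G ⧸ Cfsg.pCore 2 G)) * x * (m : (G ⧸ Cfsg.pCore 2 G))⁻¹, hconjV m m.2.1 x x.2⟩
  letI : MulAction H V :=
    { smul := act
      one_smul := fun x => Subtype.ext (show (1 : (G ⧸ Cfsg.pCore 2 G)) * x * (1 : (G ⧸ Cfsg.pCore 2 G))⁻¹ = x by simp)
      mul_smul := fun a b x => Subtype.ext (show (a : (G ⧸ Cfsg.pCore 2 G)) * b * x * ((a : (G ⧸ Cfsg.pCore 2 G)) * b)⁻¹ =
        a * (b * x * (b : (G ⧸ Cfsg.pCore 2 G))⁻¹) * (a : (G ⧸ Cfsg.pCore 2 G))⁻¹ by group) }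
  have hsmul : ∀ (m : H) (x : V), ((m • x : V) : (G ⧸ Cfsg.pCore 2 G)) = (m : (G ⧸ Cfsg.pCore 2 G)) * x * (m : (G ⧸ Cfsg.pCore 2 G))⁻¹ := fun _ _ => rfl
  haveI : Fintype V := Fintype.ofFinite V
  set x₀ : V := ⟨v, hvV⟩
  set O : Finset V := Finset.univ.filter fun x => x ∈ MulAction.orbit H x₀
  have hSH : (C.sbar : Subgroup (G ⧸ Cfsg.pCore 2 G)) ≤ H := fun s hs => ⟨Subgroup.le_normalizer hs, by
    rw [(mem_zs.1 hvV).2 s hs, mul_inv_cancel_right, mul_inv_cancel]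
    exact one_mem B⟩
  have hodd : Odd O.card := by
    have h1 : O.card = (MulAction.stabilizer H x₀).index := by
      rw [MulAction.index_stabilizer, ← Set.ncard_coe_finset]
      congr 1
      ext x
      simp [O]
    have h2 : (C.sbar : Subgroup (G ⧸ Cfsg.pCore 2 G)).subgroupOf H ≤ MulAction.stabilizer H x₀ := fun m hm => by
      refine MulAction.mem_stabilizer_iff.2 (Subtype.ext ?_)
      rw [hsmul, (mem_zs.1 hvV).2 (m : (G ⧸ Cfsg.pCore 2 G)) hm, mul_inv_cancel_right]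
    rw [h1, ← Nat.not_even_iff_odd, even_iff_two_dvd]
    intro hd
    refine C.sbar.not_dvd_index (hd.trans ((index_dvd_of_le h2).trans ?_))
    exact relIndex_dvd_index_of_le hSH
  -- the product over the orbit is fixed
  set f : V := ∏ x ∈ O, x
  have hffix : ∀ m : H, m • f = f := by
    intro m
    let φ : V →* V :=
      { toFun := fun x => m • x
        map_one' := Subtype.ext (show (m : (G ⧸ Cfsg.pCore 2 G)) * 1 * (m : (G ⧸ Cfsg.pCore 2 G))⁻¹ = 1 by simp)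
        map_mul' := fun a b => Subtype.ext (show (m : (G ⧸ Cfsg.pCore 2 G)) * (a * b) * (m : (G ⧸ Cfsg.pCore 2 G))⁻¹ =
          (m : (G ⧸ Cfsg.pCore 2 G)) * a * (m : (G ⧸ Cfsg.pCore 2 G))⁻¹ * ((m : (G ⧸ Cfsg.pCore 2 G)) * b * (m : (G ⧸ Cfsg.pCore 2 G))⁻¹) by group) }
    show φ (∏ x ∈ O, x) = ∏ x ∈ O, x
    rw [map_prod]
    refine Finset.prod_bij (fun x _ => m • x) (fun x hx => ?_) (fun a _ b _ h => ?_) (fun y hy => ?_)
      (fun x _ => rfl)
    · simp only [O, Finset.mem_filter, Finset.mem_univ, true_and] at hx ⊢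
      exact (by obtain ⟨k, rfl⟩ := hx; exact ⟨m * k, mul_smul m k x₀⟩)
    · exact MulAction.injective m h
    · refine ⟨m⁻¹ • y, ?_, smul_inv_smul m y⟩
      simp only [O, Finset.mem_filter, Finset.mem_univ, true_and] at hy ⊢
      obtain ⟨k, rfl⟩ := hy
      exact ⟨m⁻¹ * k, mul_smul m⁻¹ k x₀⟩
  have horb : ∀ x ∈ O, ∃ m : H, m • x₀ = x := fun x hx => by
    simpa [O, MulAction.mem_orbit_iff] using hx
  have hxx : x₀ * x₀ = 1 := Subtype.ext (Invol.mul_self_eq_one hv.1)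
  have hff : f * f = 1 := by
    rw [← Finset.prod_mul_distrib]
    refine Finset.prod_eq_one fun x hx => ?_
    obtain ⟨m, rfl⟩ := horb x hx
    refine Subtype.ext ?_
    show (m : (G ⧸ Cfsg.pCore 2 G)) * v * (m : (G ⧸ Cfsg.pCore 2 G))⁻¹ * ((m : (G ⧸ Cfsg.pCore 2 G)) * v * (m : (G ⧸ Cfsg.pCore 2 G))⁻¹) = 1
    rw [conj_mul, Invol.mul_self_eq_one hv.1, mul_one, mul_inv_cancel]
  have hfB : f * x₀⁻¹ ∈ B.subgroupOf V := by
    have h1 : ∏ x ∈ O, x * x₀⁻¹ ∈ B.subgroupOf V := prod_mem fun x hx => by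
      obtain ⟨m, rfl⟩ := horb x hx
      show (m : (G ⧸ Cfsg.pCore 2 G)) * v * (m : (G ⧸ Cfsg.pCore 2 G))⁻¹ * v⁻¹ ∈ B
      exact m.2.2
    rw [Finset.prod_mul_distrib, Finset.prod_const, inv_eq_of_mul_eq_one_right hxx] at h1
    obtain ⟨j, hj⟩ := hodd
    rw [hj, pow_succ, pow_mul, sq, hxx, one_pow, one_mul] at h1
    rwa [inv_eq_of_mul_eq_one_right hxx]
  obtain ⟨b, hb, hbe⟩ : (f : (G ⧸ Cfsg.pCore 2 G)) * v⁻¹ ∈ B := hfB
  have hbzs : b ∈ zs S := hzsv b hb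
  have hw : b * v' ∈ zs S := mul_mem hbzs hv'
  have hwf : C.proj (b * v') = f := by rw [map_mul, hbe, hev, inv_mul_cancel_right]
  have hw2 : b * v' * (b * v') ∈ Cfsg.pCore 2 G := (QuotientGroup.eq_one_iff _).1 (by
    show C.proj (b * v' * (b * v')) = 1
    rw [map_mul, hwf]
    exact congrArg Subtype.val hff)
  have hfix : ∀ w : G ⧸ Cfsg.pCore 2 G, w ∈ H → Commute w (f : (G ⧸ Cfsg.pCore 2 G)) := fun w hw => by
    have h := congrArg Subtype.val (hffix ⟨w, hw⟩)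
    rw [hsmul] at h
    exact mul_inv_eq_iff_eq_mul.1 h
  have hmemu : b * v' ∈ core2 (cOver u) := C.mem_core2_of_fixed hW hu hw hw2 fun g hg hgS => by
    refine C.proj_commute.1 (hwf.symm ▸ hfix _ ⟨C.proj_normalizer hgS, ?_⟩)
    obtain ⟨d, hd, hc⟩ := hdec v' hv'
    obtain ⟨hm, hc'⟩ := mem_core2.1 hc
    obtain ⟨-, -, hcu, -⟩ := C.cOver_structure hW hu
    have hgc : g * (v' * d⁻¹) = v' * d⁻¹ * g :=
      congrArg Subtype.val (mem_center_iff.1 (hcu hc') ⟨g, hg⟩)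
    refine ⟨g * d * g⁻¹ * d⁻¹, mul_mem ?_ (inv_mem hd), ?_⟩
    · have h1 : ⁅(S : Subgroup G), (S : Subgroup G)⁆.map (MulAut.conj g).toMonoidHom ≤
          ⁅(S : Subgroup G), (S : Subgroup G)⁆ := by
        rw [map_commutator]
        have h2 : (S : Subgroup G).map (MulAut.conj g).toMonoidHom ≤ (S : Subgroup G) := by
          rintro _ ⟨s, hs, rfl⟩
          exact (mem_normalizer_iff.1 hgS s).1 hs
        exact commutator_mono h2 h2
      exact h1 ⟨d, hd, rfl⟩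
    · rw [← hev, ← map_inv, ← map_inv, ← map_mul, ← map_mul, ← map_mul]
      refine congrArg C.proj ?_
      calc g * d * g⁻¹ * d⁻¹ = g * d * g⁻¹ * d⁻¹ * (v' * d⁻¹) * (v' * d⁻¹)⁻¹ := by group
        _ = g * d * g⁻¹ * (d⁻¹ * v') * d⁻¹ * (v' * d⁻¹)⁻¹ := by group
        _ = g * d * g⁻¹ * (v' * d⁻¹) * d⁻¹ * (v' * d⁻¹)⁻¹ := by
            rw [(mem_zs.1 hv').2 d⁻¹ (inv_mem (hzsv d hd).1)]
        _ = g * d * (g⁻¹ * (v' * d⁻¹)) * d⁻¹ * (v' * d⁻¹)⁻¹ := by group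
        _ = g * d * ((v' * d⁻¹) * g⁻¹) * d⁻¹ * (v' * d⁻¹)⁻¹ := by
            rw [show g⁻¹ * (v' * d⁻¹) = v' * d⁻¹ * g⁻¹ from (Commute.inv_left hgc).eq]
        _ = g * (d * v') * d⁻¹ * g⁻¹ * d⁻¹ * (v' * d⁻¹)⁻¹ := by group
        _ = g * v' * g⁻¹ * v'⁻¹ := by rw [← (mem_zs.1 (hzsv d hd)).2 v' hv'.1]; group
  have hmemv : b * v' ∈ core2 (cOver v) := C.mem_core2_of_fixed hW hv hw hw2 fun g hg hgS => by
    refine C.proj_commute.1 (hwf.symm ▸ hfix _ ⟨C.proj_normalizer hgS, ?_⟩)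
    rw [(C.cOver_centralizes hg).eq, mul_inv_cancel_right, mul_inv_cancel]
    exact one_mem B
  have hb1 : b = 1 := hbotv b hb (by
    simpa using mul_mem hmemv (inv_mem (C.self_mem_core2 hW hv hv' hev)))
  rw [hb1, one_mul] at hmemu
  exact hn hmemu

include hW in
/-- The local subgroup over `u` centralizes every involution with a large centralizer. -/
theorem cOver_commute_bad (hu : C.Bad u) (hv : C.Bad v) {g : G} (hg : g ∈ cOver u) :
    Commute (C.proj g) v := by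
  obtain ⟨v', hv', rfl⟩ := C.bad_lift hv
  obtain ⟨-, -, hc, -⟩ := C.cOver_structure hW hu
  obtain ⟨hm, h⟩ := mem_core2.1 (C.mem_core2_of_bad hW hu hv hv' rfl)
  have h2 : g * v' = v' * g := congrArg Subtype.val (mem_center_iff.1 (hc h) ⟨g, hg⟩)
  rw [commute_iff_eq, ← map_mul, ← map_mul, h2]

end Setting

end CfsgLib.CentralMeet
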